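import Groth.Agent.AVTors2.Card
import Groth.Agent.GrpSchLib.Descent

/-!
A homomorphism killing the geometric `n`-torsion points is divisible by `n` (`n` invertible).
-/

set_option autoImplicit false
set_option backward.isDefEq.respectTransparency false
set_option backward.isDefEq.respectTransparency.types false
set_option linter.style.haveILetI false
set_option linter.unusedSectionVars false
set_option maxHeartbeats 800000

universe u

open CategoryTheory CategoryTheory.Limits MonoidalCategory CartesianMonoidalCategory MonObj AlgebraicGeometry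

namespace Groth.Agent.AVTors2

variable {k : Type u} [Field k] {A B : Over (Spec (CommRingCat.of k))} [GrpObj A] [IsCommMonObj A] [GrpObj B]

/-- Two morphisms out of the spectrum of a finite unramified algebra agreeing at all geometric points are equal. -/
theorem ext_of_geomPoints {C : Type u} [CommRing C] [Algebra k C] [Module.Finite k C]
    [Algebra.FormallyUnramified k C] (Ω : Type u) [Field Ω] [IsAlgClosed Ω] [Algebra k Ω]
    {Y : Scheme.{u}} (s : Y ⟶ Spec (CommRingCat.of k)) [IsSeparated s]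
    (u v : Spec (CommRingCat.of C) ⟶ Y) (hs : u ≫ s = v ≫ s)
    (h : ∀ σ : C →ₐ[k] Ω, Spec.map (CommRingCat.ofHom σ.toRingHom) ≫ u = Spec.map (CommRingCat.ofHom σ.toRingHom) ≫ v) :
    u = v := by
  haveI : IsReduced C := Algebra.FormallyUnramified.isReduced_of_field k C
  suffices IsDominant (equalizer.ι u v) from
    ext_of_isDominant_of_isSeparated s hs (equalizer.ι u v) (equalizer.condition _ _)
  refine ⟨Function.Surjective.denseRange fun p => ?_⟩
  haveI : IsArtinianRing C := IsArtinianRing.of_finite k C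
  haveI : p.asIdeal.IsMaximal := IsArtinianRing.isMaximal_of_isPrime p.asIdeal
  letI := Ideal.Quotient.field p.asIdeal
  let σ : C →ₐ[k] Ω := (IsAlgClosed.lift (R := k) (S := C ⧸ p.asIdeal) (M := Ω)).comp (Ideal.Quotient.mkₐ k p.asIdeal)
  let pt : Spec (CommRingCat.of Ω) := IsLocalRing.closedPoint Ω
  refine ⟨equalizer.lift (Spec.map (CommRingCat.ofHom σ.toRingHom)) (h σ) pt, ?_⟩
  rw [← Scheme.Hom.comp_apply, equalizer.lift_ι]
  refine PrimeSpectrum.ext ?_
  show (IsLocalRing.maximalIdeal Ω).comap σ.toRingHom = p.asIdeal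
  rw [IsLocalRing.maximalIdeal_eq_bot, ← RingHom.ker_eq_comap_bot]
  refine SetLike.ext fun c => ?_
  rw [RingHom.mem_ker]
  show (IsAlgClosed.lift (R := k) (S := C ⧸ p.asIdeal) (M := Ω)) (Ideal.Quotient.mk p.asIdeal c) = 0 ↔ _
  have hinj : Function.Injective (IsAlgClosed.lift (R := k) (S := C ⧸ p.asIdeal) (M := Ω)) :=
    (IsAlgClosed.lift (R := k) (S := C ⧸ p.asIdeal) (M := Ω)).toRingHom.injective
  exact (map_eq_zero_iff _ hinj).trans Ideal.Quotient.eq_zero_iff_mem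

variable [IsProper A.hom] [GeometricallyIntegral A.hom] [IsSeparated B.hom]

/-- A homomorphism killing the geometric `n`-torsion kills the `n`-torsion with values anywhere. -/
theorem comp_eq_one_of_tors (φ : A ⟶ B) {n : ℕ} (hn : (n : k) ≠ 0) (Ω : Type u) [Field Ω] [IsAlgClosed Ω]
    [Algebra k Ω]
    (h : ∀ a : Over.mk (Spec.map (CommRingCat.ofHom (algebraMap k Ω))) ⟶ A, a ^ n = 1 → a ≫ φ = 1)
    {T : Over (Spec (CommRingCat.of k))} (x : T ⟶ A) (hx : x ^ n = 1) : x ≫ φ = 1 := by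
  have hn1 : 1 ≤ n := Nat.pos_of_ne_zero (by rintro rfl; exact hn Nat.cast_zero)
  haveI he : Etale (𝟙 A ^ n : A ⟶ A).left := etale_pow hn
  haveI hf : IsFinite (𝟙 A ^ n : A ⟶ A).left := AVMulN.isFinite_pow (A := A) n hn1
  let q := Limits.pullback.fst (η[A]).left (𝟙 A ^ n : A ⟶ A).left
  have hqe : Etale q := MorphismProperty.pullback_fst (P := @Etale) _ _ he
  have hqf : IsFinite q := MorphismProperty.pullback_fst (P := @IsFinite) _ _ hf
  haveI : IsAffine (𝟙_ (Over (Spec (CommRingCat.of k)))).left := inferInstanceAs (IsAffine (Spec (CommRingCat.of k)))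
  haveI : IsAffine (H23.TorsRed.tors A n) := isAffine_of_isAffineHom q
  let N := H23.TorsRed.tors A n
  obtain ⟨ψ, hψ⟩ := Spec.map_surjective (N.isoSpec.inv ≫ q)
  letI : Algebra k Γ(N, ⊤) := ψ.hom.toAlgebra
  have h1 : IsFinite (Spec.map ψ) := by rw [hψ]; infer_instance
  have h2 : Etale (Spec.map ψ) := by rw [hψ]; infer_instance
  haveI : Module.Finite k Γ(N, ⊤) := by
    rw [IsFinite.SpecMap_iff] at h1; exact h1
  haveI : Algebra.Etale k Γ(N, ⊤) := by
    rw [HasRingHomProperty.Spec_iff (P := @Etale)] at h2; exact h2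
  let u := N.isoSpec.inv ≫ pullback.snd (η[A]).left (𝟙 A ^ n : A ⟶ A).left ≫ φ.left
  let v := N.isoSpec.inv ≫ q ≫ (η[B]).left
  have huv : u = v := by
    refine ext_of_geomPoints (k := k) Ω B.hom u v ?_ fun σ => ?_
    · simp only [u, v, Category.assoc, Over.w φ, Over.w η[B]]
      rw [← Over.w (𝟙 A ^ n : A ⟶ A), ← pullback.condition_assoc, Over.w η[A]]
    · let t := (sectEquiv q ψ hψ Ω).symm σ
      let T₀ : Over (Spec (CommRingCat.of k)) := Over.mk (Spec.map (CommRingCat.ofHom (algebraMap k Ω)))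
      let a := (H23.TorsRed.ptsEquiv A n T₀).symm ⟨t.1, t.2⟩
      have h3 : (a.1 ≫ φ).left = (1 : T₀ ⟶ B).left := congrArg CommaMorphism.left (h a.1 a.2)
      have ht : t.1 = Spec.map (CommRingCat.ofHom σ.toRingHom) ≫ N.isoSpec.inv := rfl
      have h4 : (t.1 ≫ pullback.snd _ _) ≫ φ.left = T₀.hom ≫ (η[B]).left := h3
      simp only [u, v, ← Category.assoc, ← ht]
      rw [h4]
      exact congrArg (· ≫ (η[B]).left) t.2.symm
  let t := H23.TorsRed.ptsEquiv A n T ⟨x, hx⟩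
  ext
  have h4 : x.left = t.1 ≫ pullback.snd _ _ := (pullback.lift_snd _ _ _).symm
  show x.left ≫ φ.left = T.hom ≫ (η[B]).left
  have h5 := congrArg (fun z => t.1 ≫ N.isoSpec.hom ≫ z) huv
  simp only [u, v, Iso.hom_inv_id_assoc] at h5
  rw [h4, Category.assoc, h5, ← Category.assoc, t.2]

/-- A homomorphism killing the `n`-torsion factors through multiplication by `n`. -/
theorem exists_eq_pow_comp (φ : A ⟶ B) [IsMonHom φ] {n : ℕ} (hn : (n : k) ≠ 0) (Ω : Type u) [Field Ω] [IsAlgClosed Ω]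
    [Algebra k Ω]
    (h : ∀ a : Over.mk (Spec.map (CommRingCat.ofHom (algebraMap k Ω))) ⟶ A, a ^ n = 1 → a ≫ φ = 1) :
    ∃ ψ : A ⟶ B, IsMonHom ψ ∧ φ = (𝟙 A ^ n) ≫ ψ := by
  have hn1 : 1 ≤ n := Nat.pos_of_ne_zero (by rintro rfl; exact hn Nat.cast_zero)
  haveI := AVMulN.surjective_pow (A := A) n hn1
  haveI := AVDegLib.flat_pow (A := A) n hn1
  haveI := AVMulN.isFinite_pow (A := A) n hn1
  haveI := AVDegLib.isMonHom_pow (A := A) n
  let l := EffectiveEpi.desc (𝟙 A ^ n : A ⟶ A).left φ.left fun {Z} g₁ g₂ e => by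
    let Z' : Over (Spec (CommRingCat.of k)) := Over.mk (g₁ ≫ A.hom)
    have hg : g₂ ≫ A.hom = g₁ ≫ A.hom := by
      rw [← Over.w (𝟙 A ^ n : A ⟶ A), reassoc_of% e]
    let x₁ : Z' ⟶ A := Over.homMk g₁ rfl
    let x₂ : Z' ⟶ A := Over.homMk g₂ hg
    have hx : x₁ ≫ (𝟙 A ^ n) = x₂ ≫ (𝟙 A ^ n) := Over.OverMorphism.ext e
    rw [MonObj.comp_pow, MonObj.comp_pow, Category.comp_id, Category.comp_id] at hx
    have h1 := comp_eq_one_of_tors φ hn Ω h (x₁ / x₂) (by rw [div_pow, hx, div_self'])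
    have h2 : x₁ ≫ φ = x₂ ≫ φ := by
      calc x₁ ≫ φ = ((x₁ / x₂) * x₂) ≫ φ := by rw [div_mul_cancel]
        _ = x₂ ≫ φ := by rw [MonObj.mul_comp, h1, _root_.one_mul]
    exact congrArg CommaMorphism.left h2
  have hfac : (𝟙 A ^ n : A ⟶ A).left ≫ l = φ.left := EffectiveEpi.fac _ _ _
  haveI : Epi (𝟙 A ^ n : A ⟶ A).left := inferInstance
  let ψ : A ⟶ B := Over.homMk l (by
    rw [← cancel_epi (𝟙 A ^ n : A ⟶ A).left, ← Category.assoc, hfac, Over.w φ, Over.w (𝟙 A ^ n : A ⟶ A)])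
  have hψ : φ = (𝟙 A ^ n) ≫ ψ := Over.OverMorphism.ext hfac.symm
  haveI : Epi (𝟙 A ^ n : A ⟶ A) := Over.epi_of_epi_left _
  refine ⟨ψ, ⟨?_, ?_⟩, hψ⟩
  · rw [← IsMonHom.one_hom (f := (𝟙 A ^ n : A ⟶ A)), Category.assoc, ← hψ, IsMonHom.one_hom]
  · haveI : Epi ((𝟙 A ^ n : A ⟶ A) ⊗ₘ (𝟙 A ^ n : A ⟶ A)) := by
      haveI : Epi ((𝟙 A ^ n : A ⟶ A) ▷ A) :=
        GrpSchLib.IsCover.epi ⟨GrpSchLib.property_whiskerRight _ A @Flat inferInstance,
          GrpSchLib.property_whiskerRight _ A @Surjective inferInstance,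
          GrpSchLib.property_whiskerRight _ A @QuasiCompact inferInstance⟩
      haveI : Epi (A ◁ (𝟙 A ^ n : A ⟶ A)) := by
        have e : A ◁ (𝟙 A ^ n : A ⟶ A) = (β_ A A).hom ≫ ((𝟙 A ^ n : A ⟶ A) ▷ A) ≫ (β_ A A).hom := by
          rw [BraidedCategory.braiding_naturality_left]
          simp
        rw [e]
        infer_instance
      rw [MonoidalCategory.tensorHom_def]
      infer_instance
    rw [← cancel_epi ((𝟙 A ^ n : A ⟶ A) ⊗ₘ (𝟙 A ^ n : A ⟶ A)), ← reassoc_of% (IsMonHom.mul_hom (f := (𝟙 A ^ n : A ⟶ A))),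
      ← hψ, IsMonHom.mul_hom (f := φ), hψ, ← MonoidalCategory.tensorHom_comp_tensorHom_assoc]

end Groth.Agent.AVTors2
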