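import Mathlib.LinearAlgebra.FreeModule.PID
import Mathlib.Algebra.Module.Torsion.Free
import Mathlib.RingTheory.Noetherian.Basic
import Mathlib.RingTheory.Noetherian.Nilpotent
import Mathlib.RingTheory.PrincipalIdealDomain
import Mathlib.RingTheory.Finiteness.Basic
import Mathlib.LinearAlgebra.StdBasis
import Mathlib.Algebra.EuclideanDomain.Int
import Mathlib.RingTheory.Finiteness.Cardinality
import Mathlib.LinearAlgebra.Finsupp.LinearCombination

/-!
The saturation of a finitely generated subgroup of a group with an anisotropic family of integral bilinear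
forms is finitely generated and free.
-/

universe u v

namespace Groth.Agent.AVTors2

variable {N : Type u} [AddCommGroup N] {ι : Type v} (B : ι → N →+ N →+ ℤ)

include B in
theorem isTorsionFree_of_forms (hB : ∀ x : N, x ≠ 0 → ∃ i, B i x x ≠ 0) {x : N} {m : ℤ} (hm : m ≠ 0)
    (h : m • x = 0) : x = 0 := by
  by_contra hx
  obtain ⟨i, hi⟩ := hB x hx
  have h1 : B i (m • x) x = 0 := by rw [h, map_zero, AddMonoidHom.zero_apply]
  rw [map_zsmul, AddMonoidHom.zsmul_apply, smul_eq_mul] at h1
  exact hi ((mul_eq_zero.1 h1).resolve_left hm)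

/-- The saturation. -/
def saturation (M : Submodule ℤ N) : Submodule ℤ N where
  carrier := {x | ∃ m : ℤ, m ≠ 0 ∧ m • x ∈ M}
  zero_mem' := ⟨1, one_ne_zero, by simp⟩
  add_mem' := by
    rintro x y ⟨m, hm, hx⟩ ⟨n, hn, hy⟩
    refine ⟨m * n, mul_ne_zero hm hn, ?_⟩
    rw [smul_add]
    exact M.add_mem (by rw [mul_comm, mul_smul]; exact M.smul_mem n hx) (by rw [mul_smul]; exact M.smul_mem m hy)
  smul_mem' := by
    rintro c x ⟨m, hm, hx⟩
    exact ⟨m, hm, by rw [smul_comm]; exact M.smul_mem c hx⟩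

theorem le_saturation (M : Submodule ℤ N) : M ≤ saturation M := fun x hx => ⟨1, one_ne_zero, by simpa using hx⟩

include B in
theorem saturation_finite_free (hB : ∀ x : N, x ≠ 0 → ∃ i, B i x x ≠ 0) {r : ℕ} (v : Fin r → N) :
    Module.Finite ℤ (saturation (Submodule.span ℤ (Set.range v))) ∧
      Module.Free ℤ (saturation (Submodule.span ℤ (Set.range v))) := by
  classical
  let vec : ι × Fin r → (Fin r → ℤ) := fun p l => B p.1 (v l) (v p.2)
  obtain ⟨s, hs⟩ := IsNoetherian.noetherian (Submodule.span ℤ (Set.range vec))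
  have hs' : ∀ z ∈ s, ∃ F : Finset (ι × Fin r), z ∈ Submodule.span ℤ (vec '' F) := fun z hz => by
    have h1 : z ∈ Submodule.span ℤ (Set.range vec) := hs ▸ Submodule.subset_span hz
    obtain ⟨T, hT, hzT⟩ := Submodule.mem_span_finite_of_mem_span h1
    choose p hp using fun t : T => hT t.2
    refine ⟨Finset.univ.image p, Submodule.span_mono ?_ hzT⟩
    exact fun t ht => ⟨p ⟨t, ht⟩, by simp, hp _⟩
  choose F hF using hs'
  let G : Finset (ι × Fin r) := s.attach.biUnion fun z => F z.1 z.2
  let Φ : saturation (Submodule.span ℤ (Set.range v)) →ₗ[ℤ] (G → ℤ) :=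
    LinearMap.pi fun p => ((B p.1.1).flip (v p.1.2)).toIntLinearMap.comp (Submodule.subtype _)
  have hinj : Function.Injective Φ := by
    rw [← LinearMap.ker_eq_bot, Submodule.eq_bot_iff]
    rintro ⟨x, m, hm, hx⟩ h0
    apply Subtype.ext
    show x = 0
    obtain ⟨c, hc⟩ := (Submodule.mem_span_range_iff_exists_fun ℤ).1 hx
    have key : ∀ p : ι × Fin r, ∑ l, c l * vec p l = B p.1 (m • x) (v p.2) := fun p => by
      rw [← hc, map_sum, AddMonoidHom.finsetSum_apply]
      refine Finset.sum_congr rfl fun l _ => ?_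
      rw [map_zsmul, AddMonoidHom.zsmul_apply, smul_eq_mul]
    have hzero : ∀ w ∈ Submodule.span ℤ (Set.range vec), ∑ l, c l * w l = 0 := by
      let L : (Fin r → ℤ) →ₗ[ℤ] ℤ := ∑ l, c l • LinearMap.proj l
      have hL : ∀ w, L w = ∑ l, c l * w l := fun w => by simp [L]
      suffices Submodule.span ℤ (Set.range vec) ≤ LinearMap.ker L from fun w hw => (hL w).symm.trans (this hw)
      rw [← hs, Submodule.span_le]
      intro z hz
      refine (Submodule.span_le.2 ?_) (hF z hz)
      rintro _ ⟨p, hp, rfl⟩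
      show L (vec p) = 0
      rw [hL, key]
      have hpG : p ∈ G := Finset.mem_biUnion.2 ⟨⟨z, hz⟩, Finset.mem_attach _ _, hp⟩
      have h1 : B p.1 x (v p.2) = 0 := congrFun h0 ⟨p, hpG⟩
      rw [map_zsmul, AddMonoidHom.zsmul_apply, h1, smul_zero]
    refine isTorsionFree_of_forms B hB hm (by_contra fun hne => ?_)
    obtain ⟨i, hi⟩ := hB _ hne
    apply hi
    conv_lhs => arg 2; rw [← hc]
    rw [map_sum]
    refine Finset.sum_eq_zero fun j _ => ?_
    rw [map_zsmul, ← key (i, j), hzero _ (Submodule.subset_span ⟨(i, j), rfl⟩), smul_zero]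
  haveI : Module.Finite ℤ (saturation (Submodule.span ℤ (Set.range v))) :=
    Module.Finite.of_injective Φ hinj
  haveI : Module.IsTorsionFree ℤ (saturation (Submodule.span ℤ (Set.range v))) :=
    hinj.moduleIsTorsionFree Φ (map_smul Φ)
  exact ⟨inferInstance, Module.free_of_finite_type_torsion_free'⟩

end Groth.Agent.AVTors2
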