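import Groth.Prelude.Def_AbDual
import Mathlib.NumberTheory.Padics.PadicIntegers
import Mathlib.LinearAlgebra.Dimension.Free
import Mathlib.LinearAlgebra.FreeModule.PID

/-!
The Tate module of a group of points with finite `l`-torsion is free of finite rank over `ℤ_l`; its rank is the
exponent when `#A[l^n] = l^{rn}` for all `n`.
-/

set_option autoImplicit false
set_option maxHeartbeats 800000
set_option linter.unusedSectionVars false
set_option linter.style.haveILetI false

universe u

open CategoryTheory MonoidalCategory CartesianMonoidalCategory MonObj AlgebraicGeometry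

namespace Groth.Agent.AVTors2

variable {S : Scheme.{u}} {A : Over S} [GrpObj A] [IsCommMonObj A] {l : ℕ} [hl : Fact l.Prime] {T : Over S}

open AbDual

/-- The `n`-th component of an element of the Tate module. -/
noncomputable abbrev cp (n : ℕ) : TateMod A l T →+ Additive (T ⟶ A) := TateMod.component A l T n

theorem cp_natCast_smul (n c : ℕ) (x : TateMod A l T) : cp n ((c : ℤ_[l]) • x) = c • cp n x := by
  rw [Nat.cast_smul_eq_nsmul, map_nsmul]

theorem tate_ext {x y : TateMod A l T} (h : ∀ n, cp n x = cp n y) : x = y := TateMod.ext h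

theorem cp_zero (x : TateMod A l T) : cp 0 x = 0 := by
  have := TateMod.torsion x 0
  rwa [pow_zero, one_nsmul] at this

/-- An element with vanishing `m`-th component is divisible by `l^m`. -/
theorem exists_eq_pow_smul (m : ℕ) (x : TateMod A l T) (h : cp m x = 0) : ∃ y, x = (l : ℤ_[l]) ^ m • y := by
  have key : ∀ j i, (l ^ j) • cp (i + j) x = cp i x := by
    intro j i
    induction j with
    | zero => rw [pow_zero, one_nsmul]; rfl
    | succ j ih =>
      rw [pow_succ, mul_nsmul', ← ih, show i + (j + 1) = i + j + 1 by omega]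
      exact congrArg _ (TateMod.compat x (i + j))
  refine ⟨⟨fun n => cp (n + m) x, ⟨fun n => ?_, fun n => ?_⟩⟩, tate_ext fun n => ?_⟩
  · show (l ^ n) • cp (n + m) x = 0
    rw [show n + m = m + n by omega, key n m, h]
  · show l • cp (n + 1 + m) x = cp (n + m) x
    rw [show n + 1 + m = n + m + 1 by omega]
    exact TateMod.compat x (n + m)
  · rw [← Nat.cast_pow, cp_natCast_smul]
    exact (key m n).symm

theorem smul_eq_zero_imp {x : TateMod A l T} (m : ℕ) (h : (l : ℤ_[l]) ^ m • x = 0) : x = 0 := by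
  induction m with
  | zero => simpa using h
  | succ m ih =>
    apply ih
    apply tate_ext
    intro n
    have h1 := congrArg (cp (n + 1)) h
    rw [← Nat.cast_pow, cp_natCast_smul, pow_succ, mul_nsmul', map_zero] at h1
    rw [← Nat.cast_pow, cp_natCast_smul, map_zero, show cp n x = l • cp (n + 1) x from (TateMod.compat x n).symm]
    exact h1

instance isTorsionFree : Module.IsTorsionFree ℤ_[l] (TateMod A l T) := by
  refine Module.IsTorsionFree.of_smul_eq_zero fun a x h => ?_
  by_cases ha : a = 0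
  · exact Or.inl ha
  · right
    rw [PadicInt.unitCoeff_spec ha, mul_smul] at h
    exact smul_eq_zero_imp _ ((IsUnit.smul_eq_zero (PadicInt.unitCoeff ha).isUnit).1 h)

/-- Approximation by integer combinations. -/
theorem mem_range_of_generators {r : ℕ} (ψ : (Fin r → ℤ_[l]) →ₗ[ℤ_[l]] TateMod A l T)
    (h : ∀ x : TateMod A l T, ∃ d : Fin r → ℤ_[l], cp 1 (ψ d) = cp 1 x) : Function.Surjective ψ := by
  intro x
  choose D hD using fun y => h y
  have hstep : ∀ y, ∃ y', y = ψ (D y) + (l : ℤ_[l]) • y' := fun y => by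
    obtain ⟨y', hy'⟩ := exists_eq_pow_smul 1 (y - ψ (D y)) (by rw [map_sub, hD, sub_self])
    exact ⟨y', by rw [pow_one] at hy'; rw [← hy', add_sub_cancel]⟩
  choose next hnext using hstep
  let y : ℕ → TateMod A l T := fun n => n.rec x fun _ z => next z
  let s : ℕ → (Fin r → ℤ_[l]) := fun n => n.rec 0 fun j t => t + (l : ℤ_[l]) ^ j • D (y j)
  have hs : ∀ n, x = ψ (s n) + (l : ℤ_[l]) ^ n • y n := by
    intro n
    induction n with
    | zero => simp [s, y]
    | succ n ih =>
      rw [show s (n + 1) = s n + (l : ℤ_[l]) ^ n • D (y n) from rfl, show y (n + 1) = next (y n) from rfl, map_add,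
        map_smul, pow_succ, mul_smul, add_assoc, ← smul_add, ← hnext]
      exact ih
  have hcauchy : ∀ {m n}, m ≤ n → ∀ i, (l : ℤ_[l]) ^ m ∣ s n i - s m i := by
    intro m n hmn i
    induction n, hmn using Nat.le_induction with
    | base => simp
    | succ n hmn ih =>
      rw [show s (n + 1) i = s n i + (l : ℤ_[l]) ^ n * D (y n) i from rfl, add_sub_right_comm]
      exact dvd_add ih (Dvd.dvd.mul_right (pow_dvd_pow _ hmn) _)
  have hlim : ∀ i, ∃ c : ℤ_[l], ∀ n, (l : ℤ_[l]) ^ n ∣ s n i - c := by
    intro i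
    obtain ⟨c, hc⟩ := IsPrecomplete.prec (I := IsLocalRing.maximalIdeal ℤ_[l]) (M := ℤ_[l]) inferInstance
      (f := fun n => s n i) (by
        intro m n hmn
        rw [SModEq.sub_mem, Ideal.smul_top_eq_map, Algebra.algebraMap_self, Ideal.map_id,
          Submodule.restrictScalars_self, PadicInt.maximalIdeal_eq_span_p, Ideal.span_singleton_pow,
          Ideal.mem_span_singleton, ← dvd_neg, neg_sub]
        exact hcauchy hmn i)
    refine ⟨c, fun n => ?_⟩
    have := hc n
    rwa [SModEq.sub_mem, Ideal.smul_top_eq_map, Algebra.algebraMap_self, Ideal.map_id,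
      Submodule.restrictScalars_self, PadicInt.maximalIdeal_eq_span_p, Ideal.span_singleton_pow,
      Ideal.mem_span_singleton] at this
  choose c hc using hlim
  refine ⟨c, tate_ext fun n => ?_⟩
  choose e he using fun i => hc i n
  have h1 : c = s n - (l : ℤ_[l]) ^ n • e := by
    funext i
    show c i = s n i - (l : ℤ_[l]) ^ n * e i
    rw [← he]; ring
  conv_rhs => rw [hs n]
  rw [h1, map_sub, map_smul, map_sub, map_add, ← Nat.cast_pow, cp_natCast_smul, cp_natCast_smul]
  have z : ∀ w : TateMod A l T, (l ^ n) • cp n w = 0 := fun w => TateMod.torsion w n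
  rw [z, z, sub_zero, add_zero]

/-- With finitely many `l`-torsion points the Tate module is finitely generated and free. -/
theorem finite_free (hfin : Finite (AbDual.torsPts A l T)) :
    Module.Finite ℤ_[l] (TateMod A l T) ∧ Module.Free ℤ_[l] (TateMod A l T) := by
  haveI := hfin
  have hmem : ∀ x : TateMod A l T, (cp 1 x).toMul ∈ AbDual.torsPts A l T := fun x => by
    simpa using TateMod.component_mem (A := A) (l := l) (T := T) x 1
  let f : TateMod A l T → AbDual.torsPts A l T := fun x => ⟨(cp 1 x).toMul, hmem x⟩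
  haveI : Finite (Set.range f) := inferInstance
  choose pre hpre using fun z : Set.range f => z.2
  haveI := Fintype.ofFinite (Set.range f)
  let e := Fintype.equivFin (Set.range f)
  let ψ := Fintype.linearCombination ℤ_[l] (fun i => pre (e.symm i))
  have hsurj : Function.Surjective ψ := mem_range_of_generators ψ fun x => by
    refine ⟨Pi.single (e ⟨f x, x, rfl⟩) 1, ?_⟩
    have h := congrArg Subtype.val (hpre ⟨f x, x, rfl⟩)
    rw [Fintype.linearCombination_apply_single, one_smul, Equiv.symm_apply_apply]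
    exact congrArg Additive.ofMul h
  haveI : Module.Finite ℤ_[l] (TateMod A l T) := Module.Finite.of_surjective ψ hsurj
  exact ⟨inferInstance, Module.free_of_finite_type_torsion_free'⟩

section count

variable {r : ℕ} (hc : ∀ n : ℕ, Nat.card (AbDual.torsPts A (l ^ n) T) = (l ^ n) ^ r)

include hc

theorem finite_tors (n : ℕ) : Finite (AbDual.torsPts A (l ^ n) T) :=
  Nat.finite_of_card_ne_zero (by rw [hc]; exact pow_ne_zero _ (pow_ne_zero _ hl.out.ne_zero))

/-- Multiplication by `l` from `A[l^(n+1)]` onto `A[l^n]`. -/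
theorem exists_root (n : ℕ) {a : T ⟶ A} (ha : a ^ l ^ n = 1) : ∃ b : T ⟶ A, b ^ l ^ (n + 1) = 1 ∧ b ^ l = a := by
  haveI := finite_tors hc n
  haveI := finite_tors hc (n + 1)
  haveI := finite_tors hc 1
  let f : AbDual.torsPts A (l ^ (n + 1)) T →* AbDual.torsPts A (l ^ n) T :=
    MonoidHom.mk' (fun b => ⟨b.1 ^ l, by
      rw [AbDual.mem_torsPts, ← pow_mul, ← pow_succ']; exact b.2⟩) fun b b' => Subtype.ext (mul_pow _ _ _)
  have hker : Nat.card f.ker ≤ l ^ r := by
    refine (Nat.card_le_card_of_injective (β := AbDual.torsPts A (l ^ 1) T) (fun b => ⟨b.1.1, by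
      rw [AbDual.mem_torsPts, pow_one]; exact congrArg Subtype.val b.2⟩) ?_).trans_eq (by rw [hc, pow_one])
    intro b b' h
    exact Subtype.ext (Subtype.ext (congrArg (fun z : AbDual.torsPts A (l ^ 1) T => z.1) h))
  have h1 := f.ker.card_eq_card_quotient_mul_card_subgroup
  rw [Nat.card_congr (QuotientGroup.quotientKerEquivRange f).toEquiv, hc] at h1
  have h2 : Nat.card f.range = Nat.card (AbDual.torsPts A (l ^ n) T) := by
    refine le_antisymm (Nat.card_le_card_of_injective _ Subtype.val_injective) ?_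
    rw [hc]
    refine Nat.le_of_mul_le_mul_right ?_ (pow_pos hl.out.pos r)
    calc (l ^ n) ^ r * l ^ r = (l ^ (n + 1)) ^ r := by rw [← mul_pow, ← pow_succ]
      _ = Nat.card f.range * Nat.card f.ker := h1
      _ ≤ Nat.card f.range * l ^ r := Nat.mul_le_mul_left _ hker
  obtain ⟨b, hb⟩ := (Subgroup.card_eq_iff_eq_top f.range).1 h2 ▸ Subgroup.mem_top (⟨a, ha⟩ : AbDual.torsPts A (l ^ n) T)
  exact ⟨b.1, b.2, congrArg Subtype.val hb⟩

/-- Every `l^n`-torsion point is a component of an element of the Tate module. -/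
theorem exists_component (n : ℕ) {a : T ⟶ A} (ha : a ^ l ^ n = 1) : ∃ x : TateMod A l T, (cp n x).toMul = a := by
  choose root hroot using fun (m : ℕ) (b : {b : T ⟶ A // b ^ l ^ m = 1}) => exists_root hc m b.2
  let up : ∀ j : ℕ, {b : T ⟶ A // b ^ l ^ (n + j) = 1} :=
    fun j => j.rec ⟨a, ha⟩ fun i b => ⟨root (n + i) b, (hroot (n + i) b).1⟩
  have hup : ∀ j, (up (j + 1)).1 ^ l = (up j).1 := fun j => (hroot (n + j) (up j)).2
  have hpow : ∀ j, (up j).1 ^ l ^ j = a := by
    intro j
    induction j with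
    | zero => rw [pow_zero, pow_one]; rfl
    | succ j ih => rw [pow_succ', pow_mul, hup, ih]
  refine ⟨⟨fun m => Additive.ofMul ((up m).1 ^ l ^ n), ⟨fun m => ?_, fun m => ?_⟩⟩, ?_⟩
  · show Additive.ofMul (((up m).1 ^ l ^ n) ^ l ^ m) = Additive.ofMul 1
    rw [← pow_mul, ← pow_add, (up m).2]
  · show Additive.ofMul (((up (m + 1)).1 ^ l ^ n) ^ l) = Additive.ofMul ((up m).1 ^ l ^ n)
    rw [← pow_mul, mul_comm, pow_mul, hup]
  · exact hpow n

theorem finrank_eq : Module.finrank ℤ_[l] (TateMod A l T) = r := by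
  obtain ⟨hF, hFr⟩ := finite_free (A := A) (T := T) (l := l) (by simpa using finite_tors hc 1)
  classical
  let b := Module.Free.chooseBasis ℤ_[l] (TateMod A l T)
  rw [Module.finrank_eq_card_chooseBasisIndex]
  haveI := finite_tors hc 1
  let g : (Module.Free.ChooseBasisIndex ℤ_[l] (TateMod A l T) → Fin l) → AbDual.torsPts A (l ^ 1) T := fun c =>
    ⟨(cp 1 (∑ i, ((c i : ℕ) : ℤ_[l]) • b i)).toMul, TateMod.component_mem _ 1⟩
  have hinj : Function.Injective g := by
    intro c c' h
    have h0 : cp 1 (∑ i, ((c i : ℕ) : ℤ_[l]) • b i - ∑ i, ((c' i : ℕ) : ℤ_[l]) • b i) = 0 := by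
      rw [map_sub, sub_eq_zero]
      exact congrArg (fun z : AbDual.torsPts A (l ^ 1) T => Additive.ofMul z.1) h
    obtain ⟨y, hy⟩ := exists_eq_pow_smul 1 _ h0
    funext i
    have := congrArg (fun z => b.repr z i) hy
    simp only [map_sub, map_smul, pow_one, Finsupp.coe_sub, Pi.sub_apply, Finsupp.coe_smul, Pi.smul_apply,
      smul_eq_mul, b.repr_sum_self] at this
    have h2 : PadicInt.toZMod (p := l) (((c i : ℕ) : ℤ_[l]) - ((c' i : ℕ) : ℤ_[l])) = 0 := by
      rw [this, map_mul, map_natCast, ZMod.natCast_self, zero_mul]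
    rw [map_sub, map_natCast, map_natCast, sub_eq_zero, ZMod.natCast_eq_natCast_iff', Nat.mod_eq_of_lt (c i).2,
      Nat.mod_eq_of_lt (c' i).2] at h2
    exact Fin.ext h2
  have hsurj : Function.Surjective g := by
    rintro ⟨a, ha⟩
    obtain ⟨x, hx⟩ := exists_component hc 1 ha
    refine ⟨fun i => ⟨(b.repr x i).appr 1, by simpa using PadicInt.appr_lt (b.repr x i) 1⟩, Subtype.ext ?_⟩
    show (cp 1 _).toMul = a
    refine Eq.trans ?_ hx
    conv_rhs => rw [← b.sum_repr x]
    refine congrArg Additive.toMul ?_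
    rw [map_sum, map_sum]
    refine Finset.sum_congr rfl fun i _ => ?_
    rw [cp_natCast_smul]
    exact (AbDual.smul_component _ _ 1).symm
  have := Nat.card_congr (Equiv.ofBijective g ⟨hinj, hsurj⟩)
  rw [hc, Nat.card_fun, Nat.card_eq_fintype_card (α := Fin l), Fintype.card_fin, Nat.card_eq_fintype_card,
    pow_one] at this
  exact Nat.pow_right_injective hl.out.two_le this

end count

end Groth.Agent.AVTors2
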