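import Groth.Agent.AVTors2.HomForm
import Groth.Agent.AVTors2.Lattice
import Groth.Agent.AVTors2.Tate
import Groth.Agent.AVTors2.Factor
import Groth.Prelude.Def_EndTate
import Mathlib.LinearAlgebra.Dimension.StrongRankCondition
import Mathlib.LinearAlgebra.FreeModule.Finite.Matrix

/-!
Homomorphisms of abelian varieties: finite generation and the `l`-adic representation.
-/

set_option autoImplicit false
set_option backward.isDefEq.respectTransparency false
set_option backward.isDefEq.respectTransparency.types false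
set_option linter.style.haveILetI false
set_option linter.unusedSectionVars false
set_option maxHeartbeats 1000000

universe u

open CategoryTheory CategoryTheory.Limits MonoidalCategory CartesianMonoidalCategory MonObj AlgebraicGeometry

namespace Groth.Agent.AVTors2

variable {k : Type u} [Field k] {A B : Over (Spec (CommRingCat.of k))}
  [GrpObj A] [IsCommMonObj A] [IsProper A.hom] [GeometricallyIntegral A.hom]
  [GrpObj B] [IsCommMonObj B] [IsProper B.hom] [GeometricallyIntegral B.hom]

theorem forms_anisotropic (x : EndAV.Hom A B) (hx : x ≠ 0) :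
    ∃ i : EndAV.Hom A B →+ EndAV.Hom A B →+ ℤ, (id i) x x ≠ 0 := by
  haveI : IsIntegral A.left := GeometricallyIntegral.isIntegral_of_subsingleton A.hom
  exact exists_bform_ne_zero x hx

theorem eq_zero_of_smul_eq_zero {x : EndAV.Hom A B} {m : ℤ} (hm : m ≠ 0) (h : m • x = 0) : x = 0 :=
  isTorsionFree_of_forms id forms_anisotropic hm h

/-- The saturation of a finitely generated subgroup of homomorphisms is free of finite rank. -/
theorem hom_saturation_finite_free {r : ℕ} (v : Fin r → EndAV.Hom A B) :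
    Module.Finite ℤ (saturation (Submodule.span ℤ (Set.range v))) ∧
      Module.Free ℤ (saturation (Submodule.span ℤ (Set.range v))) :=
  saturation_finite_free id forms_anisotropic v

section tate

variable (Ω : Type u) [Field Ω] [IsAlgClosed Ω] [Algebra k Ω] (l : ℕ) [hl' : Fact l.Prime] (hl : (l : k) ≠ 0)

local notation "T₀" => (Over.mk (Spec.map (CommRingCat.ofHom (algebraMap k Ω))))

include hl in
/-- A homomorphism whose Tate map is divisible by `l^n` is divisible by `l^n`. -/
theorem exists_eq_nsmul_of_tateMap (φ : EndAV.Hom A B) (n : ℕ)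
    (u : AbDual.TateMod A l T₀ →ₗ[ℤ_[l]] AbDual.TateMod B l T₀)
    (hu : EndAV.Hom.tateMap l T₀ φ = ((l : ℤ_[l]) ^ n) • u) :
    ∃ ψ : EndAV.Hom A B, φ = (l ^ n) • ψ := by
  obtain ⟨g, hg⟩ : ∃ g : ℕ, topologicalKrullDim A.left = g := by
    haveI : IsIntegral A.left := GeometricallyIntegral.isIntegral_of_subsingleton A.hom
    exact ⟨_, VarDim.topologicalKrullDim_eq_deg_genericPoint A.hom⟩
  have hc : ∀ m : ℕ, Nat.card (AbDual.torsPts A (l ^ m) T₀) = (l ^ m) ^ (2 * g) := fun m =>
    card_torsPts hg (by rw [Nat.cast_pow]; exact pow_ne_zero _ hl) Ω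
  obtain ⟨ψ, hψ, e⟩ := exists_eq_pow_comp φ.toHom (n := l ^ n) (by rw [Nat.cast_pow]; exact pow_ne_zero _ hl) Ω
    fun a ha => by
      obtain ⟨x, hx⟩ := exists_component hc n ha
      have h1 : cp n (EndAV.Hom.tateMap l T₀ φ x) = cp n (((l : ℤ_[l]) ^ n) • u x) := by
        rw [hu]; rfl
      rw [← Nat.cast_pow, cp_natCast_smul] at h1
      rw [← hx]
      exact congrArg Additive.toMul (h1.trans (AbDual.TateMod.torsion (u x) n))
  refine ⟨@EndAV.Hom.of _ _ _ _ A B _ _ _ _ ψ hψ, EndAV.Hom.ext ?_⟩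
  haveI := hψ
  rw [EndAV.Hom.toHom_nsmul, e]
  show (𝟙 A ^ (l ^ n)) ≫ ψ = ψ ^ (l ^ n)
  exact (map_pow (MonoidHom.mk' (fun u : A ⟶ A => u ≫ ψ) fun a b => MonObj.mul_comp a b ψ) (𝟙 A) (l ^ n)).trans
    (by rw [MonoidHom.mk'_apply, Category.id_comp])

/-- The Tate module of an abelian variety is free of rank twice the dimension. -/
theorem tate_props {g : ℕ} (hg : topologicalKrullDim A.left = g) (hl : (l : k) ≠ 0) :
    Module.Free ℤ_[l] (AbDual.TateMod A l T₀) ∧ Module.Finite ℤ_[l] (AbDual.TateMod A l T₀) ∧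
      Module.finrank ℤ_[l] (AbDual.TateMod A l T₀) = 2 * g := by
  have hc : ∀ m : ℕ, Nat.card (AbDual.torsPts A (l ^ m) T₀) = (l ^ m) ^ (2 * g) := fun m =>
    card_torsPts hg (by rw [Nat.cast_pow]; exact pow_ne_zero _ hl) Ω
  obtain ⟨h1, h2⟩ := finite_free (A := A) (l := l) (T := T₀) (by simpa using finite_tors hc 1)
  exact ⟨h2, h1, finrank_eq hc⟩

include hl in
theorem linearIndependent_tateMap {r : ℕ} (e : Fin r → EndAV.Hom A B) (he : LinearIndependent ℤ e) :
    LinearIndependent ℤ_[l] fun i => EndAV.Hom.tateMap l T₀ (e i) := by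
  classical
  set S := saturation (Submodule.span ℤ (Set.range e)) with hS
  obtain ⟨hfin, hfree⟩ := hom_saturation_finite_free e
  let f := Module.Free.chooseBasis ℤ S
  let J := Module.Free.ChooseBasisIndex ℤ S
  let T := EndAV.Hom.tateMap (A := A) (B := B) l T₀
  -- independence on the saturation
  have hdiv : ∀ a : J → ℤ_[l], ∑ i, a i • T (f i).1 = 0 → ∃ a' : J → ℤ_[l], (∀ i, a i = (l : ℤ_[l]) * a' i) ∧
      ∑ i, a' i • T (f i).1 = 0 := by
    intro a ha
    let c : J → ℕ := fun i => (a i).appr 1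
    have hc : ∀ i, ∃ d, a i = (c i : ℤ_[l]) + (l : ℤ_[l]) * d := fun i => by
      obtain ⟨d, hd⟩ := Ideal.mem_span_singleton.1 (PadicInt.appr_spec 1 (a i))
      exact ⟨d, by rw [pow_one] at hd; linear_combination hd⟩
    choose d hd using hc
    let y : S := ∑ i, (c i : ℤ) • f i
    have hy : T y.1 = ((l : ℤ_[l]) ^ 1) • (-(∑ i, d i • T (f i).1)) := by
      have h1 : y.1 = ∑ i, c i • (f i).1 := by
        simp only [y, natCast_zsmul]
        exact (map_sum S.subtype _ _).trans (Finset.sum_congr rfl fun i _ => map_nsmul S.subtype _ _)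
      have h2 : T y.1 = ∑ i, (c i : ℤ_[l]) • T (f i).1 := by
        rw [h1, map_sum]
        exact Finset.sum_congr rfl fun i _ => by rw [map_nsmul, Nat.cast_smul_eq_nsmul]
      rw [h2, pow_one, smul_neg, eq_neg_iff_add_eq_zero, Finset.smul_sum, ← Finset.sum_add_distrib, ← ha]
      exact Finset.sum_congr rfl fun i _ => by rw [smul_smul, ← add_smul, ← hd]
    obtain ⟨ψ, hψ⟩ := exists_eq_nsmul_of_tateMap Ω l hl y.1 1 _ hy
    have hψS : ψ ∈ S := by
      obtain ⟨m, hm, hmy⟩ := y.2
      refine ⟨m * (l : ℤ), mul_ne_zero hm (Int.natCast_ne_zero.2 hl'.out.ne_zero), ?_⟩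
      rw [mul_smul, natCast_zsmul]
      rwa [hψ, pow_one] at hmy
    have hyl : y = (l : ℤ) • (⟨ψ, hψS⟩ : S) := Subtype.ext (by
      show y.1 = (l : ℤ) • ψ
      rw [natCast_zsmul, hψ, pow_one])
    have hdvd : ∀ i, (l : ℤ_[l]) ∣ a i := fun i => by
      have e1 : f.repr y i = (c i : ℤ) := congrFun (f.repr_sum_self _) i
      have e2 : f.repr ((l : ℤ) • (⟨ψ, hψS⟩ : S)) i = (l : ℤ) * f.repr ⟨ψ, hψS⟩ i := by
        rw [LinearEquiv.map_smul, Finsupp.smul_apply, smul_eq_mul]
      rw [hyl, e2] at e1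
      rw [hd i, ← Int.cast_natCast (c i), ← e1, Int.cast_mul, Int.cast_natCast]
      exact dvd_add (dvd_mul_right _ _) (dvd_mul_right _ _)
    choose a' ha' using hdvd
    refine ⟨a', ha', smul_eq_zero_imp_hom ?_⟩
    rw [Finset.smul_sum, ← ha]
    exact Finset.sum_congr rfl fun i _ => by rw [smul_smul, ← ha']
  have hindS : ∀ a : J → ℤ_[l], ∑ i, a i • T (f i).1 = 0 → ∀ (n : ℕ) i, (l : ℤ_[l]) ^ n ∣ a i := by
    intro a ha n
    induction n generalizing a with
    | zero => exact fun i => by rw [pow_zero]; exact one_dvd _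
    | succ n ih =>
      obtain ⟨a', ha', h0⟩ := hdiv a ha
      intro i
      rw [pow_succ', ha']
      exact mul_dvd_mul_left _ (ih a' h0 i)
  have hzero : ∀ a : J → ℤ_[l], ∑ i, a i • T (f i).1 = 0 → ∀ i, a i = 0 := fun a ha i => by
    by_contra hne
    have h1 := hindS a ha ((a i).valuation + 1) i
    rw [← Ideal.mem_span_singleton, PadicInt.mem_span_pow_iff_le_valuation (a i) hne] at h1
    omega
  -- coordinates of `e`
  let e' : Fin r → S := fun i => ⟨e i, le_saturation _ (Submodule.subset_span ⟨i, rfl⟩)⟩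
  let M : Fin r → J → ℤ := fun i => ⇑(f.repr (e' i))
  have hM : ∀ i, e i = ∑ p, M i p • (f p).1 := fun i => by
    conv_lhs => rw [show e i = S.subtype (e' i) from rfl, ← f.sum_repr (e' i), map_sum]
    exact Finset.sum_congr rfl fun p _ => map_zsmul S.subtype _ _
  choose D hD0 hD using fun p : J => (f p).2
  choose N hN using fun p => (Submodule.mem_span_range_iff_exists_fun ℤ).1 (hD p)
  rw [Fintype.linearIndependent_iff]
  intro a ha i₀
  have hcol : ∀ p, ∑ i, a i * (M i p : ℤ_[l]) = 0 := hzero _ (by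
    rw [← ha]
    simp only [Finset.sum_smul]
    rw [Finset.sum_comm]
    refine Finset.sum_congr rfl fun i _ => ?_
    show _ = a i • T (e i)
    rw [hM i, map_sum, Finset.smul_sum]
    exact Finset.sum_congr rfl fun p _ => by rw [map_zsmul, mul_smul, Int.cast_smul_eq_zsmul])
  let P : ℤ := ∏ p, D p
  have hP : P ≠ 0 := Finset.prod_ne_zero_iff.2 fun p _ => hD0 p
  let N' : J → Fin r → ℤ := fun p i => (∏ q ∈ Finset.univ.erase p, D q) * N p i
  have hN' : ∀ p, P • (f p).1 = ∑ i, N' p i • e i := fun p => by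
    rw [show P = (∏ q ∈ Finset.univ.erase p, D q) * D p from (Finset.prod_erase_mul _ _ (Finset.mem_univ p)).symm,
      mul_smul, ← hN p, Finset.smul_sum]
    exact Finset.sum_congr rfl fun i _ => by rw [smul_smul]
  have hMN : ∀ i, ∑ p, M i p * N' p i₀ = if i = i₀ then P else 0 := by
    intro i
    have h1 : P • e i = ∑ i', (∑ p, M i p * N' p i') • e i' := by
      rw [hM i, Finset.smul_sum]
      simp only [smul_comm P (M i _), hN', Finset.smul_sum, smul_smul, Finset.sum_smul]
      rw [Finset.sum_comm]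
    have h2 : ∑ i', ((∑ p, M i p * N' p i') - if i' = i then P else 0) • e i' = 0 := by
      simp only [sub_smul, Finset.sum_sub_distrib, ← h1, ite_smul, zero_smul, Finset.sum_ite_eq', Finset.mem_univ,
        if_true, sub_self]
    have := Fintype.linearIndependent_iff.1 he _ h2 i₀
    rw [sub_eq_zero] at this
    rw [this]
    exact if_congr eq_comm rfl rfl
  have h3 : (P : ℤ_[l]) * a i₀ = 0 := by
    have h4 : ∑ p, (∑ i, a i * (M i p : ℤ_[l])) * (N' p i₀ : ℤ_[l]) = 0 := by simp [hcol]
    rw [← h4]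
    simp only [Finset.sum_mul]
    rw [Finset.sum_comm]
    simp only [_root_.mul_assoc, ← Finset.mul_sum, ← Int.cast_mul, ← Int.cast_sum, hMN]
    simp [apply_ite (Int.cast : ℤ → ℤ_[l]), _root_.mul_comm]
  exact (mul_eq_zero.1 h3).resolve_left (Int.cast_ne_zero.2 hP)
where
  smul_eq_zero_imp_hom {u : AbDual.TateMod A l T₀ →ₗ[ℤ_[l]] AbDual.TateMod B l T₀} (h : (l : ℤ_[l]) • u = 0) : u = 0 :=
    LinearMap.ext fun x => smul_eq_zero_imp 1 (by rw [pow_one]; exact LinearMap.congr_fun h x)

end tate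

theorem natCast_ne_zero_exists : ∃ l : ℕ, l.Prime ∧ (l : k) ≠ 0 := by
  by_cases h : (2 : k) = 0
  · refine ⟨3, by norm_num, fun h3 => one_ne_zero (α := k) ?_⟩
    have : (3 : k) = 0 := by exact_mod_cast h3
    linear_combination this - h
  · exact ⟨2, Nat.prime_two, by exact_mod_cast h⟩

theorem linearIndependent_card_le {g h : ℕ} (hg : topologicalKrullDim A.left = g) (hh : topologicalKrullDim B.left = h)
    {r : ℕ} (e : Fin r → EndAV.Hom A B) (he : LinearIndependent ℤ e) : r ≤ 4 * g * h := by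
  obtain ⟨l, hlp, hl⟩ := natCast_ne_zero_exists (k := k)
  haveI : Fact l.Prime := ⟨hlp⟩
  let Ω := AlgebraicClosure k
  obtain ⟨hA1, hA2, hA3⟩ := tate_props (A := A) Ω l hg hl
  obtain ⟨hB1, hB2, hB3⟩ := tate_props (A := B) Ω l hh hl
  have := (linearIndependent_tateMap Ω l hl e he).fintype_card_le_finrank
  rw [Fintype.card_fin, Module.finrank_linearMap, hA3, hB3] at this
  linarith

/-- The homomorphism group is free of finite rank at most `4gh`. -/
theorem hom_finite_free {g h : ℕ} (hg : topologicalKrullDim A.left = g) (hh : topologicalKrullDim B.left = h) :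
    Module.Free ℤ (EndAV.Hom A B) ∧ Module.Finite ℤ (EndAV.Hom A B) ∧
      Module.finrank ℤ (EndAV.Hom A B) ≤ 4 * g * h := by
  classical
  let P : ℕ → Prop := fun r => ∃ e : Fin r → EndAV.Hom A B, LinearIndependent ℤ e
  have hP0 : P 0 := ⟨Fin.elim0, linearIndependent_empty_type⟩
  have hb : ∀ r, P r → r ≤ 4 * g * h := fun r ⟨e, he⟩ => linearIndependent_card_le hg hh e he
  let r := Nat.findGreatest P (4 * g * h)
  obtain ⟨e, he⟩ : P r := Nat.findGreatest_spec (Nat.zero_le _) hP0
  have htop : saturation (Submodule.span ℤ (Set.range e)) = ⊤ := by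
    refine top_le_iff.1 fun x _ => ?_
    by_contra hx
    have hsucc : P (r + 1) := ⟨Fin.snoc e x, by
      rw [Fintype.linearIndependent_iff]
      intro a ha
      have h1 : a (Fin.last r) = 0 := by
        by_contra hne
        refine hx ⟨a (Fin.last r), hne, ?_⟩
        rw [Fin.sum_univ_castSucc] at ha
        simp only [Fin.snoc_castSucc, Fin.snoc_last] at ha
        rw [eq_neg_of_add_eq_zero_right ha]
        exact neg_mem (Submodule.sum_mem _ fun i _ => Submodule.smul_mem _ _ (Submodule.subset_span ⟨i, rfl⟩))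
      rw [Fin.sum_univ_castSucc] at ha
      simp only [Fin.snoc_castSucc, Fin.snoc_last, h1, zero_smul, add_zero] at ha
      exact Fin.lastCases h1 (fun i => Fintype.linearIndependent_iff.1 he _ ha i)⟩
    have := Nat.le_findGreatest (hb _ hsucc) hsucc
    omega
  obtain ⟨hfin, hfree⟩ := hom_saturation_finite_free e
  let eqv := (LinearEquiv.ofEq _ _ htop).trans Submodule.topEquiv
  haveI : Module.Free ℤ (EndAV.Hom A B) := Module.Free.of_equiv eqv
  haveI : Module.Finite ℤ (EndAV.Hom A B) := Module.Finite.equiv eqv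
  refine ⟨inferInstance, inferInstance, ?_⟩
  exact hb _ ⟨_, (Module.finBasis ℤ (EndAV.Hom A B)).linearIndependent⟩

end Groth.Agent.AVTors2
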