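import Groth.Agent.AVTors2.Tate
import Mathlib.RingTheory.Filtration

/-!
The Tate module sequence `0 → T_l X → T_l Y → (ker φ)[l^∞] → 0` of a surjection with finite kernel on points.
-/

set_option autoImplicit false
set_option maxHeartbeats 800000
set_option linter.unusedSectionVars false
set_option linter.style.haveILetI false
set_option backward.isDefEq.respectTransparency false

universe u

open CategoryTheory MonoidalCategory CartesianMonoidalCategory MonObj AlgebraicGeometry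

namespace Groth.Agent.AVTors2

variable {S : Scheme.{u}} {X Y : Over S} [GrpObj X] [IsCommMonObj X] [GrpObj Y] [IsCommMonObj Y]
  (φ : X ⟶ Y) [IsMonHom φ] {l : ℕ} [hl : Fact l.Prime] {T : Over S} {r : ℕ}

open AbDual

/-- The map on points as a homomorphism. -/
noncomputable def ptsMap : (T ⟶ X) →* (T ⟶ Y) := IsMonHom.monoidHom φ T

theorem ptsMap_apply (x : T ⟶ X) : ptsMap φ x = x ≫ φ := rfl

theorem exists_exponent (hfin : Finite {x : T ⟶ X // x ≫ φ = 1}) (l : ℕ) :
    ∃ e : ℕ, ∀ x : T ⟶ X, x ≫ φ = 1 → (∃ j, x ^ (l ^ j) = 1) → x ^ (l ^ e) = 1 := by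
  classical
  haveI := hfin
  haveI := Fintype.ofFinite {x : T ⟶ X // x ≫ φ = 1}
  let d : {x : T ⟶ X // x ≫ φ = 1} → ℕ := fun x => if h : ∃ j, x.1 ^ (l ^ j) = 1 then Nat.find h else 0
  refine ⟨Finset.univ.sup d, fun x hx hj => ?_⟩
  have h1 : d ⟨x, hx⟩ ≤ Finset.univ.sup d := Finset.le_sup (Finset.mem_univ _)
  have h2 : x ^ (l ^ d ⟨x, hx⟩) = 1 := by
    simp only [d, dif_pos hj]
    exact Nat.find_spec hj
  rw [← Nat.add_sub_cancel' h1, pow_add, pow_mul, h2, one_pow]

theorem exists_lift_primary (hsurj : ∀ y : T ⟶ Y, ∃ x, x ≫ φ = y) (hfin : Finite {x : T ⟶ X // x ≫ φ = 1})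
    {n : ℕ} {y : T ⟶ Y} (hy : y ^ (l ^ n) = 1) : ∃ x : T ⟶ X, x ≫ φ = y ∧ ∃ j, x ^ (l ^ j) = 1 := by
  obtain ⟨x, hx⟩ := hsurj y
  haveI : Finite (ptsMap φ (T := T)).ker := hfin
  have hmem : x ^ (l ^ n) ∈ (ptsMap φ (T := T)).ker := by
    rw [MonoidHom.mem_ker, map_pow, ptsMap_apply, hx, hy]
  let M := Nat.card (ptsMap φ (T := T)).ker
  have hM : M ≠ 0 := Nat.card_pos.ne'
  have hxM : (x ^ (l ^ n)) ^ M = 1 := by
    have := pow_card_eq_one' (x := (⟨_, hmem⟩ : (ptsMap φ (T := T)).ker))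
    exact congrArg Subtype.val this
  obtain ⟨a, m, hm, hMm⟩ := Nat.exists_eq_pow_mul_and_not_dvd hM l hl.out.ne_one
  obtain ⟨u, hu⟩ : ∃ u : ℕ, m * u ≡ 1 [MOD l ^ n] := by
    obtain ⟨u, -, hu⟩ := Nat.exists_mul_mod_eq_of_coprime 1 ((hl.out.coprime_iff_not_dvd.2 hm).symm.pow_right n)
      (pow_ne_zero _ hl.out.ne_zero)
    exact ⟨u, hu⟩
  refine ⟨x ^ (m * u), ?_, n + a, ?_⟩
  · rw [← ptsMap_apply, map_pow, ptsMap_apply, hx, pow_eq_pow_mod _ hy, hu, ← pow_eq_pow_mod _ hy, pow_one]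
  · rw [← pow_mul, show m * u * l ^ (n + a) = l ^ n * M * u by rw [hMm, pow_add]; ring, pow_mul, pow_mul, hxM,
      one_pow]

variable (hsurj : ∀ y : T ⟶ Y, ∃ x, x ≫ φ = y) (hfin : Finite {x : T ⟶ X // x ≫ φ = 1})

include hfin in
/-- Injectivity on Tate modules. -/
theorem tateMap_injective : Function.Injective (tateMapₗ (l := l) (T := T) φ) := by
  rw [injective_iff_map_eq_zero]
  intro x hx
  obtain ⟨e, he⟩ := exists_exponent φ hfin l
  refine TateMod.ext fun n => ?_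
  have key : ∀ j, cp n x = (l ^ j) • cp (n + j) x := by
    intro j
    induction j with
    | zero => rw [pow_zero, one_nsmul]; rfl
    | succ j ih =>
      rw [ih, pow_succ, mul_nsmul']
      exact congrArg _ (TateMod.compat x (n + j)).symm
  have h := he (cp (n + e) x).toMul (congrArg (fun y => (cp (n + e) y).toMul) hx)
    ⟨n + e, congrArg Additive.toMul (TateMod.torsion x (n + e))⟩
  show cp n x = cp n (0 : TateMod X l T)
  rw [map_zero, key e]
  exact congrArg Additive.ofMul h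

include hsurj hfin in
/-- The connecting map onto the primary part of the kernel. -/
theorem exists_connecting (hcX : ∀ n : ℕ, Nat.card (torsPts X (l ^ n) T) = (l ^ n) ^ r)
    (hF : Module.Finite ℤ_[l] (TateMod Y l T)) :
    ∃ Ψ : TateMod Y l T →+ Additive (T ⟶ X),
      (∀ y, (Ψ y).toMul ≫ φ = 1 ∧ ∃ j, (Ψ y).toMul ^ (l ^ j) = 1) ∧
      (∀ c : T ⟶ X, c ≫ φ = 1 → (∃ j, c ^ (l ^ j) = 1) → ∃ y, (Ψ y).toMul = c) ∧
      (∀ y, Ψ y = 0 ↔ y ∈ LinearMap.range (tateMapₗ (l := l) (T := T) φ)) := by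
  obtain ⟨e, he⟩ := exists_exponent φ hfin l
  choose x hxφ hxl using fun (y : TateMod Y l T) (n : ℕ) =>
    exists_lift_primary φ (l := l) hsurj hfin (congrArg Additive.toMul (TateMod.torsion y n) :
      (cp n y).toMul ^ (l ^ n) = 1)
  have huniq : ∀ {n : ℕ}, e ≤ n → ∀ {a b : T ⟶ X}, a ≫ φ = b ≫ φ → (∃ j, a ^ (l ^ j) = 1) →
      (∃ j, b ^ (l ^ j) = 1) → a ^ (l ^ n) = b ^ (l ^ n) := by
    rintro n hn a b hab ⟨i, hi⟩ ⟨j, hj⟩
    have h1 : (a / b) ^ (l ^ e) = 1 := he _ (by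
      rw [← ptsMap_apply, map_div, ptsMap_apply, ptsMap_apply, hab, div_self'])
      ⟨i + j, by rw [div_pow, pow_add, pow_mul, hi, one_pow, mul_comm (l ^ i), pow_mul, hj, one_pow, div_one]⟩
    rw [← Nat.add_sub_cancel' hn, pow_add, pow_mul, pow_mul]
    rw [div_pow, div_eq_one] at h1
    rw [h1]
  have hcomp : ∀ (y : TateMod Y l T) (n j : ℕ), (cp (n + j) y).toMul ^ (l ^ j) = (cp n y).toMul := by
    intro y n j
    induction j with
    | zero => rw [pow_zero, pow_one]; rfl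
    | succ j ih =>
      rw [← ih, pow_succ', pow_mul]
      exact congrArg (fun z : T ⟶ Y => z ^ (l ^ j)) (congrArg Additive.toMul (TateMod.compat y (n + j)))
  have hstab : ∀ (y : TateMod Y l T) (n : ℕ), e ≤ n → x y n ^ (l ^ n) = x y e ^ (l ^ e) := by
    intro y n hn
    obtain ⟨j, rfl⟩ : ∃ j, n = e + j := ⟨n - e, by omega⟩
    obtain ⟨i, hi⟩ := hxl y (e + j)
    rw [show l ^ (e + j) = l ^ j * l ^ e by rw [← pow_add, add_comm], pow_mul]
    refine huniq le_rfl ?_ ⟨i, ?_⟩ (hxl y e)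
    · rw [hxφ y e, ← ptsMap_apply, map_pow, ptsMap_apply, hxφ, hcomp]
    · rw [← pow_mul, mul_comm, pow_mul, hi, one_pow]
  let Ψ : TateMod Y l T →+ Additive (T ⟶ X) :=
    AddMonoidHom.mk' (fun y => Additive.ofMul (x y e ^ (l ^ e))) fun y y' => by
      refine Eq.trans (congrArg Additive.ofMul ?_) (ofMul_mul _ _)
      rw [← mul_pow]
      obtain ⟨i, hi⟩ := hxl y e
      obtain ⟨j, hj⟩ := hxl y' e
      refine huniq le_rfl ?_ (hxl _ e) ⟨i + j, ?_⟩
      · rw [MonObj.mul_comp, hxφ, hxφ, hxφ, map_add]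
        rfl
      · rw [mul_pow, pow_add, pow_mul, hi, one_pow, mul_comm (l ^ i), pow_mul, hj, one_pow, _root_.mul_one]
  refine ⟨Ψ, fun y => ⟨?_, ?_⟩, fun c hc hcl => ?_, fun y => ⟨fun h0 => ?_, ?_⟩⟩
  · show (x y e ^ (l ^ e)) ≫ φ = 1
    rw [← ptsMap_apply, map_pow, ptsMap_apply, hxφ]
    exact congrArg Additive.toMul (TateMod.torsion y e)
  · obtain ⟨i, hi⟩ := hxl y e
    exact ⟨i, show (x y e ^ (l ^ e)) ^ (l ^ i) = 1 by rw [← pow_mul, mul_comm, pow_mul, hi, one_pow]⟩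
  · obtain ⟨z, hz⟩ := exists_component hcX e (he c hc hcl)
    obtain ⟨y, hy⟩ := exists_eq_pow_smul e (tateMapₗ (l := l) (T := T) φ z) (by
      show Additive.ofMul ((cp e z).toMul ≫ φ) = Additive.ofMul 1
      rw [hz, hc])
    refine ⟨y, ?_⟩
    show x y e ^ (l ^ e) = c
    have h1 : (cp e y).toMul = (cp (e + e) z).toMul ≫ φ := by
      have h2 : (cp (e + e) z).toMul ≫ φ = (cp (e + e) y).toMul ^ (l ^ e) := by
        have h3 := congrArg (fun w => (cp (e + e) w).toMul) hy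
        rw [← Nat.cast_pow, cp_natCast_smul] at h3
        exact h3
      rw [h2, hcomp]
    rw [huniq le_rfl (a := x y e) (b := (cp (e + e) z).toMul) ((hxφ y e).trans h1) (hxl y e)
      ⟨e + e, congrArg Additive.toMul (TateMod.torsion z (e + e))⟩]
    refine Eq.trans ?_ hz
    have := congrArg Additive.toMul (show (l ^ e) • cp (e + e) z = cp e z from ?_)
    · exact this
    · have key : ∀ j, (l ^ j) • cp (e + j) z = cp e z := by
        intro j
        induction j with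
        | zero => rw [pow_zero, one_nsmul]; rfl
        | succ j ih =>
          rw [pow_succ, mul_nsmul', ← ih]
          exact congrArg _ (TateMod.compat z (e + j))
      exact key e
  · have h0' : x y e ^ (l ^ e) = 1 := congrArg Additive.toMul h0
    let R := LinearMap.range (tateMapₗ (l := l) (T := T) φ)
    have hn : ∀ n, Submodule.Quotient.mk (p := R) y ∈ IsLocalRing.maximalIdeal ℤ_[l] ^ n • (⊤ : Submodule ℤ_[l] (TateMod Y l T ⧸ R)) := by
      intro n
      have hmn : ∀ m, e ≤ m → ∃ z w, y = tateMapₗ (l := l) (T := T) φ z + (l : ℤ_[l]) ^ m • w := by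
        intro m hm
        obtain ⟨z, hz⟩ := exists_component hcX m (show x y m ^ (l ^ m) = 1 by rw [hstab y m hm, h0'])
        obtain ⟨w, hw⟩ := exists_eq_pow_smul m (y - tateMapₗ (l := l) (T := T) φ z) (by
          rw [map_sub, sub_eq_zero]
          show cp m y = Additive.ofMul ((cp m z).toMul ≫ φ)
          rw [hz, hxφ]
          rfl)
        exact ⟨z, w, by rw [← hw, add_sub_cancel]⟩
      obtain ⟨z, w, hzw⟩ := hmn (max n e) (le_max_right _ _)
      rw [hzw, Submodule.Quotient.mk_add, (Submodule.Quotient.mk_eq_zero R).2 (LinearMap.mem_range_self _ z), zero_add,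
        Submodule.Quotient.mk_smul]
      refine Submodule.smul_mem_smul (Ideal.pow_le_pow_right (le_max_left n e) ?_) trivial
      exact Ideal.pow_mem_pow (by rw [PadicInt.maximalIdeal_eq_span_p]; exact Ideal.mem_span_singleton_self _) _
    haveI := hF
    have h1 : Submodule.Quotient.mk (p := R) y ∈ (⊥ : Submodule ℤ_[l] (TateMod Y l T ⧸ R)) := by
      rw [← Ideal.iInf_pow_smul_eq_bot_of_isLocalRing (M := TateMod Y l T ⧸ R) (IsLocalRing.maximalIdeal ℤ_[l])
        (Ideal.IsPrime.ne_top'), Submodule.mem_iInf]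
      exact hn
    rw [Submodule.mem_bot, Submodule.Quotient.mk_eq_zero] at h1
    exact h1
  · rintro ⟨z, rfl⟩
    refine congrArg Additive.ofMul ?_
    rw [huniq le_rfl (a := x _ e) (b := (cp e z).toMul) (by rw [hxφ]; rfl) (hxl _ e)
      ⟨e, congrArg Additive.toMul (TateMod.torsion z e)⟩]
    exact congrArg Additive.toMul (TateMod.torsion z e)

end Groth.Agent.AVTors2
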