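import Groth.Agent.AVDegLib.Pull
import Groth.Agent.AVDegLib.MulN
import Groth.Agent.FinGrpLib.Order
import Groth.Agent.GrpSchLib.HomFlat
import Groth.Agent.GrpSchLib.KernelGrp
import Groth.Agent.H23.Isogeny
import Mathlib.AlgebraicGeometry.Group.Affine

/-!
The degree of an isogeny over an algebraically closed field is the number of points of its kernel up to a
power of the characteristic exponent.
-/

set_option autoImplicit false
set_option backward.isDefEq.respectTransparency false
set_option backward.isDefEq.respectTransparency.types false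
set_option linter.style.haveILetI false
set_option linter.unusedSectionVars false
set_option maxHeartbeats 800000

universe u

open CategoryTheory CategoryTheory.Limits MonoidalCategory CartesianMonoidalCategory MonObj AlgebraicGeometry
open scoped Obj

namespace Groth.Agent.AVTors2

variable {K : Type u} [Field K] [IsAlgClosed K]

local notation "𝐩" => 𝟙_ (Over (Spec (CommRingCat.of K)))

/-- The rank of a finite group scheme. -/
theorem finrank_eq_card_mul_pow (X : Over (Spec (CommRingCat.of K))) [GrpObj X] [IsFinite X.hom] (y : Spec (CommRingCat.of K)) :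
    ∃ e, X.hom.finrank y = Nat.card (𝐩 ⟶ X) * ringExpChar K ^ e := by
  haveI : IsAffine X.left := isAffine_of_isAffineHom X.hom
  obtain ⟨⟨H⟩, ⟨e⟩⟩ := (essImage_hopfSpec (R := CommRingCat.of K) (G := Grp.mk X)).mpr inferInstance
  let X' := (Spec (CommRingCat.of H)).asOver (Spec (CommRingCat.of K))
  let eh : X' ⟶ X := e.hom.hom.hom
  let ei : X ⟶ X' := e.inv.hom.hom
  have hei : ei ≫ eh = 𝟙 X := congrArg (fun g => g.hom.hom) e.inv_hom_id
  have hei' : eh ≫ ei = 𝟙 X' := congrArg (fun g => g.hom.hom) e.hom_inv_id
  haveI : IsIso eh.left :=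
    ⟨ei.left, congrArg (fun g => g.left) hei', congrArg (fun g => g.left) hei⟩
  have hw : eh.left ≫ X.hom = Spec.map (CommRingCat.ofHom (algebraMap K H)) := Over.w eh
  have : IsFinite (eh.left ≫ X.hom) := inferInstance
  haveI : Module.Finite K H := by
    rw [← RingHom.finite_algebraMap]
    exact (IsFinite.SpecMap_iff _).mp (hw ▸ this)
  have hrank : Module.finrank K H = X.hom.finrank y := by
    have h := congrFun (Scheme.Hom.finrank_comp_left_of_isIso eh.left X.hom) y
    rw [hw] at h
    rw [← h, Scheme.Hom.finrank_SpecMap_algebraMap K H, Module.rankAtStalk_eq_finrank_of_free, Pi.natCast_apply,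
      Nat.cast_id]
  let u : 𝐩 ≅ (Spec (CommRingCat.of K)).asOver (Spec (CommRingCat.of K)) :=
    Over.isoMk (Iso.refl _) (by
      show 𝟙 _ ≫ Spec.map (CommRingCat.ofHom (algebraMap K K)) = 𝟙 _
      rw [Algebra.algebraMap_self, CommRingCat.ofHom_id, Spec.map_id, Category.id_comp])
  let w : X' ≅ X := ⟨eh, ei, hei', hei⟩
  have hpts : Nat.card (𝐩 ⟶ X) = Nat.card (WithConv (H →ₐ[K] K)) :=
    Nat.card_congr ((Iso.homCongr u w.symm).trans (Spec.mapMulEquiv (R := K) (S := H) (T := K)).symm.toEquiv)
  obtain ⟨n, hn⟩ := FinGrpLib.N0_eq_pow K H (ringExpChar K)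
  exact ⟨n, by rw [← hrank, FinGrpLib.finrank_eq_card_mul, hpts, hn]⟩

variable {A B : Over (Spec (CommRingCat.of K))} [GrpObj A] [GrpObj B]
  [IsProper A.hom] [GeometricallyIntegral A.hom] [IsProper B.hom] [GeometricallyIntegral B.hom]

/-- The degree of a finite surjective homomorphism. -/
theorem finrank_isogeny (α : A ⟶ B) [IsMonHom α] [IsFinite α.left] [Surjective α.left] (b : B.left) :
    ∃ e, α.left.finrank b = Nat.card {a : 𝐩 ⟶ A // a ≫ α = 1} * ringExpChar K ^ e := by
  haveI : IsIntegral A.left := GeometricallyIntegral.isIntegral_of_subsingleton A.hom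
  haveI : IsIntegral B.left := GeometricallyIntegral.isIntegral_of_subsingleton B.hom
  haveI : Flat α.left := GrpSchLib.flat_of_surjective_hom α
  haveI : LocallyOfFinitePresentation α.left := by
    haveI : IsLocallyNoetherian B.left := LocallyOfFiniteType.isLocallyNoetherian B.hom
    infer_instance
  obtain ⟨N, _, i, hi, hic, -, hker⟩ := GrpSchLib.exists_kernel α
  have sq : IsPullback i.left N.hom α.left η[B].left := hker.map (Over.forget _)
  haveI : IsFinite N.hom := MorphismProperty.of_isPullback (P := @IsFinite) sq inferInstance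
  let y : Spec (CommRingCat.of K) := IsLocalRing.closedPoint K
  obtain ⟨e, he⟩ := finrank_eq_card_mul_pow N y
  refine ⟨e, ?_⟩
  have h1 : N.hom.finrank y = α.left.finrank (η[B].left y) := by
    rw [← sq.isoPullback_hom_snd, Scheme.Hom.finrank_comp_left_of_isIso, Scheme.Hom.finrank_pullback_snd]
    rfl
  have h2 : ∀ z, α.left.finrank z = α.left.finrank b := fun z => by
    rw [AVDegLib.finrank_eq α z, AVDegLib.finrank_eq α b]
  rw [← h2 (η[B].left y), ← h1, he]
  congr 1
  haveI : Mono i := (Over.forget _).mono_of_mono_map (inferInstanceAs (Mono i.left))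
  refine Nat.card_congr (Equiv.ofBijective (fun q => ⟨q ≫ i, by
    rw [Category.assoc, show i ≫ α = 1 from hker.w, MonObj.comp_one]⟩) ⟨fun q q' h => ?_, fun a => ?_⟩)
  · exact (cancel_mono i).1 (congrArg Subtype.val h)
  · exact ⟨hker.lift a.1 (toUnit _) (a.2.trans rfl), Subtype.ext (hker.lift_fst _ _ _)⟩

end Groth.Agent.AVTors2
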