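import Mathlib.LinearAlgebra.FreeModule.Finite.Quotient
import Mathlib.LinearAlgebra.Determinant
import Mathlib.NumberTheory.Padics.RingHoms

/-!
The index of the image of an injective map of `ℤ_l`-lattices is `l` to the valuation of the determinant.
-/

set_option autoImplicit false
set_option linter.unusedSectionVars false
set_option linter.style.haveILetI false
set_option maxHeartbeats 800000

open Module Submodule

namespace Groth.Agent.AVTors2

variable {p : ℕ} [hp : Fact p.Prime]

theorem card_quot_span {a : ℤ_[p]} (ha : a ≠ 0) :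
    Nat.card (ℤ_[p] ⧸ Ideal.span ({a} : Set ℤ_[p])) = p ^ a.valuation := by
  have h : Ideal.span ({a} : Set ℤ_[p]) = RingHom.ker (PadicInt.toZModPow (p := p) a.valuation) := by
    rw [PadicInt.ker_toZModPow, Ideal.span_singleton_eq_span_singleton]
    exact ⟨(PadicInt.unitCoeff ha)⁻¹, by
      conv_lhs => arg 1; rw [PadicInt.unitCoeff_spec ha]
      rw [mul_right_comm, Units.mul_inv, one_mul]⟩
  rw [h, Nat.card_congr (RingHom.quotientKerEquivOfSurjective (ZMod.ringHom_surjective (PadicInt.toZModPow a.valuation))).toEquiv,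
    Nat.card_zmod]

theorem valuation_eq_of_associated {a b : ℤ_[p]} (h : Associated a b) : a.valuation = b.valuation := by
  obtain ⟨u, rfl⟩ := h
  by_cases ha : a = 0
  · simp [ha]
  have h1 := PadicInt.valuation_mul (Units.ne_zero u) (Units.ne_zero u⁻¹)
  rw [Units.mul_inv, PadicInt.valuation_one] at h1
  rw [PadicInt.valuation_mul ha (Units.ne_zero u)]
  omega

theorem valuation_prod {ι : Type*} (s : Finset ι) (a : ι → ℤ_[p]) (h : ∀ i ∈ s, a i ≠ 0) :
    (∏ i ∈ s, a i).valuation = ∑ i ∈ s, (a i).valuation := by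
  classical
  induction s using Finset.induction_on with
  | empty => simp
  | insert j s hj ih =>
    rw [Finset.prod_insert hj, Finset.sum_insert hj, PadicInt.valuation_mul (h j (Finset.mem_insert_self _ _))
      (Finset.prod_ne_zero_iff.2 fun i hi => h i (Finset.mem_insert_of_mem hi)),
      ih fun i hi => h i (Finset.mem_insert_of_mem hi)]

/-- The index of the range of an injective map. -/
theorem card_quotient_range {ι : Type*} [Fintype ι] [DecidableEq ι] {M N : Type*} [AddCommGroup M] [Module ℤ_[p] M]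
    [AddCommGroup N] [Module ℤ_[p] N] (bM : Basis ι ℤ_[p] M) (bN : Basis ι ℤ_[p] N) (f : M →ₗ[ℤ_[p]] N)
    (hf : Function.Injective f) :
    Nat.card (N ⧸ LinearMap.range f) = p ^ (LinearMap.toMatrix bM bN f).det.valuation := by
  haveI : Module.Free ℤ_[p] N := Module.Free.of_basis bN
  haveI : Module.Finite ℤ_[p] N := Module.Finite.of_basis bN
  let S := LinearMap.range f
  let eM : M ≃ₗ[ℤ_[p]] S := LinearEquiv.ofInjective f hf
  have h : Module.finrank ℤ_[p] S = Module.finrank ℤ_[p] N := by
    rw [← eM.finrank_eq, Module.finrank_eq_card_basis bM, Module.finrank_eq_card_basis bN]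
  let a := smithNormalFormCoeffs bN h
  let b' := smithNormalFormTopBasis bN h
  let ab := smithNormalFormBotBasis bN h
  have ab_eq := smithNormalFormBotBasis_def bN h
  let e' : N ≃ₗ[ℤ_[p]] S := b'.equiv ab (Equiv.refl _)
  let e : N ≃ₗ[ℤ_[p]] S := (bN.equiv bM (Equiv.refl _)).trans eM
  let g : N →ₗ[ℤ_[p]] N := S.subtype.comp (e : N →ₗ[ℤ_[p]] S)
  have hg : LinearMap.toMatrix bM bN f = LinearMap.toMatrix bN bN g := by
    ext i j
    rw [LinearMap.toMatrix_apply, LinearMap.toMatrix_apply]
    simp [g, e, eM, Basis.equiv_apply]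
    rfl
  have ha0 : ∀ i, a i ≠ 0 := fun i h0 => ab.ne_zero i (Subtype.ext (by rw [ab_eq i]; simp only [a] at h0; simp [h0]))
  have hdiag : LinearMap.det (S.subtype.comp (e' : N →ₗ[ℤ_[p]] S)) = ∏ i, a i := by
    rw [← LinearMap.det_toMatrix b', ← Matrix.det_diagonal]
    congr 1
    ext i j
    have hb : S.subtype.comp (e' : N →ₗ[ℤ_[p]] S) (b' j) = a j • b' j := by
      show ((e' (b' j) : S) : N) = _
      rw [show e' (b' j) = ab j by simp [e', Basis.equiv_apply]]
      exact ab_eq j
    rw [LinearMap.toMatrix_apply, hb, map_smul, Basis.repr_self, Finsupp.smul_single, smul_eq_mul, mul_one]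
    by_cases hij : i = j
    · rw [hij, Matrix.diagonal_apply_eq, Finsupp.single_eq_same]
    · rw [Matrix.diagonal_apply_ne _ hij, Finsupp.single_eq_of_ne hij]
  rw [hg, LinearMap.det_toMatrix, valuation_eq_of_associated (LinearMap.associated_det_comp_equiv S.subtype e e'), hdiag,
    valuation_prod _ _ fun i _ => ha0 i, ← Finset.prod_pow_eq_pow_sum,
    Nat.card_congr (quotientEquivPiSpan S bN h).toEquiv, Nat.card_pi]
  exact Finset.prod_congr rfl fun i _ => card_quot_span (ha0 i)

end Groth.Agent.AVTors2
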