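import Mathlib.AlgebraicGeometry.AlgClosed.Basic
import Mathlib.AlgebraicGeometry.Morphisms.Finite
import Mathlib.AlgebraicGeometry.Morphisms.QuasiFinite
import Mathlib.CategoryTheory.Monoidal.Cartesian.Over

/-!
Geometric points over a point along a finite surjective morphism.
-/

set_option autoImplicit false
set_option linter.unusedSectionVars false
set_option linter.style.haveILetI false
set_option backward.isDefEq.respectTransparency false
set_option backward.isDefEq.respectTransparency.types false

universe u

open CategoryTheory CategoryTheory.Limits AlgebraicGeometry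

namespace Groth.Agent.AVTors2

variable {S : Scheme.{u}} {X Y : Over S} (f : X ⟶ Y) {Ω : Type u} [Field Ω] [IsAlgClosed Ω]
  (s : Spec (CommRingCat.of Ω) ⟶ S) [IsFinite f.left]

/-- The points over a geometric point correspond to the sections of the fibre. -/
noncomputable def fibreEquiv (y : Over.mk s ⟶ Y) :
    {x : Over.mk s ⟶ X // x ≫ f = y} ≃
      {t : Spec (CommRingCat.of Ω) ⟶ pullback f.left y.left // t ≫ pullback.snd f.left y.left = 𝟙 _} where
  toFun x := ⟨pullback.lift x.1.left (𝟙 _) (by
    rw [← Over.comp_left, x.2]; exact (Category.id_comp _).symm), pullback.lift_snd _ _ _⟩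
  invFun t := ⟨Over.homMk (t.1 ≫ pullback.fst f.left y.left) (by
    rw [← Over.w f, Category.assoc, pullback.condition_assoc, reassoc_of% t.2, Over.w y]), Over.OverMorphism.ext (by
    show (t.1 ≫ pullback.fst f.left y.left) ≫ f.left = y.left
    rw [Category.assoc, pullback.condition, reassoc_of% t.2])⟩
  left_inv x := Subtype.ext (Over.OverMorphism.ext (pullback.lift_fst _ _ _))
  right_inv t := Subtype.ext (by
    apply pullback.hom_ext
    · exact pullback.lift_fst _ _ _
    · exact (pullback.lift_snd _ _ _).trans t.2.symm)

theorem finite_fibre (y : Over.mk s ⟶ Y) : Finite {x : Over.mk s ⟶ X // x ≫ f = y} := by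
  let q : pullback f.left y.left ⟶ Spec (CommRingCat.of Ω) := pullback.snd f.left y.left
  haveI : IsFinite q := MorphismProperty.pullback_snd (P := @IsFinite) _ _ inferInstance
  haveI : Finite (pullback f.left y.left : Scheme.{u}) :=
    haveI : ∀ p : Spec (CommRingCat.of Ω), Finite {z // q z = p} := fun p =>
      (Scheme.Hom.finite_preimage_singleton q p).to_subtype
    haveI : Finite (Spec (CommRingCat.of Ω)) := inferInstanceAs (Finite (PrimeSpectrum Ω))
    Finite.of_equiv _ (Equiv.sigmaFiberEquiv (fun z => q z))
  haveI : Finite {t : Spec (CommRingCat.of Ω) ⟶ pullback f.left y.left // t ≫ q = 𝟙 _} :=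
    Finite.of_injective _ (pointEquivClosedPoint q).injective
  exact Finite.of_equiv _ (fibreEquiv f s y).symm

theorem exists_lift [Surjective f.left] (y : Over.mk s ⟶ Y) : ∃ x : Over.mk s ⟶ X, x ≫ f = y := by
  let q : pullback f.left y.left ⟶ Spec (CommRingCat.of Ω) := pullback.snd f.left y.left
  haveI : IsFinite q := MorphismProperty.pullback_snd (P := @IsFinite) _ _ inferInstance
  haveI : Surjective q := MorphismProperty.pullback_snd (P := @Surjective) _ _ inferInstance
  haveI : JacobsonSpace (pullback f.left y.left : Scheme.{u}) := LocallyOfFiniteType.jacobsonSpace q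
  obtain ⟨z, -⟩ := q.surjective (IsLocalRing.closedPoint Ω)
  obtain ⟨c, -, hc⟩ := nonempty_inter_closedPoints (Z := (Set.univ : Set (pullback f.left y.left : Scheme.{u})))
    ⟨z, trivial⟩ isClosed_univ.isLocallyClosed
  let x := (fibreEquiv f s y).symm ((pointEquivClosedPoint q).symm ⟨c, hc⟩)
  exact ⟨x.1, x.2⟩

end Groth.Agent.AVTors2
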