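import Groth.Agent.AVTors2.CurvePrime
import Groth.Agent.VarDim.Catenary
import Groth.Agent.VarDim.Top
import Groth.Agent.H23.RedSub
import Groth.Agent.Lib.AVAmple
import Groth.Agent.GrpSchLib.FieldTop
import Groth.Prelude.Def_AbDual

/-!
A non-trivial homomorphism is finite on a suitable proper curve.
-/

set_option autoImplicit false
set_option backward.isDefEq.respectTransparency false
set_option backward.isDefEq.respectTransparency.types false
set_option linter.style.haveILetI false
set_option linter.unusedSectionVars false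
set_option maxHeartbeats 800000

universe u

open CategoryTheory CategoryTheory.Limits MonoidalCategory CartesianMonoidalCategory MonObj AlgebraicGeometry TopologicalSpace

namespace Groth.Agent.AVTors2

variable {k : Type u} [Field k]

theorem exists_deg_one {X : Scheme.{u}} (q : X ⟶ Spec (CommRingCat.of k)) [LocallyOfFiniteType q] [IsIntegral X]
    {p : X} (hp : IsClosed ({p} : Set X)) {F : Set X} (hF : IsClosed F) (hpF : p ∈ F) (hne : F ≠ Set.univ) :
    ∃ x, x ∉ F ∧ x ⤳ p ∧ VarDim.deg q x = 1 := by
  obtain ⟨U, hU, hpU, -⟩ := exists_isAffineOpen_mem_and_subset (x := p) (U := ⊤) trivial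
  obtain ⟨z, hzU, hzF⟩ : ∃ z ∈ U, z ∉ F := by
    by_contra hc
    push_neg at hc
    refine hne (Set.eq_univ_of_univ_subset fun z _ => ?_)
    exact hF.closure_subset_iff.2 hc ((U.isOpen.dense ⟨p, hpU⟩) z)
  obtain ⟨f, hfF, hzf⟩ := hU.exists_basicOpen_le (V := ⟨Fᶜ, hF.isOpen_compl⟩) ⟨z, hzF⟩ hzU
  obtain ⟨m, hm⟩ : ∃ m : PrimeSpectrum Γ(X, U), hU.fromSpec m = p := by
    show p ∈ Set.range hU.fromSpec
    rw [hU.range_fromSpec]; exact hpU
  haveI : Nonempty U := ⟨⟨p, hpU⟩⟩
  haveI hmax : m.asIdeal.IsMaximal := by
    refine (PrimeSpectrum.isClosed_singleton_iff_isMaximal m).1 ?_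
    rw [← hU.fromSpec.isOpenEmbedding.injective.preimage_image ({m} : Set (PrimeSpectrum Γ(X, U))),
      Set.image_singleton, hm]
    exact hp.preimage hU.fromSpec.continuous
  letI := (q.appLE ⊤ U le_top).hom.comp (Scheme.ΓSpecIso (CommRingCat.of k)).inv.hom |>.toAlgebra
  haveI : Algebra.FiniteType k Γ(X, U) :=
    (q.finiteType_appLE (isAffineOpen_top _) hU le_top).comp (RingHom.FiniteType.of_surjective _
      (ConcreteCategory.bijective_of_isIso (Scheme.ΓSpecIso (CommRingCat.of k)).inv).2)
  haveI : IsNoetherianRing Γ(X, U) := Algebra.FiniteType.isNoetherianRing k _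
  have hbas : ∀ P : PrimeSpectrum Γ(X, U), hU.fromSpec P ∈ X.basicOpen f ↔ f ∉ P.asIdeal := fun P => by
    show P ∈ hU.fromSpec ⁻¹ᵁ X.basicOpen f ↔ _
    rw [hU.fromSpec_preimage_basicOpen]
    rfl
  have hf0 : f ≠ 0 := fun e => by simp [e, Scheme.basicOpen_zero] at hzf
  have hfm : f ∈ m.asIdeal := by_contra fun hc => (hfF (hm ▸ (hbas m).2 hc) : p ∈ Fᶜ) hpF
  obtain ⟨P, hPf, hcov⟩ := exists_prime_covBy m hf0 hfm
  refine ⟨hU.fromSpec P, hfF ((hbas P).2 hPf), ?_, ?_⟩
  · rw [← hm]
    exact ((PrimeSpectrum.le_iff_specializes _ _).1 hcov.le).map hU.fromSpec.continuous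
  · have h1 := VarDim.deg_eq_coheight q hU P
    rw [VarDim.coheight_of_covBy k hcov, show Order.coheight m = 0 from Order.coheight_eq_zero.2 fun Q hQ =>
      (PrimeSpectrum.ext (hmax.eq_of_le Q.2.ne_top hQ)).ge, zero_add] at h1
    exact_mod_cast h1.symm

variable {X B : Over (Spec (CommRingCat.of k))} [GrpObj B]

theorem isClosedImmersion_one [IsSeparated B.hom] : IsClosedImmersion η[B].left := by
  have h : IsClosedImmersion (η[B].left ≫ B.hom) := by
    rw [Over.w η[B]]
    exact inferInstanceAs (IsClosedImmersion (𝟙 _))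
  exact IsClosedImmersion.of_comp η[B].left B.hom

/-- A morphism from a reduced scheme with image in the origin is trivial. -/
theorem eq_one_of_range [IsSeparated B.hom] [IsReduced X.left] (φ : X ⟶ B)
    (h : Set.range φ.left ⊆ Set.range η[B].left) : φ = 1 := by
  haveI : IsSeparated (B.hom) := inferInstance
  haveI : IsClosedImmersion η[B].left := isClosedImmersion_one
  obtain ⟨g, hg⟩ := H23.RedSub.exists_lift_closed φ.left η[B].left h
  ext
  show φ.left = X.hom ≫ η[B].left
  have : g = X.hom := by
    have h2 := congrArg (· ≫ B.hom) hg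
    simp only [Category.assoc, Over.w η[B], Over.w φ] at h2
    exact (Category.comp_id g).symm.trans h2
  rw [← this, hg]

/-- A non-trivial homomorphism from a proper integral group scheme is finite on some curve. -/
theorem exists_finite_curve [GrpObj X] [IsProper X.hom] [IsIntegral X.left] [IsSeparated B.hom] (φ : X ⟶ B) [IsMonHom φ]
    (hφ : φ ≠ 1) :
    ∃ (C : Scheme.{u}) (j : C ⟶ X.left), IsClosedImmersion j ∧ IsIntegral C ∧ topologicalKrullDim C = 1 ∧
      IsFinite (j ≫ φ.left) := by
  haveI : Subsingleton (Spec (CommRingCat.of k)) := inferInstanceAs (Subsingleton (PrimeSpectrum k))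
  haveI : IsClosedImmersion η[B].left := isClosedImmersion_one
  haveI : IsClosedImmersion η[X].left := isClosedImmersion_one
  let pt : Spec (CommRingCat.of k) := IsLocalRing.closedPoint k
  let F : Set X.left := φ.left ⁻¹' Set.range η[B].left
  have hFc : IsClosed F := η[B].left.isClosedEmbedding.isClosed_range.preimage φ.left.continuous
  have hp : IsClosed ({η[X].left pt} : Set X.left) := by
    have := η[X].left.isClosedEmbedding.isClosedMap ({pt} : Set (Spec (CommRingCat.of k))) (by rw [show ({pt} : Set (Spec (CommRingCat.of k))) = Set.univ from Set.eq_univ_of_forall fun z => Subsingleton.elim z pt]; exact isClosed_univ)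
    rwa [Set.image_singleton] at this
  have hpF : η[X].left pt ∈ F := ⟨pt, by
    rw [← Scheme.Hom.comp_apply]
    exact congrArg (fun h : 𝟙_ (Over (Spec (CommRingCat.of k))) ⟶ B => h.left pt) (IsMonHom.one_hom (f := φ)).symm⟩
  have hne : F ≠ Set.univ := fun e => hφ (eq_one_of_range φ (Set.range_subset_iff.2 fun z => e.ge trivial))
  obtain ⟨x, hxF, hxp, hdeg⟩ := exists_deg_one X.hom hp hFc hpF hne
  obtain ⟨C, j, hj, hred, hrange⟩ := H23.RedSub.exists_reduced_subscheme X.left
    (isClosed_closure (s := ({x} : Set X.left))).isLocallyClosed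
  haveI : IsClosedImmersion j := .of_isPreimmersion j (by rw [hrange]; exact isClosed_closure)
  haveI : IrreducibleSpace C := by
    have hirr : IsIrreducible (Set.range j) := hrange ▸ isIrreducible_singleton.closure
    haveI := Subtype.irreducibleSpace hirr
    exact (j.isEmbedding.toHomeomorph).irreducibleSpace_iff.2 inferInstance
  haveI : IsIntegral C := isIntegral_of_irreducibleSpace_of_isReduced C
  refine ⟨C, j, inferInstance, inferInstance, ?_, ?_⟩
  · rw [j.isEmbedding.toHomeomorph.isHomeomorph.topologicalKrullDim_eq, hrange, VarDim.topologicalKrullDim_closure_singleton X.hom x,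
      hdeg]
    rfl
  haveI : IsProper ((j ≫ φ.left) ≫ B.hom) := by rw [Category.assoc, Over.w]; infer_instance
  haveI : IsProper (j ≫ φ.left) := IsProper.of_comp (j ≫ φ.left) B.hom
  haveI : IsLocallyNoetherian X.left := LocallyOfFiniteType.isLocallyNoetherian X.hom
  haveI : CompactSpace X.left := QuasiCompact.compactSpace_of_compactSpace X.hom
  haveI : IsNoetherian X.left := {}
  haveI : IsLocallyNoetherian C := LocallyOfFiniteType.isLocallyNoetherian j
  haveI : CompactSpace C := QuasiCompact.compactSpace_of_compactSpace j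
  haveI : IsNoetherian C := {}
  haveI : JacobsonSpace C := LocallyOfFiniteType.jacobsonSpace ((j ≫ φ.left) ≫ B.hom)
  obtain ⟨c₀, hc₀⟩ : x ∈ Set.range j := hrange.ge (subset_closure rfl)
  obtain ⟨c₁, hc₁⟩ : η[X].left pt ∈ Set.range j := hrange.ge (specializes_iff_mem_closure.1 hxp)
  haveI : LocallyQuasiFinite (j ≫ φ.left) := AVAmple.locallyQuasiFinite_of_closed _ fun q hq => by
    set Z := (j ≫ φ.left) ⁻¹' {q} with hZ
    have hZc : IsClosed Z := hq.preimage (j ≫ φ.left).continuous
    have hZne : c₀ ∉ Z := fun h0 => by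
      have h1 : c₁ ∈ Z := by
        refine hZc.closure_subset_iff.2 (Set.singleton_subset_iff.2 h0) (specializes_iff_mem_closure.1 ?_)
        rw [← j.isEmbedding.specializes_iff, hc₀, hc₁]
        exact hxp
      apply hxF
      show φ.left x ∈ Set.range η[B].left
      rw [← hc₀]
      rw [show φ.left (j c₀) = φ.left (j c₁) from
        (h0 : (j ≫ φ.left) c₀ = q).trans (h1 : (j ≫ φ.left) c₁ = q).symm, hc₁]
      exact hpF
    have hclosed : ∀ z ∈ Z, IsClosed ({z} : Set C) := by
      intro z hz
      have hzx : x ⤳ j z := specializes_iff_mem_closure.2 (hrange.le ⟨z, rfl⟩)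
      have hne' : ¬ j z ⤳ x := fun h => hZne (by
        rwa [show c₀ = z from j.isEmbedding.injective (hc₀.trans (hzx.antisymm h).eq)])
      have hlt : VarDim.deg X.hom (j z) < VarDim.deg X.hom x :=
        VarDim.deg_strictMono X.hom (lt_iff_le_not_ge.2 ⟨hzx, hne'⟩)
      rw [hdeg, Nat.lt_one_iff] at hlt
      refine closure_subset_iff_isClosed.1 fun w hw => ?_
      have hw' : j z ⤳ j w := (specializes_iff_mem_closure.2 hw).map j.continuous
      by_contra hwz
      have hlt' := VarDim.deg_strictMono X.hom (show j w < j z from lt_iff_le_not_ge.2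
        ⟨hw', fun h => hwz (j.isEmbedding.injective (hw'.antisymm h).eq.symm)⟩)
      omega
    haveI : QuasiSober Z := hZc.isClosedEmbedding_subtypeVal.quasiSober
    haveI : T1Space Z := ⟨fun z => by
      have := (hclosed z.1 z.2).preimage (continuous_subtype_val : Continuous (Subtype.val : Z → C))
      rwa [show ({z} : Set Z) = Subtype.val ⁻¹' {z.1} from by ext w; simp [Subtype.ext_iff]]⟩
    haveI : Finite Z := by
      have hirr : ∀ W ∈ irreducibleComponents Z, W.Finite := fun W hW => by
        obtain ⟨w, hw⟩ := QuasiSober.sober hW.1 (isClosed_of_mem_irreducibleComponents W hW)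
        rw [← show closure {w} = W from hw, closure_singleton]
        exact Set.finite_singleton w
      refine Set.finite_univ_iff.1 (((NoetherianSpace.finite_irreducibleComponents (α := Z)).biUnion hirr).subset fun z _ => ?_)
      exact Set.mem_biUnion (irreducibleComponent_mem_irreducibleComponents z) mem_irreducibleComponent
    exact Set.toFinite Z
  exact IsFinite.of_isProper_of_locallyQuasiFinite _

end Groth.Agent.AVTors2
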