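import Groth.Agent.AVTors2.EtCard
import Groth.Agent.AVDegLib.MulN
import Groth.Agent.H23.TorsRed
import Groth.Prelude.Def_AbDual

/-!
The number of torsion points of an abelian variety with values in an algebraically closed field.
-/

set_option autoImplicit false
set_option backward.isDefEq.respectTransparency false
set_option backward.isDefEq.respectTransparency.types false
set_option linter.style.haveILetI false
set_option linter.unusedSectionVars false
set_option maxHeartbeats 800000

universe u

open CategoryTheory CategoryTheory.Limits MonoidalCategory CartesianMonoidalCategory MonObj AlgebraicGeometry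

namespace Groth.Agent.AVTors2

variable {k : Type u} [Field k] {A : Over (Spec (CommRingCat.of k))} [GrpObj A] [IsCommMonObj A]

/-- Points of the kernel of a power map as algebra maps out of its affine coordinate ring. -/
noncomputable def sectEquiv {N : Scheme.{u}} [IsAffine N] (q : N ⟶ Spec (CommRingCat.of k)) (φ : CommRingCat.of k ⟶ Γ(N, ⊤))
    (hφ : Spec.map φ = N.isoSpec.inv ≫ q) (L : Type u) [CommRing L] [Algebra k L] :
    letI := φ.hom.toAlgebra
    {t : Spec (CommRingCat.of L) ⟶ N // t ≫ q = Spec.map (CommRingCat.ofHom (algebraMap k L))} ≃ (Γ(N, ⊤) →ₐ[k] L) :=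
  letI := φ.hom.toAlgebra
  { toFun := fun t =>
      { (Spec.preimage (t.1 ≫ N.isoSpec.hom)).hom with
        commutes' := fun r => by
          have h : φ ≫ Spec.preimage (t.1 ≫ N.isoSpec.hom) = CommRingCat.ofHom (algebraMap k L) := by
            apply Spec.map_injective
            rw [Spec.map_comp, Spec.map_preimage, hφ, Category.assoc, Iso.hom_inv_id_assoc]
            exact t.2
          exact congrArg (fun ψ => ψ.hom r) h }
    invFun := fun g => ⟨Spec.map (CommRingCat.ofHom g.toRingHom) ≫ N.isoSpec.inv, by
      rw [Category.assoc, ← hφ, ← Spec.map_comp]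
      exact congrArg Spec.map (CommRingCat.hom_ext (RingHom.ext g.commutes))⟩
    left_inv := fun t => by
      apply Subtype.ext
      show Spec.map (Spec.preimage (t.1 ≫ N.isoSpec.hom)) ≫ N.isoSpec.inv = t.1
      rw [Spec.map_preimage, Category.assoc, Iso.hom_inv_id, Category.comp_id]
    right_inv := fun g => by
      refine AlgHom.ext fun c => ?_
      show (Spec.preimage ((Spec.map (CommRingCat.ofHom g.toRingHom) ≫ N.isoSpec.inv) ≫ N.isoSpec.hom)).hom c = g c
      rw [Category.assoc, Iso.inv_hom_id, Category.comp_id, Spec.preimage_map]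
      rfl }

variable [IsProper A.hom] [GeometricallyIntegral A.hom]

theorem geometricallyConnected_of_integral {X Y : Scheme.{u}} (f : X ⟶ Y) [GeometricallyIntegral f] :
    GeometricallyConnected f := ⟨fun K _ y Z fst snd h => by
  have := GeometricallyIntegral.geometrically_isIntegral (f := f) y fst snd h
  infer_instance⟩

theorem isUnit_natCast {n : ℕ} (hn : (n : k) ≠ 0) : IsUnit ((n : ℤ) : Γ(Spec (CommRingCat.of k), ⊤)) := by
  have := (isUnit_iff_ne_zero.2 hn).map (Scheme.ΓSpecIso (CommRingCat.of k)).inv.hom
  rw [map_natCast] at this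
  simpa using this

/-- An abelian variety is smooth, so multiplication by an invertible integer is etale. -/
theorem etale_pow {n : ℕ} (hn : (n : k) ≠ 0) : Etale (𝟙 A ^ n : A ⟶ A).left := by
  haveI : Smooth A.hom := S7795.result A
  haveI : GeometricallyReduced A.hom := H23.RigidGamma.geometricallyReduced_of_smooth A.hom
  haveI : GeometricallyConnected A.hom := geometricallyConnected_of_integral A.hom
  rw [← zpow_natCast]
  exact H23.MulEtale.etale_zpow _ (isUnit_natCast hn)

theorem card_torsPts {g : ℕ} (hg : topologicalKrullDim A.left = g) {n : ℕ} (hn : (n : k) ≠ 0)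
    (Ω : Type u) [Field Ω] [IsAlgClosed Ω] [Algebra k Ω] :
    Nat.card (AbDual.torsPts A n (Over.mk (Spec.map (CommRingCat.ofHom (algebraMap k Ω))))) = n ^ (2 * g) := by
  have hn0 : (n : ℤ) ≠ 0 := by
    rintro h
    exact hn (by rw [Int.natCast_eq_zero.1 h, Nat.cast_zero])
  haveI he : Etale (𝟙 A ^ n : A ⟶ A).left := etale_pow hn
  haveI hf : IsFinite (𝟙 A ^ n : A ⟶ A).left := AVMulN.isFinite_pow (A := A) n (by omega)
  let q := Limits.pullback.fst (η[A]).left (𝟙 A ^ n : A ⟶ A).left
  have hqe : Etale q := MorphismProperty.pullback_fst (P := @Etale) _ _ he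
  have hqf : IsFinite q := MorphismProperty.pullback_fst (P := @IsFinite) _ _ hf
  haveI : IsAffine (𝟙_ (Over (Spec (CommRingCat.of k)))).left := inferInstanceAs (IsAffine (Spec (CommRingCat.of k)))
  haveI : IsAffine (H23.TorsRed.tors A n) := isAffine_of_isAffineHom q
  let N := H23.TorsRed.tors A n
  let C := Γ(N, ⊤)
  obtain ⟨φ, hφ⟩ := Spec.map_surjective (N.isoSpec.inv ≫ q)
  have hdeg : (Spec.map φ).finrank (IsLocalRing.closedPoint k) = n ^ (2 * g) := by
    rw [hφ, Scheme.Hom.finrank_comp_left_of_isIso, Scheme.Hom.finrank_pullback_fst, ← zpow_natCast]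
    simpa using AVDegLib.finrank_zpow (A := A) hg (n : ℤ) hn0 _
  letI : Algebra k C := φ.hom.toAlgebra
  have h1 : IsFinite (Spec.map φ) := by rw [hφ]; infer_instance
  have h2 : Etale (Spec.map φ) := by rw [hφ]; infer_instance
  haveI : Module.Finite k C := by
    rw [IsFinite.SpecMap_iff] at h1; exact h1
  haveI : Algebra.Etale k C := by
    rw [HasRingHomProperty.Spec_iff (P := @Etale)] at h2; exact h2
  have key := Nat.card_congr ((H23.TorsRed.ptsEquiv A n (Over.mk (Spec.map (CommRingCat.ofHom (algebraMap k Ω))))).trans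
    (sectEquiv q φ hφ Ω))
  refine key.trans ?_
  rw [card_algHom_of_unramified k C Ω, ← hdeg]
  rw [show Spec.map φ = Spec.map (CommRingCat.ofHom (algebraMap k C)) from rfl,
    Scheme.Hom.finrank_SpecMap_algebraMap, Module.rankAtStalk_eq_finrank_of_free, Pi.natCast_apply, Nat.cast_id]

/-- The rational case: the identity of the base as the structure map of the points. -/
theorem card_torsPts_self [IsAlgClosed k] {g : ℕ} (hg : topologicalKrullDim A.left = g) {n : ℕ} (hn : (n : k) ≠ 0) :
    Nat.card (AbDual.torsPts A n (Over.mk (𝟙 (Spec (CommRingCat.of k))))) = n ^ (2 * g) := by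
  have e : Spec.map (CommRingCat.ofHom (algebraMap k k)) = 𝟙 (Spec (CommRingCat.of k)) := by
    rw [Algebra.algebraMap_self, CommRingCat.ofHom_id, Spec.map_id]
  have := card_torsPts (A := A) hg hn k
  rwa [e] at this

end Groth.Agent.AVTors2
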