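import Groth.Agent.AlgGrpH24.QuotGrp
import Groth.Agent.FBaseLib.Basic
import Groth.Agent.H23.MaxAbelian
import Groth.Agent.AbTors.Factor
import Groth.Prelude.Def_EndRing

/-! Quotients of abelian varieties by closed subgroups. -/

set_option backward.isDefEq.respectTransparency false
set_option backward.isDefEq.respectTransparency.types false
set_option linter.style.haveILetI false

open CategoryTheory AlgebraicGeometry MonoidalCategory CartesianMonoidalCategory MonObj Limits GrpObj

namespace Groth.Agent.AVTors2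

universe u

variable {k : Type u} [Field k]

/-- The target of a surjective flat map from a geometrically integral proper scheme. -/
theorem geometricallyIntegral_of_cover {X Y : Over (Spec (CommRingCat.of k))} [GeometricallyIntegral X.hom]
    (q : X ⟶ Y) [Flat q.left] [Surjective q.left] : GeometricallyIntegral Y.hom := by
  refine H23.MaxAbelian.geometricallyIntegral_of_pullback _ fun K _ x => ?_
  let e : pullback q.left (pullback.fst Y.hom x) ≅ pullback (q.left ≫ Y.hom) x :=
    pullbackRightPullbackFstIso Y.hom x q.left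
  haveI h1 : IsIntegral (pullback (q.left ≫ Y.hom) x) := by
    rw [Over.w q]
    exact GeometricallyIntegral.isIntegral_of_subsingleton (pullback.snd X.hom x)
  haveI : IsIntegral (pullback q.left (pullback.fst Y.hom x)) := H23.MaxAbelian.isIntegral_of_iso e
  let qK := pullback.snd q.left (pullback.fst Y.hom x)
  haveI : AlgebraicGeometry.IsReduced (pullback Y.hom x) := FBaseLib.isReduced_of_flat_surjective qK
  haveI : IrreducibleSpace (pullback Y.hom x : Scheme.{u}) := FBaseLib.irreducibleSpace_of_surjective qK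
  exact isIntegral_of_irreducibleSpace_of_isReduced _

/-- The quotient of an abelian variety by a closed subgroup. -/
theorem exists_quotient {X H : Over (Spec (CommRingCat.of k))} [GrpObj X] [IsCommMonObj X] [IsProper X.hom]
    [GeometricallyIntegral X.hom] [GrpObj H] (i : H ⟶ X) [IsMonHom i] [IsClosedImmersion i.left] :
    ∃ (Y : Over (Spec (CommRingCat.of k))) (_ : GrpObj Y) (_ : IsCommMonObj Y) (_ : IsProper Y.hom)
      (_ : GeometricallyIntegral Y.hom) (q : X ⟶ Y) (_ : IsMonHom q),
      Surjective q.left ∧ Flat q.left ∧ QuasiCompact q.left ∧ Epi q ∧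
        ∀ (T : Over (Spec (CommRingCat.of k))) (x : T ⟶ X), x ≫ q = 1 ↔ ∃ y : T ⟶ H, y ≫ i = x := by
  have hN : AlgGrp.IsNormalHom i := fun T g n => ⟨n, mul_inv_cancel_comm g (n ≫ i)⟩
  obtain ⟨Y, _, q, _, hs, hfl, -, _, _, hsep, hker⟩ := AlgGrpH24.exists_quotient_grp i hN
  haveI := hs
  haveI := hfl
  haveI := hsep
  haveI : QuasiCompact (q.left ≫ Y.hom) := by rw [Over.w q]; infer_instance
  haveI hqc : QuasiCompact q.left := QuasiCompact.of_comp q.left Y.hom
  haveI : UniversallyClosed Y.hom := by
    haveI : UniversallyClosed (q.left ≫ Y.hom) := by rw [Over.w q]; infer_instance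
    exact UniversallyClosed.of_comp_surjective q.left Y.hom
  haveI : IsProper Y.hom := {}
  haveI : GeometricallyIntegral Y.hom := geometricallyIntegral_of_cover q
  haveI : IsCommMonObj Y := isCommMonObj_of_isProper_of_geometricallyIntegral Y
  refine ⟨Y, _, inferInstance, inferInstance, inferInstance, q, inferInstance, hs, hfl, hqc,
    (GrpSchLib.IsCover.epi ⟨hfl, hs, hqc⟩), fun T x => ⟨fun hx => ?_, ?_⟩⟩
  · exact ⟨hker.lift x (toUnit T) (by rw [hx, Hom.one_def]), hker.lift_fst _ _ _⟩
  · rintro ⟨y, rfl⟩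
    rw [Category.assoc, hker.w, ← Category.assoc, toUnit_unique (y ≫ toUnit H) (toUnit T), Hom.one_def]

/-- The common kernel of finitely many homomorphisms is a closed subgroup. -/
theorem exists_commonKernel {X A : Over (Spec (CommRingCat.of k))} [GrpObj X] [GrpObj A] [IsSeparated A.hom] :
    ∀ {n : ℕ} (ψ : Fin n → (X ⟶ A)), (∀ i, IsMonHom (ψ i)) →
      ∃ (K : Over (Spec (CommRingCat.of k))) (_ : GrpObj K) (j : K ⟶ X) (_ : IsMonHom j),
        IsClosedImmersion j.left ∧
        ∀ (T : Over (Spec (CommRingCat.of k))) (x : T ⟶ X), (∀ i, x ≫ ψ i = 1) ↔ ∃ y : T ⟶ K, y ≫ j = x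
  | 0, _, _ => ⟨X, inferInstance, 𝟙 X, inferInstance, inferInstanceAs (IsClosedImmersion (𝟙 X.left)),
      fun _ x => ⟨fun _ => ⟨x, Category.comp_id x⟩, fun _ i => i.elim0⟩⟩
  | n + 1, ψ, hψ => by
    obtain ⟨K, _, j, _, _, hK⟩ := exists_commonKernel (fun i => ψ i.castSucc) fun i => hψ _
    haveI := hψ (Fin.last n)
    obtain ⟨L, _, m, hm, hmc, -, hker⟩ := GrpSchLib.exists_kernel (j ≫ ψ (Fin.last n))
    haveI := hm
    haveI := hmc
    refine ⟨L, inferInstance, m ≫ j, inferInstance, by rw [Over.comp_left]; infer_instance, fun T x => ⟨fun h => ?_, ?_⟩⟩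
    · obtain ⟨y, hy⟩ := (hK T x).1 fun i => h _
      refine ⟨hker.lift y (toUnit T) ?_, ?_⟩
      · rw [← Category.assoc, hy, h, Hom.one_def]
      · rw [← Category.assoc, hker.lift_fst, hy]
    · rintro ⟨z, rfl⟩ i
      induction i using Fin.lastCases with
      | last =>
        simp only [Category.assoc]
        rw [hker.w, ← Category.assoc, toUnit_unique (z ≫ toUnit L) (toUnit T), Hom.one_def]
      | cast i => exact (hK T _).2 ⟨z ≫ m, Category.assoc _ _ _⟩ i

end Groth.Agent.AVTors2
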