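import Groth.Agent.AVTors2.QFrob
import Groth.Agent.AVTors2.Quot
import Groth.Agent.AVTors2.HomFG
import Mathlib.AlgebraicGeometry.ZariskisMainTheorem

/-! Abelian varieties over a finite field whose Frobenius satisfies a given equation; Hom-functors into one of them. -/

set_option backward.isDefEq.respectTransparency false
set_option backward.isDefEq.respectTransparency.types false
set_option linter.style.haveILetI false
set_option synthInstance.maxHeartbeats 400000

open CategoryTheory AlgebraicGeometry MonoidalCategory CartesianMonoidalCategory MonObj Limits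

namespace Groth.Agent.AVTors2

universe u

variable {k : Type u} [Field k]

/-- Abelian varieties whose q-Frobenius is a root of `P`. -/
def InCat (P : Polynomial ℤ) (Z : Over (Spec (CommRingCat.of k))) [GrpObj Z] [IsCommMonObj Z] : Prop :=
  ∃ π : EndAV.End Z, IsQFrob π.toHom ∧ Polynomial.eval₂ (Int.castRingHom (EndAV.End Z)) π P = 0

variable {P : Polynomial ℤ}

theorem InCat.mk' {Z : Over (Spec (CommRingCat.of k))} [GrpObj Z] [IsCommMonObj Z] (π : Z ⟶ Z) [IsMonHom π]
    (hb : π.left.base = 𝟙 _) (hle : ∀ U : Z.left.Opens, U ≤ π.left ⁻¹ᵁ U)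
    (happ : ∀ (U : Z.left.Opens) (s : Γ(Z.left, U)), (π.left.appLE U U (hle U)).hom s = s ^ Nat.card k)
    (hP : Polynomial.eval₂ (Int.castRingHom (EndAV.End Z)) (EndAV.End.of π) P = 0) : InCat P Z :=
  ⟨EndAV.End.of π, IsQFrob.mk' hb hle happ, hP⟩

/-- Unpack `InCat`. -/
theorem InCat.data {Z : Over (Spec (CommRingCat.of k))} [GrpObj Z] [IsCommMonObj Z] (hZ : InCat P Z) :
    ∃ (π : Z ⟶ Z) (_ : IsMonHom π) (_ : π.left.base = 𝟙 _) (hle : ∀ U : Z.left.Opens, U ≤ π.left ⁻¹ᵁ U)
      (_ : ∀ (U : Z.left.Opens) (s : Γ(Z.left, U)), (π.left.appLE U U (hle U)).hom s = s ^ Nat.card k),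
      Polynomial.eval₂ (Int.castRingHom (EndAV.End Z)) (EndAV.End.of π) P = 0 := by
  obtain ⟨π, hπ, hP⟩ := hZ
  exact ⟨π.toHom, inferInstance, hπ.base, fun U => (hπ.preimage_eq U).ge, fun U s => hπ.app U _ s, hP⟩

variable [Finite k]

/-- The category is stable under quotients. -/
theorem InCat.of_epi {X Y : Over (Spec (CommRingCat.of k))} [GrpObj X] [IsCommMonObj X] [GrpObj Y] [IsCommMonObj Y]
    (q : X ⟶ Y) [IsMonHom q] [Epi q] (hX : InCat P X) : InCat P Y := by
  obtain ⟨a, ha, hP⟩ := hX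
  obtain ⟨π, hπ⟩ := exists_qfrob Y
  haveI := hπ.isMonHom
  exact ⟨EndAV.End.of π, hπ, eval₂_eq_zero_of_epi q a (EndAV.End.of π) (ha.natural hπ q) P hP⟩

/-- The category is stable under jointly injective maps into members. -/
theorem InCat.of_family {X : Over (Spec (CommRingCat.of k))} [GrpObj X] [IsCommMonObj X] {κ : Type*}
    (Y : κ → Over (Spec (CommRingCat.of k))) [∀ i, GrpObj (Y i)] [∀ i, IsCommMonObj (Y i)]
    (hY : ∀ i, InCat P (Y i)) (j : ∀ i, X ⟶ Y i) [∀ i, IsMonHom (j i)]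
    (hj : ∀ (T : Over (Spec (CommRingCat.of k))) (x y : T ⟶ X), (∀ i, x ≫ j i = y ≫ j i) → x = y) :
    InCat P X := by
  obtain ⟨π, hπ⟩ := exists_qfrob X
  haveI := hπ.isMonHom
  refine ⟨EndAV.End.of π, hπ, EndAV.End.ext (hj _ _ _ fun i => ?_)⟩
  obtain ⟨b, hb, hP⟩ := hY i
  rw [eval₂_comm (j i) (EndAV.End.of π) b (hπ.natural hb (j i)) P, hP, EndAV.End.toHom_zero,
    EndAV.End.toHom_zero, MonObj.comp_one, MonObj.one_comp]

/-- A finite power of a member, with projections and inclusions. -/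
theorem exists_pow {A : Over (Spec (CommRingCat.of k))} [GrpObj A] [IsCommMonObj A] [IsProper A.hom]
    [GeometricallyIntegral A.hom] (hA : InCat P A) (n : ℕ) :
    ∃ (W : Over (Spec (CommRingCat.of k))) (_ : GrpObj W) (_ : IsCommMonObj W) (_ : IsProper W.hom)
      (_ : GeometricallyIntegral W.hom) (pr : Fin n → EndAV.Hom W A) (inc : Fin n → EndAV.Hom A W),
      InCat P W ∧
      (∀ (T : Over (Spec (CommRingCat.of k))) (x y : T ⟶ W), (∀ i, x ≫ (pr i).toHom = y ≫ (pr i).toHom) → x = y) ∧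
      (∀ (T : Over (Spec (CommRingCat.of k))) (x : Fin n → (T ⟶ A)), ∃ y : T ⟶ W, ∀ i, y ≫ (pr i).toHom = x i) ∧
      (∀ h : EndAV.Hom W A, h = ∑ i, pr i ≫ (inc i ≫ h)) ∧
      (∀ (s : Fin n → EndAV.Hom A A) (i : Fin n), inc i ≫ (∑ j, pr j ≫ s j) = s i) := by
  have base : ∀ m : ℕ, ∃ (W : Over (Spec (CommRingCat.of k))) (_ : GrpObj W) (_ : IsCommMonObj W) (_ : IsProper W.hom)
      (_ : GeometricallyIntegral W.hom) (pr : Fin m → EndAV.Hom W A),
      (∀ (T : Over (Spec (CommRingCat.of k))) (x y : T ⟶ W), (∀ i, x ≫ (pr i).toHom = y ≫ (pr i).toHom) → x = y) ∧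
      (∀ (T : Over (Spec (CommRingCat.of k))) (x : Fin m → (T ⟶ A)), ∃ y : T ⟶ W, ∀ i, y ≫ (pr i).toHom = x i) := by
    intro m
    induction m with
    | zero =>
      haveI : IsProper (𝟙_ (Over (Spec (CommRingCat.of k)))).hom :=
        inferInstanceAs (IsProper (𝟙 (Spec (CommRingCat.of k))))
      haveI : GeometricallyIntegral (𝟙_ (Over (Spec (CommRingCat.of k)))).hom :=
        H23.MaxAbelian.geometricallyIntegral_of_pullback _ fun K _ x =>
          H23.MaxAbelian.isIntegral_of_iso (asIso (pullback.snd (𝟙 (Spec (CommRingCat.of k))) x))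
      exact ⟨𝟙_ _, inferInstance, isCommMonObj_of_isProper_of_geometricallyIntegral _, inferInstance, inferInstance,
        fun i => i.elim0, fun T x y _ => toUnit_unique x y, fun T _ => ⟨toUnit T, fun i => i.elim0⟩⟩
    | succ m ih =>
      obtain ⟨W, _, _, _, _, pr, hj, hl⟩ := ih
      haveI : IsProper (W ⊗ A).hom := by
        have h : (W ⊗ A).hom = pullback.snd W.hom A.hom ≫ A.hom := by rw [← pullback.condition]; rfl
        rw [h]; infer_instance
      haveI : GeometricallyIntegral (W ⊗ A).hom := H23.MaxAbelian.geometricallyIntegral_tensor W A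
      haveI : IsCommMonObj (W ⊗ A) := isCommMonObj_of_isProper_of_geometricallyIntegral _
      refine ⟨W ⊗ A, inferInstance, inferInstance, inferInstance, inferInstance,
        Fin.snoc (α := fun _ => EndAV.Hom (W ⊗ A) A) (fun i => EndAV.Hom.of (fst W A ≫ (pr i).toHom))
          (EndAV.Hom.of (snd W A)), fun T x y h => ?_, fun T x => ?_⟩
      · apply CartesianMonoidalCategory.hom_ext
        · refine hj _ _ _ fun i => ?_
          have := h i.castSucc
          simp only [Fin.snoc_castSucc, EndAV.Hom.toHom_of] at this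
          rw [Category.assoc, Category.assoc, this]
        · have := h (Fin.last m)
          simpa only [Fin.snoc_last, EndAV.Hom.toHom_of] using this
      · obtain ⟨y, hy⟩ := hl T fun i => x i.castSucc
        refine ⟨lift y (x (Fin.last m)), fun i => ?_⟩
        induction i using Fin.lastCases with
        | last => simp only [Fin.snoc_last, EndAV.Hom.toHom_of, lift_snd]
        | cast i => simp only [Fin.snoc_castSucc, EndAV.Hom.toHom_of, lift_fst_assoc, hy]
  obtain ⟨W, _, _, _, _, pr, hj, hl⟩ := base n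
  classical
  choose inc hinc using fun i : Fin n => hl A fun j => EndAV.Hom.toHom (if i = j then 𝟙 (CommGrp.mk A) else (0 : EndAV.Hom A A))
  haveI : ∀ i, IsMonHom (inc i) := fun i =>
    { one_hom := hj _ _ _ fun j => by rw [Category.assoc, hinc, IsMonHom.one_hom, IsMonHom.one_hom]
      mul_hom := hj _ _ _ fun j => by
        rw [Category.assoc, hinc, IsMonHom.mul_hom, Category.assoc, IsMonHom.mul_hom (f := (pr j).toHom),
          ← Category.assoc, tensorHom_comp_tensorHom, hinc] }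
  let I : Fin n → EndAV.Hom A W := fun i => EndAV.Hom.of (inc i)
  have hI : ∀ i j, I i ≫ pr j = if i = j then 𝟙 (CommGrp.mk A) else (0 : EndAV.Hom A A) :=
    fun i j => EndAV.Hom.ext (hinc i j)
  have hW : InCat P W := InCat.of_family (fun _ : Fin n => A) (fun _ => hA) (fun i => (pr i).toHom) hj
  have hid : (∑ i, pr i ≫ I i : EndAV.Hom W W) = 𝟙 (CommGrp.mk W) := by
    refine EndAV.Hom.ext (hj _ _ _ fun j => ?_)
    have e : (∑ i, pr i ≫ I i : EndAV.Hom W W) ≫ pr j = (𝟙 (CommGrp.mk W) : EndAV.Hom W W) ≫ pr j := by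
      rw [Preadditive.sum_comp, Category.id_comp]
      simp only [Category.assoc, hI]
      rw [Finset.sum_eq_single j (fun i _ hi => by rw [if_neg hi]; exact comp_zero) (by simp), if_pos rfl,
        Category.comp_id]
    exact congrArg EndAV.Hom.toHom e
  refine ⟨W, inferInstance, inferInstance, inferInstance, inferInstance, pr, I, hW, hj, hl, fun h => ?_, fun s i => ?_⟩
  · conv_lhs => rw [← Category.id_comp h, ← hid, Preadditive.sum_comp]
    simp only [Category.assoc]
  · rw [Preadditive.comp_sum]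
    simp only [← Category.assoc, hI]
    rw [Finset.sum_eq_single i (fun j _ hj' => by rw [if_neg (Ne.symm hj')]; exact zero_comp) (by simp), if_pos rfl,
      Category.id_comp]

variable {A : Over (Spec (CommRingCat.of k))} [GrpObj A] [IsCommMonObj A] [IsProper A.hom]
  [GeometricallyIntegral A.hom]

omit [Finite k] in
/-- Additive combinations vanish on points killed by each term. -/
theorem comp_sum_eq_one {Y : Over (Spec (CommRingCat.of k))} [GrpObj Y] [IsCommMonObj Y] {κ : Type*}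
    (s : Finset κ) (f : κ → EndAV.Hom Y A) {T : Over (Spec (CommRingCat.of k))} (x : T ⟶ Y)
    (h : ∀ i ∈ s, x ≫ (f i).toHom = 1) : x ≫ (∑ i ∈ s, f i).toHom = 1 :=
  Finset.sum_induction f (fun φ => x ≫ φ.toHom = 1)
    (fun a b ha hb => by
      show x ≫ (a + b).toHom = 1
      rw [EndAV.Hom.toHom_add, MonObj.comp_mul, ha, hb]; simp)
    (by show x ≫ (0 : EndAV.Hom Y A).toHom = 1; rw [EndAV.Hom.toHom_zero, MonObj.comp_one]) h

omit [Finite k] in
theorem comp_zsmul_eq_one {Y : Over (Spec (CommRingCat.of k))} [GrpObj Y] [IsCommMonObj Y] (n : ℤ)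
    (f : EndAV.Hom Y A) {T : Over (Spec (CommRingCat.of k))} (x : T ⟶ Y) (h : x ≫ f.toHom = 1) :
    x ≫ (n • f).toHom = 1 := by
  rw [EndAV.Hom.toHom_zsmul, GrpObj.comp_zpow, h, one_zpow]

/-- A family of maps into `A` descends to a subobject cut out by a jointly injective family. -/
theorem exists_factor {X Y : Over (Spec (CommRingCat.of k))} [GrpObj X] [IsCommMonObj X]
    [GrpObj Y] [IsCommMonObj Y] [IsProper Y.hom] [GeometricallyIntegral Y.hom] (hA : InCat P A)
    (hcog : ∀ (Z : Over (Spec (CommRingCat.of k))) [GrpObj Z] [IsCommMonObj Z] [IsProper Z.hom]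
      [GeometricallyIntegral Z.hom], InCat P Z → ∃ (n : ℕ) (ξ : Fin n → EndAV.Hom Z A),
        ∀ (T : Over (Spec (CommRingCat.of k))) (x y : T ⟶ Z), (∀ i, x ≫ (ξ i).toHom = y ≫ (ξ i).toHom) → x = y)
    {n : ℕ} (ψ : Fin n → EndAV.Hom Y A)
    (hψ : ∀ (T : Over (Spec (CommRingCat.of k))) (x y : T ⟶ Y), (∀ i, x ≫ (ψ i).toHom = y ≫ (ψ i).toHom) → x = y)
    (F : Fin n → EndAV.Hom X A)
    (hF : ∀ s : Fin n → EndAV.Hom A A, (∑ i, ψ i ≫ s i) = 0 → (∑ i, F i ≫ s i) = 0) :
    ∃ f : EndAV.Hom X Y, ∀ i, f ≫ ψ i = F i := by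
  obtain ⟨W, _, _, _, _, pr, inc, hW, hj, hl, hdec, -⟩ := exists_pow hA n
  obtain ⟨Ψ, hΨ⟩ := hl Y fun i => (ψ i).toHom
  obtain ⟨G, hG⟩ := hl X fun i => (F i).toHom
  haveI : IsMonHom Ψ :=
    { one_hom := hj _ _ _ fun j => by rw [Category.assoc, hΨ, IsMonHom.one_hom, IsMonHom.one_hom]
      mul_hom := hj _ _ _ fun j => by
        rw [Category.assoc, hΨ, IsMonHom.mul_hom, Category.assoc, IsMonHom.mul_hom (f := (pr j).toHom),
          ← Category.assoc, tensorHom_comp_tensorHom, hΨ] }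
  haveI : IsMonHom G :=
    { one_hom := hj _ _ _ fun j => by rw [Category.assoc, hG, IsMonHom.one_hom, IsMonHom.one_hom]
      mul_hom := hj _ _ _ fun j => by
        rw [Category.assoc, hG, IsMonHom.mul_hom, Category.assoc, IsMonHom.mul_hom (f := (pr j).toHom),
          ← Category.assoc, tensorHom_comp_tensorHom, hG] }
  haveI : Mono Ψ := ⟨fun a b e => hψ _ _ _ fun i => by rw [← hΨ i, reassoc_of% e]⟩
  haveI : IsProper (Ψ.left ≫ W.hom) := by rw [Over.w Ψ]; infer_instance
  haveI : IsProper Ψ.left := IsProper.of_comp Ψ.left W.hom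
  haveI : Mono Ψ.left := inferInstanceAs (Mono ((Over.forget _).map Ψ))
  haveI : IsClosedImmersion Ψ.left := (IsClosedImmersion.iff_isProper_and_mono (f := Ψ.left)).mpr ⟨inferInstance, inferInstance⟩
  obtain ⟨Q, _, _, _, _, q, _, _, _, _, hepi, hker⟩ := exists_quotient Ψ
  haveI := hepi
  obtain ⟨m, ξ, hξ⟩ := hcog Q (InCat.of_epi q hW)
  have hq : Ψ ≫ q = 1 := (hker Y Ψ).2 ⟨𝟙 Y, Category.id_comp _⟩
  have hGq : G ≫ q = 1 := by
    refine hξ _ _ _ fun j => ?_
    let h : EndAV.Hom W A := EndAV.Hom.of q ≫ ξ j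
    have e1 : EndAV.Hom.of Ψ ≫ h = 0 := by
      apply EndAV.Hom.ext
      show Ψ ≫ q ≫ (ξ j).toHom = 1
      rw [← Category.assoc, hq, MonObj.one_comp]
    have e2 : ∀ i, EndAV.Hom.of Ψ ≫ pr i = ψ i := fun i => EndAV.Hom.ext (hΨ i)
    have e3 : ∀ i, EndAV.Hom.of G ≫ pr i = F i := fun i => EndAV.Hom.ext (hG i)
    rw [hdec h, Preadditive.comp_sum] at e1
    simp only [← Category.assoc, e2] at e1
    have e4 := hF (fun i => inc i ≫ h) (by simpa only [Category.assoc] using e1)
    have e5 : EndAV.Hom.of G ≫ h = 0 := by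
      rw [hdec h, Preadditive.comp_sum]
      simp only [← Category.assoc, e3]
      simpa only [Category.assoc] using e4
    have := congrArg EndAV.Hom.toHom e5
    rw [MonObj.one_comp, Category.assoc]
    exact this
  obtain ⟨f, hf⟩ := (hker X G).1 hGq
  haveI : IsMonHom f :=
    { one_hom := by rw [← cancel_mono Ψ, Category.assoc, hf, IsMonHom.one_hom, IsMonHom.one_hom]
      mul_hom := by
        rw [← cancel_mono Ψ, Category.assoc, hf, IsMonHom.mul_hom, Category.assoc, IsMonHom.mul_hom (f := Ψ),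
          ← Category.assoc, tensorHom_comp_tensorHom, hf] }
  refine ⟨EndAV.Hom.of f, fun i => EndAV.Hom.ext ?_⟩
  show f ≫ (ψ i).toHom = (F i).toHom
  rw [← hΨ i, reassoc_of% hf, hG i]

omit [Finite k] in
/-- Homomorphisms into `A` are generated by finitely many. -/
theorem exists_hom_gens (Y : Over (Spec (CommRingCat.of k))) [GrpObj Y] [IsCommMonObj Y] [IsProper Y.hom]
    [GeometricallyIntegral Y.hom] : ∃ (n : ℕ) (φ : Fin n → EndAV.Hom Y A), ∀ f, ∃ c : Fin n → ℤ, f = ∑ i, c i • φ i := by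
  obtain ⟨g, hg⟩ : ∃ g : ℕ, topologicalKrullDim Y.left = g := by
    haveI : IsIntegral Y.left := GeometricallyIntegral.isIntegral_of_subsingleton Y.hom
    exact ⟨_, VarDim.topologicalKrullDim_eq_deg_genericPoint Y.hom⟩
  obtain ⟨h, hh⟩ : ∃ g : ℕ, topologicalKrullDim A.left = g := by
    haveI : IsIntegral A.left := GeometricallyIntegral.isIntegral_of_subsingleton A.hom
    exact ⟨_, VarDim.topologicalKrullDim_eq_deg_genericPoint A.hom⟩
  obtain ⟨-, hfin, -⟩ := hom_finite_free (A := Y) (B := A) hg hh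
  obtain ⟨n, φ, hφ⟩ := Module.Finite.exists_fin (R := ℤ) (M := EndAV.Hom Y A)
  refine ⟨n, φ, fun f => ?_⟩
  obtain ⟨c, hc⟩ := (Submodule.mem_span_range_iff_exists_fun ℤ).1 (hφ ▸ Submodule.mem_top : f ∈ Submodule.span ℤ (Set.range φ))
  exact ⟨c, hc.symm⟩

/-- Full faithfulness of `Hom(-, A)` makes homomorphisms into `A` separate points. -/
theorem eq_one_of_forall_comp
    (hff : ∀ (X Y : Over (Spec (CommRingCat.of k))) [GrpObj X] [IsCommMonObj X] [IsProper X.hom]
      [GeometricallyIntegral X.hom] [GrpObj Y] [IsCommMonObj Y] [IsProper Y.hom] [GeometricallyIntegral Y.hom],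
      InCat P X → InCat P Y →
      (∀ f g : EndAV.Hom X Y, (∀ φ : EndAV.Hom Y A, f ≫ φ = g ≫ φ) → f = g) ∧
        (∀ g : EndAV.Hom Y A →+ EndAV.Hom X A,
          (∀ (φ : EndAV.Hom Y A) (s : EndAV.Hom A A), g (φ ≫ s) = g φ ≫ s) →
            ∃ f : EndAV.Hom X Y, ∀ φ : EndAV.Hom Y A, g φ = f ≫ φ))
    {Y : Over (Spec (CommRingCat.of k))} [GrpObj Y] [IsCommMonObj Y] [IsProper Y.hom] [GeometricallyIntegral Y.hom]
    (hY : InCat P Y) {T : Over (Spec (CommRingCat.of k))} (x : T ⟶ Y)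
    (hx : ∀ φ : EndAV.Hom Y A, x ≫ φ.toHom = 1) : x = 1 := by
  obtain ⟨n, gen, hgen⟩ := exists_hom_gens (A := A) Y
  obtain ⟨K, _, j, _, hjc, hK⟩ := exists_commonKernel (fun i => (gen i).toHom) fun i => inferInstance
  haveI := hjc
  obtain ⟨W, _, _, _, _, q, _, hs, hfl, hqc, hepi, hker⟩ := exists_quotient j
  haveI := hs
  haveI := hfl
  haveI := hqc
  haveI := hepi
  have hkill : ∀ (φ : EndAV.Hom Y A) (T' : Over (Spec (CommRingCat.of k))) (y : T' ⟶ Y), y ≫ q = 1 → y ≫ φ.toHom = 1 := by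
    intro φ T' y hy
    obtain ⟨c, rfl⟩ := hgen φ
    exact comp_sum_eq_one _ _ _ fun i _ => comp_zsmul_eq_one _ _ _ ((hK T' y).2 ((hker T' y).1 hy) i)
  choose ρ hρ _ using fun φ : EndAV.Hom Y A => AbTors.exists_unique_factor q φ.toHom (hkill φ)
  haveI := fun φ => (hρ φ).1
  let c : EndAV.Hom Y W := EndAV.Hom.of q
  haveI : Epi c := ⟨fun a b e => EndAV.Hom.ext ((cancel_epi q).1 (congrArg EndAV.Hom.toHom e))⟩
  have hc : ∀ φ : EndAV.Hom Y A, c ≫ EndAV.Hom.of (ρ φ) = φ := fun φ => EndAV.Hom.ext (hρ φ).2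
  let g : EndAV.Hom Y A →+ EndAV.Hom W A :=
    { toFun := fun φ => EndAV.Hom.of (ρ φ)
      map_zero' := by rw [← cancel_epi c, hc, comp_zero]
      map_add' := fun a b => by rw [← cancel_epi c, Preadditive.comp_add, hc, hc, hc] }
  obtain ⟨h, hh⟩ := (hff W Y (InCat.of_epi q hY) hY).2 g fun φ s => by
    rw [← cancel_epi c]
    exact (hc _).trans (by rw [← Category.assoc]; exact congrArg (· ≫ s) (hc φ).symm)
  have hid : c ≫ h = 𝟙 _ := (hff Y Y hY hY).1 _ _ fun φ => by
    rw [Category.assoc, ← hh, Category.id_comp]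
    exact hc φ
  have hxq : x ≫ q = 1 := (hker T x).2 ((hK T x).1 fun i => hx _)
  have e := congrArg EndAV.Hom.toHom hid
  rw [EndAV.Hom.toHom_comp, EndAV.Hom.toHom_of, EndAV.Hom.toHom_id] at e
  rw [← Category.comp_id x, ← e, ← Category.assoc, hxq, MonObj.one_comp]

end Groth.Agent.AVTors2
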