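import Groth.Agent.Lib.CurveRR
import Groth.Agent.Lib.AVProj
import Groth.Agent.AmpleX.Comp
import Groth.Agent.AmpleX.QuasiAffine
import Groth.Agent.S1519
import Groth.Agent.S4381

/-!
The degree of invertible classes on a proper integral curve: additivity and positivity on ample classes.
-/

set_option autoImplicit false
set_option backward.isDefEq.respectTransparency false
set_option backward.isDefEq.respectTransparency.types false
set_option linter.style.haveILetI false
set_option linter.unusedSectionVars false
set_option maxHeartbeats 800000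

universe u

open CategoryTheory CategoryTheory.Limits AlgebraicGeometry TopologicalSpace

namespace Groth.Agent.AVTors2

open scoped Groth.Agent.H23.PicMul

variable {k : Type u} [Field k] {C : Scheme.{u}} [C.Over (Spec (CommRingCat.of k))] [IsIntegral C]
  [IsProper (C ↘ Spec (CommRingCat.of k))]

theorem deg_mul (hdim : topologicalKrullDim C = 1) {L M N : C.Modules} (hL : PicF.IsInvertible L)
    (hM : PicF.IsInvertible M) (h : PicF.cl N = PicF.cl L * PicF.cl M) :
    Curv2.deg k C N 1 = Curv2.deg k C L 1 + Curv2.deg k C M 1 := by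
  rw [← H23.PicMul.cl_tensor] at h
  obtain ⟨e⟩ := (PicGrp.cl_eq_cl_iff _ _).1 h
  rw [CurveRR.deg_congr k e 1]
  exact CurveRR.deg_tensor k hdim hL hM

theorem deg_tensorPow (hdim : topologicalKrullDim C = 1) {L : C.Modules} (hL : PicF.IsInvertible L) :
    ∀ n : ℕ, Curv2.deg k C (CohB1.tensorPow L n) 1 = n * Curv2.deg k C L 1
  | 0 => by rw [Nat.cast_zero, zero_mul]; exact CurveDeg.deg_structureModule k
  | n + 1 => by
    rw [deg_mul hdim (InvX.isInvertible_tensorPow hL n) hL
      (show PicF.cl (CohB1.tensorPow L (n + 1)) = _ by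
        rw [H23.PicMul.cl_tensorPow, H23.PicMul.cl_tensorPow, pow_succ]),
      deg_tensorPow hdim hL n]
    push_cast
    ring

/-- An ample module on a curve has positive degree. -/
theorem deg_pos_of_isAmple (hdim : topologicalKrullDim C = 1) {L : C.Modules} (hL : CohB1.IsAmple L) :
    0 < Curv2.deg k C L 1 := by
  haveI : IsLocallyNoetherian C := LocallyOfFiniteType.isLocallyNoetherian (C ↘ Spec (CommRingCat.of k))
  obtain ⟨x⟩ : Nonempty C := inferInstance
  obtain ⟨n, s, hx, hs⟩ := hL.2.2 x
  have hne : ∃ y, y ∉ CohB1.genLocus (CohB1.tensorPow L (n + 1)) s := by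
    by_contra hc
    push_neg at hc
    rw [show CohB1.genLocus (CohB1.tensorPow L (n + 1)) s = ⊤ from top_le_iff.1 fun y _ => hc y] at hs
    haveI : IsAffine ((⊤ : C.Opens) : Scheme) := hs
    haveI : IsAffine C := IsAffine.of_isIso (C.topIso).inv
    haveI : C.IsQuasiAffine := inferInstance
    haveI : Finite C := AVProj.finite_of_isProper_quasiAffine (C ↘ Spec (CommRingCat.of k))
    haveI : JacobsonSpace C := LocallyOfFiniteType.jacobsonSpace (C ↘ Spec (CommRingCat.of k))
    haveI : DiscreteTopology C := inferInstance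
    have := topologicalKrullDim_zero_of_discreteTopology C
    rw [hdim] at this
    norm_num at this
  have hs0 : s ≠ 0 := by
    rintro rfl
    rw [AmpleX.genLocus_eq_locus] at hx
    obtain ⟨V, hV, hxV, hf⟩ := AmpleX.mem_locus.1 hx
    have h0 : AModX.res (CohB1.tensorPow L (n + 1)) hV (InvX.one (0 : Coh.structureModule C ⟶ CohB1.tensorPow L (n + 1))) = 0 := by
      have : InvX.one (0 : Coh.structureModule C ⟶ CohB1.tensorPow L (n + 1)) = 0 := rfl
      rw [this]; exact map_zero _
    rw [h0] at hf
    have h1 : (1 : Γ(C, V)) = 0 := hf.coord_unique le_rfl (by rw [AModX.res_self]; exact (smul_zero _).trans (smul_zero _).symm)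
    haveI : Nonempty V := ⟨⟨x, hxV⟩⟩
    exact one_ne_zero h1
  obtain ⟨y, hy⟩ := hne
  have := S1519.result k C hdim _ (InvX.isInvertible_tensorPow hL.1 (n + 1)) s hs0 y hy
  rw [deg_tensorPow hdim hL.1] at this
  by_contra hc
  push_neg at hc
  exact absurd this (not_lt.2 (mul_nonpos_of_nonneg_of_nonpos (by positivity) hc))

/-- Pullback of an ample module along a finite morphism of proper schemes is ample. -/
theorem isAmple_pullback_finite {X Y : Scheme.{u}} (p : Y ⟶ Spec (CommRingCat.of k)) [QuasiCompact p]
    (g : X ⟶ Y) [IsFinite g] {L : Y.Modules} (hL : CohB1.IsAmple L) :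
    CohB1.IsAmple ((Scheme.Modules.pullback g).obj L) := by
  haveI : QuasiCompact (g ≫ p) := inferInstance
  refine (S4381.result (g ≫ p) _).1 (AmpleX.isRelAmple_pullback_quasiAffine p g ⟨inferInstance, fun V hV => ?_⟩
    ((S4381.result p _).2 hL))
  haveI : IsAffine (g ⁻¹ᵁ V : Scheme.{u}) := hV.preimage g
  infer_instance

end Groth.Agent.AVTors2
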