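import Mathlib.RingTheory.Ideal.KrullsHeightTheorem
import Mathlib.RingTheory.Noetherian.Basic

/-!
Below a maximal ideal, a prime maximal among those avoiding a given element is covered by the maximal ideal.
-/

universe u

namespace Groth.Agent.AVTors2

theorem exists_prime_covBy {R : Type u} [CommRing R] [IsDomain R] [IsNoetherianRing R] (m : PrimeSpectrum R)
    [m.asIdeal.IsMaximal] {f : R} (hf : f ≠ 0) (hfm : f ∈ m.asIdeal) :
    ∃ P : PrimeSpectrum R, f ∉ P.asIdeal ∧ P ⋖ m := by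
  obtain ⟨P, ⟨hPp, hPm, hPf⟩, hPmax⟩ := set_has_maximal_iff_noetherian.2 (inferInstance : IsNoetherian R R)
    {P : Ideal R | P.IsPrime ∧ P ≤ m.asIdeal ∧ f ∉ P}
    ⟨⊥, Ideal.isPrime_bot, bot_le, by simpa using hf⟩
  refine ⟨⟨P, hPp⟩, hPf, ⟨lt_of_le_of_ne hPm fun e => hPf (by rw [show P = m.asIdeal from congrArg (·.asIdeal) e]; exact hfm), ?_⟩⟩
  intro Q hPQ hQm
  haveI := hPp
  let π := Ideal.Quotient.mk P
  have hπ : Function.Surjective π := Ideal.Quotient.mk_surjective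
  haveI : IsNoetherianRing (R ⧸ P) := inferInstance
  let M := m.asIdeal.map π
  let Q₀ := Q.asIdeal.map π
  have hker : RingHom.ker π = P := Ideal.mk_ker
  haveI hMp : M.IsPrime := Ideal.map_isPrime_of_surjective hπ (by rw [hker]; exact hPm)
  haveI hQp : Q₀.IsPrime := Ideal.map_isPrime_of_surjective hπ (by rw [hker]; exact hPQ.le)
  have hcomap : ∀ J : Ideal R, P ≤ J → (J.map π).comap π = J := fun J hJ => by
    rw [Ideal.comap_map_of_surjective π hπ, ← RingHom.ker_eq_comap_bot, hker, sup_eq_left.2 hJ]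
  have hQM : Q₀ < M := lt_of_le_of_ne (Ideal.map_mono hQm.le) fun e => hQm.ne (PrimeSpectrum.ext (by
    rw [← hcomap _ hPQ.le, ← hcomap _ hPm]; exact congrArg (Ideal.comap π) e))
  have hQ0 : Q₀ ≠ ⊥ := fun e => hPQ.ne (PrimeSpectrum.ext (by
    rw [← hcomap _ hPQ.le]; rw [show Q.asIdeal.map π = ⊥ from e, ← RingHom.ker_eq_comap_bot, hker]))
  have hmem : ∀ J : Ideal (R ⧸ P), J.IsPrime → J ≤ M → J ≠ ⊥ → π f ∈ J := by
    intro J hJ hJM hJ0
    by_contra hfJ
    refine hPmax (J.comap π) ⟨hJ.comap π, (Ideal.comap_mono hJM).trans (hcomap _ hPm).le, hfJ⟩ ?_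
    refine lt_of_le_of_ne ((le_of_eq (hker.symm.trans (RingHom.ker_eq_comap_bot π))).trans (Ideal.comap_mono bot_le)) fun e => hJ0 ?_
    rw [← Ideal.map_comap_of_surjective π hπ J, ← e, Ideal.map_quotient_self]
  have hfin := Ideal.finite_minimalPrimes_of_isNoetherianRing (R ⧸ P) (Ideal.span {π f})
  have hf0 : π f ≠ 0 := fun e => hPf (Ideal.Quotient.eq_zero_iff_mem.1 e)
  have hht : ∀ J ∈ (Ideal.span {π f}).minimalPrimes, J.height ≤ 1 := fun J hJ =>
    Ideal.height_le_one_of_isPrincipal_of_mem_minimalPrimes _ J hJ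
  have hbot : ∀ (J J' : Ideal (R ⧸ P)), J.IsPrime → J'.IsPrime → J ≠ ⊥ → J < J' → ¬ J'.height ≤ 1 := by
    intro J J' hJ hJ' hJ0 hlt hle
    haveI := hJ; haveI := hJ'
    haveI : J'.FiniteHeight := inferInstance
    haveI : J.FiniteHeight := inferInstance
    have h1 : (⊥ : Ideal (R ⧸ P)).height < J.height := Ideal.height_strict_mono_of_isPrime (Ne.bot_lt hJ0)
    have h2 := Ideal.height_strict_mono_of_isPrime hlt
    rw [Ideal.height_bot] at h1
    have h3 : J.height + 1 ≤ 1 := (Order.add_one_le_of_lt h2).trans hle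
    have h4 : (1 : ℕ∞) ≤ J.height := Order.one_le_iff_pos.2 h1
    exact absurd ((add_le_add_left h4 1).trans h3) (by decide)
  obtain ⟨a, haM, ha⟩ : ∃ a ∈ M, ∀ J ∈ (Ideal.span {π f}).minimalPrimes, a ∉ J := by
    by_contra hc
    push_neg at hc
    have hsub : (M : Set (R ⧸ P)) ⊆ ⋃ J ∈ (hfin.toFinset : Set (Ideal (R ⧸ P))), (J : Set (R ⧸ P)) := fun a ha => by
      obtain ⟨J, hJ, haJ⟩ := hc a ha
      exact Set.mem_biUnion (by simpa using hJ) haJ
    obtain ⟨J, hJ, hMJ⟩ := (Ideal.subset_union_prime ⊥ ⊥ fun J hJ _ _ => (hfin.mem_toFinset.1 hJ).1.1).1 hsub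
    have hJm := hfin.mem_toFinset.1 hJ
    exact hbot Q₀ J hQp hJm.1.1 hQ0 (hQM.trans_le hMJ) (hht J hJm)
  have ha0 : a ≠ 0 := fun e => by
    obtain ⟨J, hJ, -⟩ := Ideal.exists_minimalPrimes_le (I := Ideal.span {π f}) (J := M)
      ((Ideal.span_singleton_le_iff_mem _).2 (hmem M hMp le_rfl (fun e => hQM.ne_bot e)))
    exact ha J hJ (e ▸ J.zero_mem)
  obtain ⟨Q', hQ', hQ'M⟩ := Ideal.exists_minimalPrimes_le (I := Ideal.span {a}) (J := M)
    ((Ideal.span_singleton_le_iff_mem _).2 haM)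
  haveI := hQ'.1.1
  have haQ' : a ∈ Q' := (Ideal.span_singleton_le_iff_mem _).1 hQ'.1.2
  have hQ'0 : Q' ≠ ⊥ := fun e => ha0 (by simpa [e] using haQ')
  obtain ⟨J, hJ, hJQ'⟩ := Ideal.exists_minimalPrimes_le (I := Ideal.span {π f}) (J := Q')
    ((Ideal.span_singleton_le_iff_mem _).2 (hmem Q' inferInstance hQ'M hQ'0))
  rcases eq_or_lt_of_le hJQ' with e | hlt
  · exact ha J hJ (e ▸ haQ')
  · exact hbot J Q' hJ.1.1 inferInstance (fun e => hf0 (by simpa [e] using (Ideal.span_singleton_le_iff_mem _).1 hJ.1.2))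
      hlt (Ideal.height_le_one_of_isPrincipal_of_mem_minimalPrimes _ Q' hQ')

end Groth.Agent.AVTors2
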