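import Groth.Agent.AVTors2.HomFG
import Mathlib.FieldTheory.Minpoly.Field
import Mathlib.RingTheory.TensorProduct.Basic

/-!
The minimal polynomial of an endomorphism on the Tate module has integral coefficients.
-/

set_option autoImplicit false
set_option backward.isDefEq.respectTransparency false
set_option backward.isDefEq.respectTransparency.types false
set_option linter.style.haveILetI false
set_option linter.unusedSectionVars false
set_option maxHeartbeats 800000
set_option synthInstance.maxHeartbeats 400000

universe u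

open CategoryTheory CategoryTheory.Limits MonoidalCategory CartesianMonoidalCategory MonObj AlgebraicGeometry Polynomial
open scoped TensorProduct

namespace Groth.Agent.AVTors2

/-- An element of a torsion-free finite `ℤ`-algebra has an integral monic polynomial with independent lower powers. -/
theorem exists_minimal_monic {R : Type*} [Ring R] [Module.Free ℤ R] [Module.Finite ℤ R] (x : R) :
    ∃ g : ℤ[X], g.Monic ∧ aeval x g = 0 ∧ LinearIndependent ℤ fun i : Fin g.natDegree => x ^ (i : ℕ) := by
  let j : R →ₐ[ℤ] ℚ ⊗[ℤ] R := Algebra.TensorProduct.includeRight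
  have hj : Function.Injective j :=
    Algebra.TensorProduct.includeRight_injective (algebraMap ℤ ℚ).injective_int
  obtain ⟨P, hP, hPx⟩ : ∃ P : ℤ[X], P.Monic ∧ aeval x P = 0 := IsIntegral.of_finite ℤ x
  have hint : IsIntegral ℚ (j x) := ⟨P.map (algebraMap ℤ ℚ), hP.map _, by
    rw [← aeval_def, aeval_map_algebraMap, aeval_algHom_apply, hPx, map_zero]⟩
  have hdvd : minpoly ℚ (j x) ∣ P.map (algebraMap ℤ ℚ) := minpoly.dvd _ _ (by
    rw [aeval_map_algebraMap, aeval_algHom_apply, hPx, map_zero])
  obtain ⟨g, hg⟩ := IsIntegrallyClosed.eq_map_mul_C_of_dvd ℚ hP hdvd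
  rw [(minpoly.monic hint).leadingCoeff, map_one, _root_.mul_one] at hg
  have hinj : Function.Injective (algebraMap ℤ ℚ) := (algebraMap ℤ ℚ).injective_int
  have hgd : g.natDegree = (minpoly ℚ (j x)).natDegree := by rw [← hg, natDegree_map_eq_of_injective hinj]
  refine ⟨g, monic_of_injective hinj (hg ▸ minpoly.monic hint), hj ?_, ?_⟩
  · rw [map_zero, ← aeval_algHom_apply, ← aeval_map_algebraMap ℚ, hg, minpoly.aeval]
  · rw [Fintype.linearIndependent_iff]
    intro a ha i
    have hli := linearIndependent_pow (K := ℚ) (j x)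
    rw [Fintype.linearIndependent_iff] at hli
    have h0 := hli (fun i => (a (Fin.cast hgd.symm i) : ℚ)) (by
      have h1 := congrArg j ha
      rw [map_sum, map_zero] at h1
      rw [← h1, ← (finCongr hgd).sum_comp]
      refine Finset.sum_congr rfl fun i _ => ?_
      rw [map_zsmul, map_pow, Int.cast_smul_eq_zsmul]
      rfl) (Fin.cast hgd i)
    simpa using h0

/-- Minimal polynomials in a faithful representation whose scalar extension stays faithful. -/
theorem exists_minpoly_of_independent {R : Type*} [Ring R] [Module.Free ℤ R] [Module.Finite ℤ R] {S : Type*}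
    [CommRing S] [Nontrivial S] {E : Type*} [Ring E] [Algebra S E] (r : R →+* E)
    (hr : ∀ (n : ℕ) (e : Fin n → R), LinearIndependent ℤ e → LinearIndependent S fun i => r (e i)) (f : R) :
    ∃ P : ℤ[X], P.Monic ∧ minpoly S (r f) = P.map (Int.castRingHom S) := by
  obtain ⟨P, hPm, hP0, hPind⟩ := exists_minimal_monic f
  refine ⟨P, hPm, ?_⟩
  have h1 : aeval (r f) (P.map (Int.castRingHom S)) = 0 := by
    have h2 := congrArg r hP0
    rw [RingHom.map_zero, aeval_def, hom_eval₂] at h2
    rw [aeval_def, eval₂_map, ← h2]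
    congr 1
    exact RingHom.ext_int _ _
  refine (minpoly.unique' _ _ (hPm.map _) h1 fun q hq => or_iff_not_imp_right.2 fun hne => ?_).symm
  rw [not_ne_iff] at hne
  have hli := hr _ _ hPind
  rw [Fintype.linearIndependent_iff] at hli
  rw [hPm.degree_map, degree_eq_natDegree hPm.ne_zero] at hq
  ext m
  rw [coeff_zero]
  by_cases hm : m < P.natDegree
  · have hlt : q.natDegree < P.natDegree := by
      rcases eq_or_ne q 0 with rfl | hq0
      · simpa using (Nat.zero_le m).trans_lt hm
      · rw [degree_eq_natDegree hq0] at hq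
        exact_mod_cast hq
    refine hli (fun i => q.coeff i) ?_ ⟨m, hm⟩
    rw [← hne, aeval_eq_sum_range' hlt, ← Fin.sum_univ_eq_sum_range (fun i => q.coeff i • (r f) ^ i) P.natDegree]
    exact Finset.sum_congr rfl fun i _ => by rw [RingHom.map_pow]
  · exact coeff_eq_zero_of_degree_lt (lt_of_lt_of_le hq (by exact_mod_cast (not_lt.1 hm)))

variable {k : Type u} [Field k] {A : Over (Spec (CommRingCat.of k))}
  [GrpObj A] [IsCommMonObj A] [IsProper A.hom] [GeometricallyIntegral A.hom]
  (Ω : Type u) [Field Ω] [IsAlgClosed Ω] [Algebra k Ω] {l : ℕ} [hl' : Fact l.Prime] (hl : (l : k) ≠ 0)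

local notation "T₀" => (Over.mk (Spec.map (CommRingCat.ofHom (algebraMap k Ω))))

include hl in
/-- The Tate representation is faithful. -/
theorem tateRep_injective : Function.Injective (EndAV.End.tateRep (A := A) l T₀) := by
  intro φ₁ φ₂ h12
  rw [← sub_eq_zero]
  have hφ : EndAV.End.tateRep (A := A) l T₀ (φ₁ - φ₂) = 0 := by rw [RingHom.map_sub, h12, sub_self]
  generalize φ₁ - φ₂ = φ at hφ ⊢
  by_contra hne
  have he : LinearIndependent ℤ (fun _ : Fin 1 => (φ : EndAV.Hom A A)) := by
    rw [Fintype.linearIndependent_iff]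
    intro a ha i
    obtain rfl : i = 0 := Subsingleton.elim _ _
    rw [Fin.sum_univ_one] at ha
    by_contra h0
    exact hne (eq_zero_of_smul_eq_zero h0 ha)
  exact (linearIndependent_tateMap Ω l hl _ he).ne_zero 0 hφ

include hl in
/-- The minimal polynomial on the Tate module is integral. -/
theorem exists_minpoly_tateRep (f : EndAV.End A) :
    ∃ P : ℤ[X], P.Monic ∧ minpoly ℤ_[l] (EndAV.End.tateRep l T₀ f) = P.map (Int.castRingHom ℤ_[l]) := by
  obtain ⟨g, hg⟩ : ∃ g : ℕ, topologicalKrullDim A.left = g := by
    haveI : IsIntegral A.left := GeometricallyIntegral.isIntegral_of_subsingleton A.hom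
    exact ⟨_, VarDim.topologicalKrullDim_eq_deg_genericPoint A.hom⟩
  obtain ⟨hfree, hfin, -⟩ := hom_finite_free (A := A) (B := A) hg hg
  exact @exists_minpoly_of_independent (EndAV.End A) _ hfree hfin _ _ _ _ _ _ (EndAV.End.tateRep (A := A) l T₀)
    (fun n e he => linearIndependent_tateMap Ω l hl e he) f

end Groth.Agent.AVTors2
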