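import Groth.Agent.AbTors.Tate
import Groth.Agent.AbTors.Sub
import Groth.Agent.AbTors.Points
import Groth.Agent.H23.EquidimFibres

/-!
The prime-power torsion points of an abelian variety over an algebraically closed field are Zariski dense.
-/

set_option autoImplicit false
set_option backward.isDefEq.respectTransparency false
set_option backward.isDefEq.respectTransparency.types false
set_option linter.style.haveILetI false
set_option linter.unusedSectionVars false
set_option maxHeartbeats 800000

universe u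

open CategoryTheory CategoryTheory.Limits MonoidalCategory CartesianMonoidalCategory MonObj AlgebraicGeometry TopologicalSpace

namespace Groth.Agent.AVTors2

variable {k : Type u} [Field k] [IsAlgClosed k] {A : Over (Spec (CommRingCat.of k))} [GrpObj A]

local notation "𝐩" => 𝟙_ (Over (Spec (CommRingCat.of k)))

/-- The image of a point. -/
noncomputable def imPt (a : 𝐩 ⟶ A) : A.left := a.left (IsLocalRing.closedPoint k)

theorem range_pt (a : 𝐩 ⟶ A) : Set.range a.left = {imPt a} := by
  ext x
  constructor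
  · rintro ⟨p, rfl⟩
    exact congrArg a.left (Subsingleton.elim (α := PrimeSpectrum k) p (IsLocalRing.closedPoint k))
  · rintro rfl
    exact ⟨_, rfl⟩

theorem imPt_comp {B : Over (Spec (CommRingCat.of k))} [GrpObj B] (a : 𝐩 ⟶ A) (f : A ⟶ B) :
    imPt (a ≫ f) = f.left (imPt a) := rfl

/-- Translation by a point. -/
noncomputable def trl (a : 𝐩 ⟶ A) : A ⟶ A := (toUnit A ≫ a) * 𝟙 A

theorem comp_trl (a b : 𝐩 ⟶ A) : b ≫ trl a = a * b := by
  rw [trl, MonObj.comp_mul, Category.comp_id, ← Category.assoc, toUnit_unique (b ≫ toUnit A) (𝟙 _), Category.id_comp]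

theorem trl_one : trl (1 : 𝐩 ⟶ A) = 𝟙 A := by
  rw [trl, MonObj.comp_one, _root_.one_mul]

theorem trl_mul (a b : 𝐩 ⟶ A) : trl (a * b) = trl b ≫ trl a := by
  conv_rhs => rw [trl, trl, MonObj.comp_mul, Category.comp_id, ← Category.assoc,
    toUnit_unique (_ ≫ toUnit A) (toUnit A), ← _root_.mul_assoc, ← MonObj.comp_mul]
  rfl

theorem trl_inv_comp (a : 𝐩 ⟶ A) : trl a⁻¹ ≫ trl a = 𝟙 A := by rw [← trl_mul, mul_inv_cancel, trl_one]

theorem imPt_mul (a b : 𝐩 ⟶ A) : imPt (a * b) = (trl a).left (imPt b) := by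
  rw [← comp_trl, imPt_comp]

/-- Translation as a homeomorphism. -/
noncomputable def trlHomeo (a : 𝐩 ⟶ A) : A.left ≃ₜ A.left where
  toFun := (trl a).left
  invFun := (trl a⁻¹).left
  left_inv x := by
    rw [← Scheme.Hom.comp_apply, ← Over.comp_left, ← trl_mul, inv_mul_cancel, trl_one]; rfl
  right_inv x := by
    rw [← Scheme.Hom.comp_apply, ← Over.comp_left, trl_inv_comp]; rfl
  continuous_toFun := (trl a).left.continuous
  continuous_invFun := (trl a⁻¹).left.continuous

variable [IsProper A.hom] [IsCommMonObj A]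

/-- The prime-power torsion points. -/
def torsInf (A : Over (Spec (CommRingCat.of k))) [GrpObj A] [IsCommMonObj A] (l : ℕ) : Subgroup (𝐩 ⟶ A) where
  carrier := {a | ∃ n, a ^ (l ^ n) = 1}
  one_mem' := ⟨0, one_pow _⟩
  mul_mem' := by
    rintro a b ⟨m, hm⟩ ⟨n, hn⟩
    refine ⟨m + n, ?_⟩
    rw [mul_pow, pow_add, pow_mul, hm, one_pow, mul_comm (l ^ m), pow_mul, hn, one_pow, _root_.one_mul]
  inv_mem' := by
    rintro a ⟨n, hn⟩
    exact ⟨n, by rw [inv_pow, hn, inv_one]⟩

variable (l : ℕ)

/-- The closure of the torsion points. -/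
noncomputable def torsClosure : Set A.left := closure (imPt '' (torsInf A l : Set (𝐩 ⟶ A)))

theorem isClosed_torsClosure : IsClosed (torsClosure (A := A) l) := isClosed_closure

theorem imPt_mem {a : 𝐩 ⟶ A} (ha : a ∈ torsInf A l) : imPt a ∈ torsClosure l := subset_closure ⟨a, ha, rfl⟩

theorem map_torsClosure {a : 𝐩 ⟶ A} (ha : a ∈ torsInf A l) :
    Set.MapsTo (trl a).left (torsClosure l) (torsClosure l) := by
  refine Set.MapsTo.closure ?_ (trl a).left.continuous
  rintro _ ⟨b, hb, rfl⟩
  exact ⟨a * b, mul_mem ha hb, imPt_mul a b⟩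

/-- Translation by a torsion point restricted to the closure. -/
noncomputable def trlRestr (a : torsInf A l) : torsClosure (A := A) l → torsClosure (A := A) l :=
  fun x => ⟨(trl a.1).left x.1, map_torsClosure l a.2 x.2⟩

theorem trlRestr_mul (a b : torsInf A l) (x : torsClosure (A := A) l) :
    trlRestr l (a * b) x = trlRestr l a (trlRestr l b x) := by
  apply Subtype.ext
  show (trl (a.1 * b.1)).left x.1 = _
  rw [trl_mul]; rfl

theorem trlRestr_one (x : torsClosure (A := A) l) : trlRestr l 1 x = x := by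
  apply Subtype.ext
  show (trl (1 : 𝐩 ⟶ A)).left x.1 = _
  rw [trl_one]; rfl

/-- The restricted translation as a homeomorphism. -/
noncomputable def restrHomeo (a : torsInf A l) : torsClosure (A := A) l ≃ₜ torsClosure (A := A) l where
  toFun := trlRestr l a
  invFun := trlRestr l a⁻¹
  left_inv x := by rw [← trlRestr_mul, inv_mul_cancel, trlRestr_one]
  right_inv x := by rw [← trlRestr_mul, mul_inv_cancel, trlRestr_one]
  continuous_toFun := ((trl a.1).left.continuous.comp continuous_subtype_val).subtype_mk _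
  continuous_invFun := ((trl (a⁻¹ : torsInf A l).1).left.continuous.comp continuous_subtype_val).subtype_mk _

theorem image_mem_irreducibleComponents {X : Type*} [TopologicalSpace X] (h : X ≃ₜ X) {Z : Set X}
    (hZ : Z ∈ irreducibleComponents X) : h '' Z ∈ irreducibleComponents X := by
  refine ⟨hZ.1.image h h.continuous.continuousOn, fun W hW hle => ?_⟩
  have h1 : Z ⊆ h.symm '' W := fun z hz => ⟨h z, hle ⟨z, hz, rfl⟩, h.symm_apply_apply z⟩
  have h2 := hZ.2 (hW.image h.symm h.symm.continuous.continuousOn) h1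
  intro w hw
  exact ⟨h.symm w, h2 ⟨w, hw, rfl⟩, h.apply_symm_apply w⟩

variable [GeometricallyIntegral A.hom] [hl' : Fact l.Prime]

/-- The closure of the torsion points is irreducible. -/
theorem isIrreducible_torsClosure : IsIrreducible (torsClosure (A := A) l) := by
  classical
  haveI : IsLocallyNoetherian A.left := LocallyOfFiniteType.isLocallyNoetherian A.hom
  haveI : CompactSpace A.left := QuasiCompact.compactSpace_of_compactSpace A.hom
  haveI : IsNoetherian A.left := {}
  haveI : NoetherianSpace (torsClosure (A := A) l) := Topology.IsInducing.subtypeVal.noetherianSpace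
  let D := torsClosure (A := A) l
  let C := irreducibleComponents D
  haveI : Finite C := NoetherianSpace.finite_irreducibleComponents.to_subtype
  haveI := Fintype.ofFinite C
  let act : torsInf A l → C → C := fun a Z => ⟨restrHomeo l a '' Z.1, image_mem_irreducibleComponents _ Z.2⟩
  have act_mul : ∀ a b Z, act (a * b) Z = act a (act b Z) := fun a b Z => Subtype.ext (by
    show restrHomeo l (a * b) '' Z.1 = restrHomeo l a '' (restrHomeo l b '' Z.1)
    rw [Set.image_image]
    exact Set.image_congr fun x _ => trlRestr_mul l a b x)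
  have act_one : ∀ Z, act 1 Z = Z := fun Z => Subtype.ext (by
    show restrHomeo l 1 '' Z.1 = Z.1
    exact (Set.image_congr fun x _ => (trlRestr_one l x : restrHomeo l 1 x = x)).trans (Set.image_id' _))
  let σ : torsInf A l →* Equiv.Perm C :=
    MonoidHom.mk' (fun a => ⟨act a, act a⁻¹, fun Z => by rw [← act_mul, inv_mul_cancel, act_one],
      fun Z => by rw [← act_mul, mul_inv_cancel, act_one]⟩) fun a b => Equiv.ext fun Z => act_mul a b Z
  have hfix : ∀ a Z, act a Z = Z := by
    intro a Z
    let M := Nat.card (Equiv.Perm C)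
    obtain ⟨b, hb⟩ := AbTors.exists_root A (n := l ^ M) (Nat.one_le_pow _ _ hl'.out.pos) a.1
    obtain ⟨n, hn⟩ := a.2
    let b' : torsInf A l := ⟨b, M + n, by rw [pow_add, pow_mul, hb]; exact hn⟩
    have hab : a = b' ^ (l ^ M) := Subtype.ext hb.symm
    have hord : orderOf (σ b') ∣ l ^ (M + n) := by
      refine orderOf_dvd_of_pow_eq_one ?_
      rw [← map_pow, show b' ^ (l ^ (M + n)) = 1 from Subtype.ext (by
        show b ^ (l ^ (M + n)) = 1
        rw [pow_add, pow_mul, hb]; exact hn), map_one]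
    obtain ⟨i, -, hi⟩ := (Nat.dvd_prime_pow hl'.out).1 hord
    have hiM : i ≤ M := by
      have h1 : orderOf (σ b') ≤ M := Nat.le_of_dvd Nat.card_pos (orderOf_dvd_natCard (σ b'))
      rw [hi] at h1
      exact (Nat.lt_pow_self hl'.out.one_lt).le.trans h1
    have h2 : σ a = 1 := by
      rw [hab, map_pow, ← orderOf_dvd_iff_pow_eq_one, hi]
      exact pow_dvd_pow _ hiM
    exact congrFun (congrArg DFunLike.coe h2) Z
  have he : imPt (1 : 𝐩 ⟶ A) ∈ D := imPt_mem l (one_mem _)
  let e : D := ⟨_, he⟩
  let Z₀ : C := ⟨irreducibleComponent e, irreducibleComponent_mem_irreducibleComponents e⟩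
  have hsub : D ⊆ Subtype.val '' Z₀.1 := by
    refine closure_minimal ?_ ((isClosed_torsClosure l).isClosedEmbedding_subtypeVal.isClosedMap _
      isClosed_irreducibleComponent)
    rintro _ ⟨a, ha, rfl⟩
    have h : restrHomeo l (⟨a, ha⟩ : torsInf A l) e ∈ Z₀.1 := by
      have h' := congrArg Subtype.val (hfix ⟨a, ha⟩ Z₀)
      rw [← h']
      exact ⟨e, mem_irreducibleComponent, rfl⟩
    refine ⟨_, h, ?_⟩
    show (trl a).left (imPt (1 : 𝐩 ⟶ A)) = imPt a
    rw [← imPt_mul, _root_.mul_one]
  have heq : Subtype.val '' Z₀.1 = D := Set.Subset.antisymm (by rintro _ ⟨x, _, rfl⟩; exact x.2) hsub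
  show IsIrreducible D
  rw [← heq]
  exact Z₀.2.1.image _ continuous_subtype_val.continuousOn

theorem exists_point {X : Over (Spec (CommRingCat.of k))} [LocallyOfFiniteType X.hom] {z : X.left}
    (hz : IsClosed ({z} : Set X.left)) : ∃ q : 𝐩 ⟶ X, q.left (IsLocalRing.closedPoint k) = z := by
  refine ⟨Over.homMk (pointOfClosedPoint X.hom z hz) (pointOfClosedPoint_comp _ _ _), ?_⟩
  exact pointOfClosedPoint_apply _ _ _ _

theorem eq_univ_of_points {X : Over (Spec (CommRingCat.of k))} [LocallyOfFiniteType X.hom] {W : Set X.left}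
    (hW : IsClosed W) (h : ∀ q : 𝐩 ⟶ X, q.left (IsLocalRing.closedPoint k) ∈ W) : W = Set.univ := by
  haveI : JacobsonSpace X.left := LocallyOfFiniteType.jacobsonSpace X.hom
  by_contra hne
  obtain ⟨z, hz, hzc⟩ := nonempty_inter_closedPoints (Z := Wᶜ) (Set.nonempty_compl.2 hne) hW.isOpen_compl.isLocallyClosed
  obtain ⟨q, hq⟩ := exists_point hzc
  exact hz (hq ▸ h q)

theorem mul_mem_torsClosure {a b : 𝐩 ⟶ A} (ha : imPt a ∈ torsClosure l) (hb : imPt b ∈ torsClosure l) :
    imPt (a * b) ∈ torsClosure l := by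
  have h : Set.MapsTo (trl b).left (imPt '' (torsInf A l : Set (𝐩 ⟶ A))) (torsClosure l) := by
    rintro _ ⟨c, hc, rfl⟩
    rw [← imPt_mul, mul_comm, imPt_mul]
    exact map_torsClosure l hc hb
  have := h.closure (trl b).left.continuous ha
  rw [(isClosed_torsClosure l).closure_eq, ← imPt_mul, mul_comm] at this
  exact this

theorem inv_mem_torsClosure {a : 𝐩 ⟶ A} (ha : imPt a ∈ torsClosure l) : imPt a⁻¹ ∈ torsClosure l := by
  have hinv : ∀ c : 𝐩 ⟶ A, ((𝟙 A)⁻¹ : A ⟶ A).left (imPt c) = imPt c⁻¹ := fun c => by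
    rw [← imPt_comp, GrpObj.comp_inv, Category.comp_id]
  have h : Set.MapsTo ((𝟙 A)⁻¹ : A ⟶ A).left (imPt '' (torsInf A l : Set (𝐩 ⟶ A)))
      (imPt '' (torsInf A l : Set (𝐩 ⟶ A))) := by
    rintro _ ⟨c, hc, rfl⟩
    exact ⟨c⁻¹, inv_mem hc, (hinv c).symm⟩
  rw [← hinv]
  exact h.closure ((𝟙 A)⁻¹ : A ⟶ A).left.continuous ha

/-- The torsion points are dense. -/
theorem torsClosure_eq_univ (hl : (l : k) ≠ 0) : torsClosure (A := A) l = Set.univ := by
  let Dc : Closeds A.left := ⟨torsClosure l, isClosed_torsClosure l⟩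
  let I := Scheme.IdealSheafData.vanishingIdeal Dc
  let P : Over (Spec (CommRingCat.of k)) := Over.mk (I.subschemeι ≫ A.hom)
  let ψ : P ⟶ A := Over.homMk I.subschemeι rfl
  haveI : IsClosedImmersion ψ.left := inferInstanceAs (IsClosedImmersion I.subschemeι)
  haveI : IsReduced P.left := H23.RedSub.isReduced_vanishingIdeal _
  have hr : Set.range ψ.left = torsClosure l := H23.RedSub.range_vanishingIdeal Dc
  haveI : IsProper P.hom := inferInstanceAs (IsProper (I.subschemeι ≫ A.hom))
  haveI : IrreducibleSpace P.left := by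
    have hirr : IsIrreducible (Set.range ψ.left) := hr ▸ isIrreducible_torsClosure l
    haveI := Subtype.irreducibleSpace hirr
    exact ψ.left.isEmbedding.toHomeomorph.irreducibleSpace_iff.2 inferInstance
  haveI : IsIntegral P.left := isIntegral_of_irreducibleSpace_of_isReduced _
  haveI : GeometricallyIntegral P.hom := H23.EquidimFibres.geometricallyIntegral_of_isAlgClosed
  have hP : ∀ q : 𝐩 ⟶ P, imPt (q ≫ ψ) ∈ torsClosure l := fun q => hr ▸ ⟨_, rfl⟩
  obtain ⟨N, _, j, hj, hjc, hN, hN', hjr⟩ := H23.MaxAbelian.exists_image' ψ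
    (by
      rw [hr]
      rintro _ ⟨p, rfl⟩
      have h1 := imPt_mem l (one_mem (torsInf A l))
      rw [← MonObj.one_eq_one] at h1
      rwa [show p = IsLocalRing.closedPoint k from Subsingleton.elim (α := PrimeSpectrum k) _ _])
    (by
      rw [hr]
      rintro _ ⟨z, rfl⟩
      haveI : LocallyOfFiniteType (P ⊗ P).hom :=
        inferInstanceAs (LocallyOfFiniteType (pullback.fst P.hom P.hom ≫ P.hom))
      have hW := eq_univ_of_points (X := P ⊗ P)
        ((isClosed_torsClosure l).preimage ((fst P P ≫ ψ) * (snd P P ≫ ψ)).left.continuous) fun q => by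
          show imPt (q ≫ ((fst P P ≫ ψ) * (snd P P ≫ ψ))) ∈ torsClosure l
          rw [MonObj.comp_mul, ← Category.assoc, ← Category.assoc]
          exact mul_mem_torsClosure l (hP _) (hP _)
      exact hW.ge (Set.mem_univ z))
    (by
      rw [hr]
      rintro _ ⟨z, rfl⟩
      have hW := eq_univ_of_points (X := P) ((isClosed_torsClosure l).preimage (ψ⁻¹).left.continuous) fun q => by
          show imPt (q ≫ ψ⁻¹) ∈ torsClosure l
          rw [GrpObj.comp_inv]
          exact inv_mem_torsClosure l (hP q)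
      exact hW.ge (Set.mem_univ z))
  haveI : Mono j := (Over.forget _).mono_of_mono_map (inferInstanceAs (Mono j.left))
  haveI : IsCommMonObj N := isCommMonObj_of_isProper_of_geometricallyIntegral N
  haveI : IsIntegral A.left := GeometricallyIntegral.isIntegral_of_subsingleton A.hom
  haveI : IsIntegral N.left := GeometricallyIntegral.isIntegral_of_subsingleton N.hom
  obtain ⟨g, hg⟩ := AbTors.exists_dim A
  obtain ⟨d, hd⟩ := AbTors.exists_dim N
  have hl1 : ((l ^ 1 : ℕ) : k) ≠ 0 := by rwa [pow_one]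
  have hcard : Nat.card (AbDual.torsPts A (l ^ 1) 𝐩) ≤ Nat.card (AbDual.torsPts N (l ^ 1) 𝐩) := by
    haveI : Finite (AbDual.torsPts N (l ^ 1) 𝐩) := Nat.finite_of_card_ne_zero (by
      rw [AbTors.card_torsPts N hd hl1]; exact pow_ne_zero _ (pow_ne_zero _ hl'.out.ne_zero))
    have hlift : ∀ a : AbDual.torsPts A (l ^ 1) 𝐩, ∃ q : AbDual.torsPts N (l ^ 1) 𝐩, q.1 ≫ j = a.1 := by
      intro a
      haveI : IsReduced (𝐩).left := inferInstanceAs (IsReduced (Spec (CommRingCat.of k)))
      obtain ⟨q, hq⟩ := H23.RedSub.exists_lift_closed a.1.left j.left (by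
        rw [hjr, hr, range_pt, Set.singleton_subset_iff]
        exact imPt_mem l ⟨1, a.2⟩)
      let Q : 𝐩 ⟶ N := Over.homMk q (by rw [← Over.w j, reassoc_of% hq, Over.w])
      have hQ : Q ≫ j = a.1 := Over.OverMorphism.ext hq
      refine ⟨⟨Q, ?_⟩, hQ⟩
      show Q ^ (l ^ 1) = 1
      rw [← cancel_mono j, MonObj.pow_comp, hQ, MonObj.one_comp]
      exact a.2
    choose q hq using hlift
    exact Nat.card_le_card_of_injective q fun a b h => Subtype.ext (by rw [← hq a, h, hq b])
  rw [AbTors.card_torsPts A hg hl1, AbTors.card_torsPts N hd hl1, pow_one] at hcard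
  have hle : g ≤ d := by
    have := (Nat.pow_le_pow_iff_right hl'.out.one_lt).1 hcard
    omega
  have hge : d ≤ g := by
    have := j.left.isClosedEmbedding.topologicalKrullDim_le
    rw [hg, hd] at this
    exact_mod_cast this
  haveI : IsFinite j.left := inferInstance
  haveI : Surjective j.left := H23.Isogeny.surjective_of_isFinite N.hom A.hom j.left (Over.w j)
    (by rw [hd, hg, show d = g by omega])
  rw [← hr, ← hjr]
  exact Set.range_eq_univ.2 j.left.surjective

end Groth.Agent.AVTors2
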