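import Mathlib.RingTheory.Unramified.Field
import Mathlib.RingTheory.Artinian.Module
import Mathlib.FieldTheory.PrimitiveElement
import Mathlib.RingTheory.TensorProduct.Finite

/-!
The number of geometric points of a finite unramified algebra over a field is its degree.
-/

universe u

namespace Groth.Agent.AVTors2

open Module

theorem card_algHom_of_unramified (K L : Type u) [Field K] [CommRing L] [Algebra K L] [Module.Finite K L]
    [Algebra.FormallyUnramified K L] (Ω : Type u) [Field Ω] [IsAlgClosed Ω] [Algebra K Ω] :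
    Nat.card (L →ₐ[K] Ω) = Module.finrank K L := by
  classical
  haveI : IsArtinianRing L := IsArtinianRing.of_finite K L
  haveI : IsReduced L := Algebra.FormallyUnramified.isReduced_of_field K L
  haveI : Fintype (MaximalSpectrum L) := Fintype.ofFinite _
  letI : ∀ m : MaximalSpectrum L, Field (L ⧸ m.asIdeal) := fun m => @Ideal.Quotient.field L _ m.asIdeal m.isMaximal
  haveI : ∀ m : MaximalSpectrum L, Algebra.IsSeparable K (L ⧸ m.asIdeal) := fun m => by
    haveI : Algebra.FormallyUnramified L (L ⧸ m.asIdeal) :=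
      Algebra.FormallyUnramified.of_surjective (Algebra.ofId L (L ⧸ m.asIdeal)) Ideal.Quotient.mk_surjective
    haveI : Algebra.FormallyUnramified K (L ⧸ m.asIdeal) := Algebra.FormallyUnramified.comp K L _
    exact Algebra.FormallyUnramified.isSeparable K _
  have h1 : Module.finrank K L = ∑ m : MaximalSpectrum L, Module.finrank K (L ⧸ m.asIdeal) := by
    rw [← Module.finrank_pi_fintype K]
    exact ((IsArtinianRing.equivPi L).toLinearEquiv.restrictScalars K).finrank_eq
  have h2 : ∀ m : MaximalSpectrum L, Module.finrank K (L ⧸ m.asIdeal) = Nat.card ((L ⧸ m.asIdeal) →ₐ[K] Ω) :=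
    fun m => (AlgHom.natCard_of_splits K (L ⧸ m.asIdeal) Ω fun x => IsAlgClosed.splits _).symm
  refine le_antisymm (card_algHom_le_finrank K L Ω) ?_
  rw [h1]
  simp only [h2]
  rw [← Nat.card_sigma]
  refine Nat.card_le_card_of_injective (fun q => q.2.comp (Ideal.Quotient.mkₐ K q.1.asIdeal)) ?_
  rintro ⟨m, σ⟩ ⟨m', σ'⟩ h
  have hker : ∀ (m : MaximalSpectrum L) (σ : (L ⧸ m.asIdeal) →ₐ[K] Ω),
      RingHom.ker (σ.comp (Ideal.Quotient.mkₐ K m.asIdeal)) = m.asIdeal := fun m σ => by
    ext x
    rw [RingHom.mem_ker, AlgHom.comp_apply, map_eq_zero_iff σ σ.toRingHom.injective,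
      Ideal.Quotient.mkₐ_eq_mk, Ideal.Quotient.eq_zero_iff_mem]
  have hm : m = m' := MaximalSpectrum.ext (by rw [← hker m σ, ← hker m' σ']; exact congrArg RingHom.ker h)
  subst hm
  congr 1
  refine AlgHom.ext fun z => ?_
  obtain ⟨x, rfl⟩ := Ideal.Quotient.mk_surjective z
  exact congr($h x)

end Groth.Agent.AVTors2
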