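import Groth.Agent.AVTors2.Dense
import Groth.Agent.AVTors2.Tate
import Groth.Agent.GrpSchLib.HomFinite

/-!
A homomorphism of abelian varieties with injective Tate map is finite, and conversely.
-/

set_option autoImplicit false
set_option backward.isDefEq.respectTransparency false
set_option backward.isDefEq.respectTransparency.types false
set_option linter.style.haveILetI false
set_option linter.unusedSectionVars false
set_option maxHeartbeats 800000

universe u

open CategoryTheory CategoryTheory.Limits MonoidalCategory CartesianMonoidalCategory MonObj AlgebraicGeometry TopologicalSpace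

namespace Groth.Agent.AVTors2

variable {k : Type u} [Field k] [IsAlgClosed k] {A B : Over (Spec (CommRingCat.of k))}

local notation "𝐩" => 𝟙_ (Over (Spec (CommRingCat.of k)))

/-- A proper group scheme whose identity is its own connected component is discrete. -/
theorem discrete_of_component {K : Over (Spec (CommRingCat.of k))} [GrpObj K] [IsProper K.hom]
    (h : connectedComponent (η[K].left (IsLocalRing.closedPoint k)) = {η[K].left (IsLocalRing.closedPoint k)}) :
    DiscreteTopology K.left := by
  haveI : IsLocallyNoetherian K.left := LocallyOfFiniteType.isLocallyNoetherian K.hom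
  haveI : CompactSpace K.left := QuasiCompact.compactSpace_of_compactSpace K.hom
  haveI : IsNoetherian K.left := {}
  haveI : JacobsonSpace K.left := LocallyOfFiniteType.jacobsonSpace K.hom
  have hclosedPt : ∀ q : 𝐩 ⟶ K, connectedComponent (imPt q) = {imPt q} := fun q => by
    have e0 : imPt (1 : 𝐩 ⟶ K) = η[K].left (IsLocalRing.closedPoint k) := by rw [← MonObj.one_eq_one]; rfl
    have h1 : (trlHomeo q) '' connectedComponent (imPt (1 : 𝐩 ⟶ K)) = connectedComponent (imPt q) := by
      rw [← connectedComponentIn_univ, (trlHomeo q).image_connectedComponentIn (Set.mem_univ _), Set.image_univ,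
        (trlHomeo q).surjective.range_eq, connectedComponentIn_univ]
      congr 1
      show (trl q).left (imPt (1 : 𝐩 ⟶ K)) = imPt q
      rw [← imPt_mul, _root_.mul_one]
    rw [← h1, e0, h, Set.image_singleton]
    congr 1
    rw [← e0]
    show (trl q).left (imPt (1 : 𝐩 ⟶ K)) = imPt q
    rw [← imPt_mul, _root_.mul_one]
  have hall : ∀ z : K.left, connectedComponent z = {z} := fun z => by
    obtain ⟨c, hc, hcc⟩ := nonempty_inter_closedPoints (Z := connectedComponent z) ⟨z, mem_connectedComponent⟩
      isClosed_connectedComponent.isLocallyClosed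
    obtain ⟨q, hq⟩ := exists_point (X := K) hcc
    have h1 := connectedComponent_eq hc
    rw [← hq, show q.left (IsLocalRing.closedPoint k) = imPt q from rfl, hclosedPt q] at h1
    rw [h1]
    have h2 : z ∈ ({imPt q} : Set K.left) := h1 ▸ mem_connectedComponent
    rw [Set.mem_singleton_iff.1 h2]
  have hfin : Finite K.left := by
    have hc : ∀ W ∈ irreducibleComponents K.left, W.Finite := fun W hW => by
      obtain ⟨w, hw⟩ := hW.1.nonempty
      refine ((Set.finite_singleton w).subset ?_)
      rw [← hall w]
      exact (hW.1.isConnected.isPreconnected).subset_connectedComponent hw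
    refine Set.finite_univ_iff.1 (((NoetherianSpace.finite_irreducibleComponents (α := K.left)).biUnion hc).subset fun z _ => ?_)
    exact Set.mem_biUnion (irreducibleComponent_mem_irreducibleComponents z) mem_irreducibleComponent
  haveI : T1Space K.left := ⟨fun z => hall z ▸ isClosed_connectedComponent⟩
  infer_instance

variable [GrpObj A] [IsCommMonObj A] [IsProper A.hom] [GeometricallyIntegral A.hom]
  [GrpObj B] [IsCommMonObj B] [IsProper B.hom] [GeometricallyIntegral B.hom]
  {l : ℕ} [Fact l.Prime]

theorem tateMap_injective_of_isFinite (α : A ⟶ B) [IsMonHom α] [IsFinite α.left] :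
    Function.Injective (AbDual.tateMapₗ (l := l) (T := 𝐩) α) := by
  rw [injective_iff_map_eq_zero]
  intro x hx
  let S : Set (𝐩 ⟶ A) := {a | a ≫ α = 1}
  have hS : S.Finite := by
    haveI : Finite {z : A.left // α.left z = imPt (1 : 𝐩 ⟶ B)} :=
      (Scheme.Hom.finite_preimage_singleton α.left (imPt (1 : 𝐩 ⟶ B))).to_subtype
    refine @Set.toFinite _ S (Finite.of_injective
      (fun a : S => (⟨imPt a.1, by rw [← imPt_comp, show a.1 ≫ α = 1 from a.2]⟩ :
        {z : A.left // α.left z = imPt (1 : 𝐩 ⟶ B)})) fun a b h => Subtype.ext (AbTors.point_ext (congrArg Subtype.val h)))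
  have hc : ∀ n, ((AbDual.TateMod.component A l 𝐩 n x).toMul) ∈ S := fun n =>
    congrArg (fun y => (AbDual.TateMod.component B l 𝐩 n y).toMul) hx
  classical
  let e : (𝐩 ⟶ A) → ℕ := fun a => if h : ∃ n, a ^ (l ^ n) = 1 then Nat.find h else 0
  let M := hS.toFinset.sup e
  have hM : ∀ a ∈ S, (∃ n, a ^ (l ^ n) = 1) → a ^ (l ^ M) = 1 := fun a ha hex => by
    have h1 : e a ≤ M := Finset.le_sup (hS.mem_toFinset.2 ha)
    have h2 : a ^ (l ^ e a) = 1 := by
      simp only [e, dif_pos hex]
      exact Nat.find_spec hex
    rw [← Nat.add_sub_cancel' h1, pow_add, pow_mul, h2, one_pow]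
  refine AbDual.TateMod.ext fun n => ?_
  have key : ∀ j, (AbDual.TateMod.component A l 𝐩 n x) =
      (l ^ j) • AbDual.TateMod.component A l 𝐩 (n + j) x := by
    intro j
    induction j with
    | zero => rw [pow_zero, one_nsmul]; rfl
    | succ j ih =>
      rw [ih, pow_succ, mul_nsmul']
      exact congrArg _ (AbDual.TateMod.compat x (n + j)).symm
  have h := hM _ (hc (n + M)) ⟨n + M, congrArg Additive.toMul (AbDual.TateMod.torsion x (n + M))⟩
  show AbDual.TateMod.component A l 𝐩 n x = AbDual.TateMod.component A l 𝐩 n 0
  rw [map_zero, key M]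
  exact congrArg Additive.ofMul h

theorem isFinite_of_tateMap_injective (hl : (l : k) ≠ 0) (α : A ⟶ B) [IsMonHom α]
    (h : Function.Injective (AbDual.tateMapₗ (l := l) (T := 𝐩) α)) : IsFinite α.left := by
  obtain ⟨K, _, i, hi, hic, -, hker⟩ := GrpSchLib.exists_kernel α
  haveI : IsProper K.hom := by rw [← Over.w i]; infer_instance
  obtain ⟨N, _, j, hj, hjc, hN, hN', hjr⟩ := AbTors.exists_redComponent K
  haveI : IsCommMonObj N := isCommMonObj_of_isProper_of_geometricallyIntegral N
  have hji : j ≫ i ≫ α = 1 := by rw [show i ≫ α = 1 from hker.w, MonObj.comp_one]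
  have h0 : j ≫ i = 1 := AbTors.eq_one_of_kill (j ≫ i) hl fun n P hP => by
    obtain ⟨g, hg⟩ := AbTors.exists_dim N
    have hc : ∀ m : ℕ, Nat.card (AbDual.torsPts N (l ^ m) 𝐩) = (l ^ m) ^ (2 * g) := fun m =>
      AbTors.card_torsPts N hg (by rw [Nat.cast_pow]; exact pow_ne_zero _ hl)
    obtain ⟨z, hz⟩ := exists_component hc n hP
    have h1 : AbDual.tateMapₗ (l := l) (T := 𝐩) (j ≫ i) z = 0 := by
      apply h
      rw [map_zero]
      refine AbDual.TateMod.ext fun m => ?_
      show Additive.ofMul (((AbDual.TateMod.component N l 𝐩 m z).toMul ≫ j ≫ i) ≫ α) = Additive.ofMul 1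
      rw [Category.assoc, Category.assoc, hji, MonObj.comp_one]
    rw [← hz]
    exact congrArg (fun y => (AbDual.TateMod.component A l 𝐩 n y).toMul) h1
  have hdisc : DiscreteTopology K.left := by
    refine discrete_of_component ?_
    rw [← hjr]
    refine Set.eq_singleton_iff_unique_mem.2 ⟨?_, ?_⟩
    · rw [hjr]; exact mem_connectedComponent
    rintro _ ⟨z, rfl⟩
    apply i.left.isClosedEmbedding.injective
    rw [← Scheme.Hom.comp_apply, ← Scheme.Hom.comp_apply, ← Over.comp_left, ← Over.comp_left, h0, IsMonHom.one_hom (f := i)]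
    show η[A].left (N.hom z) = η[A].left _
    exact congrArg _ (Subsingleton.elim (α := PrimeSpectrum k) _ _)
  let ee : pullback α.left (η[B]).left ⟶ K.left := (hker.map (Over.forget _)).isoPullback.inv
  haveI : IsIso ee := inferInstanceAs (IsIso (hker.map (Over.forget _)).isoPullback.inv)
  have hd : DiscreteTopology ↥(pullback α.left (η[B]).left) :=
    (Scheme.Hom.homeomorph ee).isEmbedding.discreteTopology
  haveI : IsProper (α.left ≫ B.hom) := by rw [Over.w α]; infer_instance
  haveI : IsProper α.left := IsProper.of_comp α.left B.hom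
  exact GrpSchLib.HomFinite.isFinite_of_discrete_ker α hd

end Groth.Agent.AVTors2
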