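import Groth.Agent.AVTors2.FrobPts
import Groth.Agent.AVTors2.FinKer
import Groth.Agent.AVDegPoly.FieldChar

/-! Geometric fixed points of powers of the Frobenius are counted by a degree. -/

set_option backward.isDefEq.respectTransparency false
set_option backward.isDefEq.respectTransparency.types false
set_option linter.style.haveILetI false
set_option synthInstance.maxHeartbeats 400000
set_option maxHeartbeats 1000000
set_option autoImplicit false

open CategoryTheory AlgebraicGeometry MonoidalCategory CartesianMonoidalCategory MonObj Limits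

namespace Groth.Agent.AVTors2

universe u

variable {k : Type u} [Field k]

theorem comp_one_sub_eq_one {X T : Over (Spec (CommRingCat.of k))} [GrpObj X] [IsCommMonObj X] (b : EndAV.End X)
    (x : T ⟶ X) : x ≫ (1 - b).toHom = 1 ↔ x ≫ b.toHom = x := by
  rw [sub_eq_add_neg, EndAV.End.toHom_add, EndAV.End.toHom_neg, EndAV.End.toHom_one, MonObj.comp_mul,
    GrpObj.comp_inv, Category.comp_id, mul_inv_eq_one]
  exact eq_comm

/-- `1 - πⁿ` is finite and its degree is the number of geometric fixed points of `πⁿ`. -/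
theorem card_fixed_eq_deg [Finite k] {X : Over (Spec (CommRingCat.of k))} [GrpObj X] [IsCommMonObj X] [IsProper X.hom]
    [GeometricallyIntegral X.hom] (a : EndAV.End X) (ha : IsQFrob a.toHom) {n : ℕ} (hn : n ≠ 0)
    (Ω : Type u) [Field Ω] [Algebra k Ω] [IsAlgClosed Ω] :
    IsFinite (1 - a ^ n).toHom.left ∧
      Nat.card {x : SGA7.pt (K := k) Ω ⟶ X // x ≫ (a ^ n).toHom = x} =
        (1 - a ^ n).toHom.left.finrank (η[X].left (IsLocalRing.closedPoint k)) := by
  let φ := (1 - a ^ n : EndAV.End X).toHom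
  have hQ : 1 < Nat.card k ^ n := Nat.one_lt_pow hn Finite.one_lt_card
  obtain ⟨N, _, i, hi, hic, -, hker⟩ := GrpSchLib.exists_kernel φ
  haveI := hi
  haveI := hic
  haveI : IsProper N.hom := by rw [← Over.w i]; infer_instance
  haveI : Mono i := (Over.forget _).mono_of_mono_map (inferInstanceAs (Mono i.left))
  have hiφ : i ≫ φ = 1 := by
    rw [hker.w, Hom.one_def]
  obtain ⟨πN, hπN⟩ := IsPow.exists_pow N n
  have hid : πN = 𝟙 N := by
    rw [← cancel_mono i, Category.id_comp, hπN.natural (IsPow.of_qfrob_pow a ha n) i]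
    exact (comp_one_sub_eq_one (a ^ n) i).1 hiφ
  rw [hid] at hπN
  obtain ⟨hfinN, hdisc⟩ := finite_of_pow_eq_id hQ N hπN
  haveI := hfinN
  have sq : IsPullback i.left N.hom φ.left η[X].left := hker.map (Over.forget _)
  let ee : pullback φ.left (η[X]).left ⟶ N.left := sq.isoPullback.inv
  haveI : IsIso ee := inferInstanceAs (IsIso sq.isoPullback.inv)
  have hd : DiscreteTopology ↥(pullback φ.left (η[X]).left) :=
    (Scheme.Hom.homeomorph ee).isEmbedding.discreteTopology
  haveI : IsProper (φ.left ≫ X.hom) := by rw [Over.w φ]; infer_instance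
  haveI : IsProper φ.left := IsProper.of_comp φ.left X.hom
  haveI hfin : IsFinite φ.left := GrpSchLib.HomFinite.isFinite_of_discrete_ker φ hd
  refine ⟨hfin, ?_⟩
  obtain ⟨g, hg⟩ : ∃ g : ℕ, topologicalKrullDim X.left = g := by
    haveI : IsIntegral X.left := GeometricallyIntegral.isIntegral_of_subsingleton X.hom
    exact ⟨_, VarDim.topologicalKrullDim_eq_deg_genericPoint X.hom⟩
  obtain ⟨_, _, _⟩ := AVDegPoly.hom_props hg hg φ
  let y : Spec (CommRingCat.of k) := IsLocalRing.closedPoint k
  have h1 : N.hom.finrank y = φ.left.finrank (η[X].left y) := by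
    rw [← sq.isoPullback_hom_snd, Scheme.Hom.finrank_comp_left_of_isIso, Scheme.Hom.finrank_pullback_snd]
    rfl
  rw [← h1, ← card_pts_of_pow_eq_id hQ N hπN Ω y]
  refine (Nat.card_congr (Equiv.ofBijective (fun q => (⟨q ≫ i, (comp_one_sub_eq_one (a ^ n) (q ≫ i)).1 (by
    rw [Category.assoc]; exact (congrArg (q ≫ ·) hiφ).trans (MonObj.comp_one q))⟩ :
      {x : SGA7.pt (K := k) Ω ⟶ X // x ≫ (a ^ n).toHom = x})) ⟨fun q q' h => ?_, fun x => ?_⟩)).symm
  · exact (cancel_mono i).1 (congrArg Subtype.val h)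
  · have hx : x.1 ≫ φ = 1 := (comp_one_sub_eq_one (a ^ n) x.1).2 x.2
    exact ⟨hker.lift x.1 (toUnit _) (by rw [hx, Hom.one_def]), Subtype.ext (hker.lift_fst _ _ _)⟩

end Groth.Agent.AVTors2
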