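import Mathlib.RingTheory.HopfAlgebra.Convolution
import Mathlib.RingTheory.Bialgebra.Convolution
import Mathlib.LinearAlgebra.Basis.Basic
import Mathlib.Algebra.CharP.Lemmas
import Mathlib.Algebra.CharP.Algebra
import Mathlib.RingTheory.Finiteness.Basic
import Mathlib.LinearAlgebra.FiniteDimensional.Basic
import Mathlib.LinearAlgebra.FreeModule.Finite.Basic

set_option linter.style.haveILetI false

/-! In characteristic `p`, multiplication by `p ^ n` on a commutative finite group scheme factors through
the `p ^ n`-th powers. -/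

open TensorProduct WithConv

namespace Groth.Agent.AVTors2

universe u v

variable {k : Type u} [Field k] (p : ℕ) [CharP k p] {H : Type v} [CommRing H] [HopfAlgebra k H]
  [Coalgebra.IsCocomm k H] [Module.Finite k H]

omit [Coalgebra.IsCocomm k H] [Module.Finite k H] in
theorem rankOne_mul_apply (φ ψ : WithConv (H →ₗ[k] k)) (b c : H) (x : H) :
    (toConv ((LinearMap.toSpanSingleton k H b) ∘ₗ φ.ofConv) * toConv ((LinearMap.toSpanSingleton k H c) ∘ₗ ψ.ofConv)).ofConv x =
      (φ * ψ).ofConv x • (b * c) := by
  rw [LinearMap.convMul_apply, LinearMap.convMul_apply]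
  generalize Coalgebra.comul (R := k) x = t
  induction t using TensorProduct.induction_on with
  | zero => simp
  | tmul a d => simp only [TensorProduct.map_tmul, LinearMap.comp_apply, WithConv.ofConv_toConv, LinearMap.toSpanSingleton_apply, LinearMap.mul'_apply, smul_mul_smul_comm]
  | add s t hs ht => simp only [map_add, hs, ht, add_smul]

/-- The `p`-fold convolution power of the identity takes values in the span of `p`-th powers. -/
theorem convPow_mem_span [Fact p.Prime] (x : H) :
    ((toConv (AlgHom.id k H)) ^ p).ofConv x ∈ Submodule.span k (Set.range fun b : H => b ^ p) := by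
  haveI : Nontrivial H := ⟨⟨0, 1, fun h => by simpa using congrArg (Bialgebra.counitAlgHom k H) h⟩⟩
  let M := WithConv (H →ₗ[k] H)
  haveI : Nontrivial M := ⟨⟨0, 1, fun h => by
    have := congrArg (fun f : M => f.ofConv 1) h
    simp at this⟩⟩
  haveI : CharP M p := charP_of_injective_algebraMap (algebraMap k M).injective p
  let b := Module.finBasis k H
  let T : Fin (Module.finrank k H) → M := fun i => toConv ((LinearMap.toSpanSingleton k H (b i)) ∘ₗ b.coord i)
  have hid : toConv (AlgHom.id k H).toLinearMap = ∑ i, T i := by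
    apply WithConv.ofConv_injective
    ext y
    rw [WithConv.ofConv_sum]
    simp [T]
  have hT : ∀ (i : Fin (Module.finrank k H)) (n : ℕ), 0 < n → ∃ φ : WithConv (H →ₗ[k] k),
      T i ^ n = toConv ((LinearMap.toSpanSingleton k H (b i ^ n)) ∘ₗ φ.ofConv) := by
    intro i n hn
    induction n with
    | zero => omega
    | succ n ih =>
      rcases Nat.eq_zero_or_pos n with rfl | hn'
      · exact ⟨toConv (b.coord i), by simp [T]⟩
      obtain ⟨φ, hφ⟩ := ih hn'
      refine ⟨φ * toConv (b.coord i), ?_⟩
      rw [pow_succ, hφ]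
      apply WithConv.ofConv_injective
      ext y
      rw [show (toConv ((LinearMap.toSpanSingleton k H (b i ^ n)) ∘ₗ φ.ofConv) * T i).ofConv y = _ from
        rankOne_mul_apply φ (toConv (b.coord i)) (b i ^ n) (b i) y]
      simp [pow_succ]
  have h := congrArg (fun f : M => f.ofConv x) (congrArg (· ^ p) hid)
  simp only [sum_pow_char] at h
  rw [show ((toConv (AlgHom.id k H)) ^ p).ofConv x = ((toConv (AlgHom.id k H).toLinearMap) ^ p : M).ofConv x from
    (congrArg (fun f : M => f.ofConv x) (AlgHom.toLinearMap_convPow (toConv (AlgHom.id k H)) p) : _), h]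
  rw [WithConv.ofConv_sum, LinearMap.sum_apply]
  refine Submodule.sum_mem _ fun i _ => ?_
  obtain ⟨φ, hφ⟩ := hT i p (Fact.out : p.Prime).pos
  rw [hφ]
  simp only [WithConv.ofConv_toConv, LinearMap.comp_apply, LinearMap.toSpanSingleton_apply]
  exact Submodule.smul_mem _ _ (Submodule.subset_span ⟨b i, rfl⟩)

/-- The `p ^ n`-fold convolution power takes values in the span of `p ^ n`-th powers. -/
theorem convPow_pow_mem_span [Fact p.Prime] (n : ℕ) (x : H) :
    ((toConv (AlgHom.id k H)) ^ (p ^ n)).ofConv x ∈ Submodule.span k (Set.range fun b : H => b ^ (p ^ n)) := by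
  induction n generalizing x with
  | zero =>
    rw [pow_zero, pow_one]
    exact Submodule.subset_span ⟨x, by simp⟩
  | succ n ih =>
    let φ := ((toConv (AlgHom.id k H)) ^ (p ^ n)).ofConv
    have hcomp : ∀ j : ℕ, φ.comp ((toConv (AlgHom.id k H)) ^ j).ofConv = ((toConv φ) ^ j).ofConv := by
      intro j
      induction j with
      | zero =>
        rw [pow_zero, pow_zero]
        ext a
        exact φ.commutes _
      | succ j ihj =>
        rw [pow_succ, pow_succ, AlgHom.comp_convMul_distrib, ihj]; rfl
    have e : ((toConv (AlgHom.id k H)) ^ (p ^ (n + 1))).ofConv = φ.comp ((toConv (AlgHom.id k H)) ^ p).ofConv := by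
      rw [hcomp, toConv_ofConv, ← pow_mul, pow_succ]
    rw [e, AlgHom.comp_apply]
    haveI : CharP H p := by
      haveI : Nontrivial H := ⟨⟨0, 1, fun h => by simpa using congrArg (Bialgebra.counitAlgHom k H) h⟩⟩
      exact charP_of_injective_algebraMap (algebraMap k H).injective p
    have hmem := convPow_mem_span (k := k) p x
    generalize ((toConv (AlgHom.id k H)) ^ p).ofConv x = y at hmem
    induction hmem using Submodule.span_induction with
    | mem y hy =>
      obtain ⟨b, rfl⟩ := hy
      rw [map_pow]
      have hb := ih b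
      generalize ((toConv (AlgHom.id k H)) ^ (p ^ n)).ofConv b = z at hb
      induction hb using Submodule.span_induction with
      | mem z hz =>
        obtain ⟨c, rfl⟩ := hz
        exact Submodule.subset_span ⟨c, by simp [← pow_mul, pow_succ]⟩
      | zero => rw [zero_pow (Fact.out : p.Prime).ne_zero]; exact Submodule.zero_mem _
      | add a c _ _ ha hc => rw [add_pow_char]; exact Submodule.add_mem _ ha hc
      | smul r a _ ha => rw [smul_pow]; exact Submodule.smul_mem _ _ ha
    | zero => rw [map_zero]; exact Submodule.zero_mem _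
    | add a c _ _ ha hc => rw [map_add]; exact Submodule.add_mem _ ha hc
    | smul r a _ ha => rw [map_smul]; exact Submodule.smul_mem _ _ ha

/-- If all `p ^ n`-th powers are scalars, multiplication by `p ^ n` is trivial. -/
theorem convPow_eq_one [Fact p.Prime] (n : ℕ) (h : ∀ b : H, b ^ (p ^ n) ∈ (Algebra.linearMap k H).range) :
    (toConv (AlgHom.id k H)) ^ (p ^ n) = 1 := by
  apply WithConv.ofConv_injective
  ext x
  let φ := ((toConv (AlgHom.id k H)) ^ (p ^ n)).ofConv
  obtain ⟨c, hc⟩ : φ x ∈ (Algebra.linearMap k H).range :=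
    Submodule.span_le.2 (by rintro _ ⟨b, rfl⟩; exact h b) (convPow_pow_mem_span (k := k) p n x)
  have hε : ∀ j : ℕ, (Bialgebra.counitAlgHom k H).comp ((toConv (AlgHom.id k H)) ^ j).ofConv = Bialgebra.counitAlgHom k H := by
    intro j
    induction j with
    | zero => ext a; simp
    | succ j ihj =>
      rw [pow_succ, AlgHom.comp_convMul_distrib, ihj, toConv_ofConv, AlgHom.comp_id]
      exact congrArg WithConv.ofConv (show toConv (Bialgebra.counitAlgHom k H) * toConv (Bialgebra.counitAlgHom k H) =
        toConv (Bialgebra.counitAlgHom k H) by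
          rw [show toConv (Bialgebra.counitAlgHom k H) = (1 : WithConv (H →ₐ[k] k)) from WithConv.ofConv_injective (by ext a; rfl), mul_one])
  have h1 := AlgHom.congr_fun (hε (p ^ n)) x
  rw [AlgHom.comp_apply, ← hc] at h1
  simp at h1
  show φ x = algebraMap k H (Coalgebra.counit x)
  rw [← hc, ← h1]
  rfl

end Groth.Agent.AVTors2
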