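import Groth.Agent.AVTors2.FrobPts
import Groth.Agent.AVTors2.HopfPow
import Mathlib.AlgebraicGeometry.Group.Affine
import Mathlib.RingTheory.RingHom.FinitePresentation

/-! A finite commutative group with trivial Frobenius is killed by the cardinality of the field. -/

set_option backward.isDefEq.respectTransparency false
set_option backward.isDefEq.respectTransparency.types false
set_option linter.style.haveILetI false
set_option synthInstance.maxHeartbeats 400000
set_option maxHeartbeats 1000000
set_option autoImplicit false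

open CategoryTheory AlgebraicGeometry MonoidalCategory CartesianMonoidalCategory MonObj Limits
open scoped CategoryTheory.Obj

namespace Groth.Agent.AVTors2

universe u

/-- If the `q`-th power map of a finite commutative group over the field with `q` elements is trivial, so is `[q]`. -/
theorem pow_card_eq_one_of_frob_trivial (R : Type u) [Field R] [Finite R] (X : Over (Spec (CommRingCat.of R)))
    [GrpObj X] [IsCommMonObj X] [IsFinite X.hom] (h : IsPow (Nat.card R) (1 : X ⟶ X)) :
    (𝟙 X) ^ Nat.card R = 1 := by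
  have : IsAffine X.left := isAffine_of_isAffineHom X.hom
  obtain ⟨⟨H⟩, ⟨e⟩⟩ := (essImage_hopfSpec (R := CommRingCat.of R) (G := Grp.mk X)).mpr this
  let X' := (Spec (CommRingCat.of H)).asOver (Spec (CommRingCat.of R))
  let eh : X' ⟶ X := e.hom.hom.hom
  let ei : X ⟶ X' := e.inv.hom.hom
  have : IsMonHom eh := e.hom.hom.isMonHom_hom
  have hei : ei ≫ eh = 𝟙 X := congrArg (fun g => g.hom.hom) e.inv_hom_id
  have hei' : eh ≫ ei = 𝟙 X' := congrArg (fun g => g.hom.hom) e.hom_inv_id
  have : IsIso eh.left :=
    ⟨ei.left, congrArg (fun g => g.left) hei', congrArg (fun g => g.left) hei⟩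
  have : IsIso eh := ⟨ei, hei', hei⟩
  have hw : eh.left ≫ X.hom = Spec.map (CommRingCat.ofHom (algebraMap R H)) := Over.w eh
  have hf : IsFinite (eh.left ≫ X.hom) := inferInstance
  rw [hw] at hf
  have : Module.Finite R H := by
    rw [← RingHom.finite_algebraMap]
    exact (IsFinite.SpecMap_iff _).mp hf
  have : Coalgebra.IsCocomm R H := ⟨by
    let u₁ : WithConv (H →ₐ[R] TensorProduct R H H) := WithConv.toConv Algebra.TensorProduct.includeLeft
    let u₂ : WithConv (H →ₐ[R] TensorProduct R H H) := WithConv.toConv Algebra.TensorProduct.includeRight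
    have hc : u₁ * u₂ = u₂ * u₁ := by
      apply (Spec.mapMulEquiv (R := R) (S := H) (T := TensorProduct R H H)).injective
      rw [map_mul, map_mul]
      rw [← cancel_mono eh, MonObj.mul_comp, MonObj.mul_comp]
      exact mul_comm _ _
    apply LinearMap.ext
    intro a
    have h := congrArg (fun f : WithConv (H →ₐ[R] TensorProduct R H H) => f.ofConv a) hc
    change (u₁ * u₂) a = (u₂ * u₁) a at h
    rw [AlgHom.convMul_apply, AlgHom.convMul_apply] at h
    show TensorProduct.comm R H H (Coalgebra.comul (R := R) a) = Coalgebra.comul (R := R) a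
    have k1 : ∀ t, Algebra.TensorProduct.lift u₁.ofConv u₂.ofConv (fun _ _ => .all ..) t = t := by
      intro t
      induction t using TensorProduct.induction_on with
      | zero => simp
      | tmul x y => simp [u₁, u₂]
      | add x y hx hy => simp only [map_add, hx, hy]
    have k2 : ∀ t, Algebra.TensorProduct.lift u₂.ofConv u₁.ofConv (fun _ _ => .all ..) t = TensorProduct.comm R H H t := by
      intro t
      induction t using TensorProduct.induction_on with
      | zero => simp
      | tmul x y => simp [u₁, u₂]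
      | add x y hx hy => simp only [map_add, hx, hy]
    rw [k1, k2] at h
    exact h.symm⟩
  classical
  haveI := Fintype.ofFinite R
  obtain ⟨p, hp⟩ := CharP.exists R
  haveI := hp
  obtain ⟨e, hprime, he⟩ := FiniteField.card R p
  haveI := Fact.mk hprime
  have hcard : Nat.card R = p ^ (e : ℕ) := by rw [Nat.card_eq_fintype_card, he]
  -- the power map is trivial
  obtain ⟨π', hπ'⟩ := IsPow.exists_pow X' 1
  rw [pow_one] at hπ'
  have hπ1 : π' = 1 := by
    rw [← cancel_mono eh, hπ'.natural h eh, MonObj.comp_one, MonObj.one_comp]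
  rw [hπ1] at hπ'
  have hone : (1 : X' ⟶ X') = Spec.mapMulEquiv (R := R) (S := H) (T := H) 1 := (map_one _).symm
  have hpow : ∀ b : H, b ^ (p ^ (e : ℕ)) ∈ (Algebra.linearMap R H).range := by
    intro b
    let g : CommRingCat.of H ⟶ CommRingCat.of H :=
      CommRingCat.ofHom (1 : WithConv (↑H →ₐ[R] ↑H)).ofConv.toRingHom
    have hl : (1 : X' ⟶ X').left = Spec.map g := by rw [hone]; rfl
    have key : ∀ (φ : Spec (CommRingCat.of H) ⟶ Spec (CommRingCat.of H)), φ = Spec.map g →
        ∀ (hle : (⊤ : (Spec (CommRingCat.of H)).Opens) ≤ φ ⁻¹ᵁ ⊤) (s : CommRingCat.of H),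
        (φ.appLE ⊤ ⊤ hle).hom ((Scheme.ΓSpecIso (CommRingCat.of H)).inv.hom s) =
          (Scheme.ΓSpecIso (CommRingCat.of H)).inv.hom (g.hom s) := by
      rintro φ rfl hle s
      have h1 := ConcreteCategory.congr_hom (Scheme.ΓSpecIso_inv_naturality g) s
      refine Eq.trans ?_ h1.symm
      simp [Scheme.Hom.appLE]
    have h2 := key (1 : X' ⟶ X').left hl le_rfl b
    erw [hπ'.app] at h2
    have h2' : (Scheme.ΓSpecIso (CommRingCat.of H)).inv.hom (b ^ (p ^ (e : ℕ))) =
        (Scheme.ΓSpecIso (CommRingCat.of H)).inv.hom (g.hom b) := by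
      rw [← hcard, map_pow]; exact h2
    have h3 := (Scheme.ΓSpecIso (CommRingCat.of H)).commRingCatIsoToRingEquiv.symm.injective h2'
    exact ⟨Coalgebra.counit b, by rw [h3]; rfl⟩
  have hid := congrArg (Spec.mapMulEquiv (R := R) (S := H) (T := H))
    (convPow_eq_one (k := R) (H := H) p e hpow)
  rw [map_pow, map_one] at hid
  have hone' : Spec.mapMulEquiv (R := R) (S := H) (T := H) (WithConv.toConv (AlgHom.id R H)) = 𝟙 X' := by
    refine Over.OverMorphism.ext ?_
    show Spec.map (CommRingCat.ofHom (RingHom.id H)) = 𝟙 _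
    simp
  rw [hone'] at hid
  let E := IsMonHom.monoidHom eh X'
  rw [hcard]
  have h4 : eh ^ (p ^ (e : ℕ)) = 1 := by
    have := congrArg E hid
    rw [map_pow, map_one] at this
    have e1 : E (𝟙 X') = eh := Category.id_comp eh
    rwa [e1] at this
  calc (𝟙 X) ^ (p ^ (e : ℕ)) = ei ≫ (eh ^ (p ^ (e : ℕ))) := by rw [MonObj.comp_pow, hei]
    _ = 1 := by rw [h4, MonObj.comp_one]

end Groth.Agent.AVTors2
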