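import Groth.Agent.AVTors2.QFrob
import Groth.Agent.AVTors2.EtCard
import Groth.Prelude.Def_SGA7a
import Mathlib.AlgebraicGeometry.Morphisms.FlatRank
import Mathlib.AlgebraicGeometry.ZariskisMainTheorem
import Mathlib.RingTheory.Unramified.Pi
import Mathlib.RingTheory.HopkinsLevitzki
import Mathlib.FieldTheory.IsAlgClosed.AlgebraicClosure
import Mathlib.FieldTheory.Finite.Basic

/-! Fixed points of powers of the Frobenius: rational points, and reducedness of fixed schemes. -/

set_option backward.isDefEq.respectTransparency false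
set_option backward.isDefEq.respectTransparency.types false
set_option linter.style.haveILetI false
set_option synthInstance.maxHeartbeats 400000
set_option maxHeartbeats 1000000
set_option autoImplicit false

open CategoryTheory AlgebraicGeometry MonoidalCategory CartesianMonoidalCategory MonObj Limits

namespace Groth.Agent.AVTors2

universe u

variable {k : Type u} [Field k]

/-- The identity on points, the `Q`-th power on sections. -/
structure IsPow (Q : ℕ) {X : Over (Spec (CommRingCat.of k))} (π : X ⟶ X) : Prop where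
  base : π.left.base = 𝟙 _
  app : ∀ (U : X.left.Opens) (h : U ≤ π.left ⁻¹ᵁ U) (s : Γ(X.left, U)),
    (π.left.appLE U U h).hom s = s ^ Q

namespace IsPow

variable {Q : ℕ} {X Y : Over (Spec (CommRingCat.of k))} {πX : X ⟶ X} {πY : Y ⟶ Y}

theorem preimage_eq (hX : IsPow Q πX) (U : X.left.Opens) : πX.left ⁻¹ᵁ U = U :=
  TopologicalSpace.Opens.ext (by
    show πX.left.base ⁻¹' (U : Set X.left) = U
    rw [hX.base]; rfl)

/-- Power maps commute with every morphism. -/
theorem natural (hX : IsPow Q πX) (hY : IsPow Q πY) (f : X ⟶ Y) : πX ≫ f = f ≫ πY := by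
  apply Over.OverMorphism.ext
  rw [Over.comp_left, Over.comp_left]
  have hb : (πX.left ≫ f.left).base = (f.left ≫ πY.left).base := by
    rw [Scheme.Hom.comp_base, Scheme.Hom.comp_base, hX.base, hY.base, Category.id_comp, Category.comp_id]
  have hle : ∀ U : Y.left.Opens, (f.left ≫ πY.left) ⁻¹ᵁ U ≤ (πX.left ≫ f.left) ⁻¹ᵁ U := fun U x hx => by
    show (πX.left ≫ f.left).base x ∈ U
    rw [hb]; exact hx
  refine Scheme.Hom.ext hb fun U => ?_
  rw [Scheme.Hom.app_eq_appLE (f.left ≫ πY.left)]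
  trans (πX.left ≫ f.left).appLE U ((f.left ≫ πY.left) ⁻¹ᵁ U) (hle U)
  · rw [Scheme.Hom.appLE]; rfl
  have hW : f.left ⁻¹ᵁ U = (f.left ≫ πY.left) ⁻¹ᵁ U := by
    rw [Scheme.Hom.comp_preimage, hY.preimage_eq]
  suffices ∀ (W : X.left.Opens) (h1 : W ≤ (πX.left ≫ f.left) ⁻¹ᵁ U) (h2 : W ≤ (f.left ≫ πY.left) ⁻¹ᵁ U),
      W = f.left ⁻¹ᵁ U → (πX.left ≫ f.left).appLE U W h1 = (f.left ≫ πY.left).appLE U W h2 from
    this _ (hle U) le_rfl hW.symm
  rintro W h1 h2 rfl
  rw [← Scheme.Hom.appLE_comp_appLE πX.left f.left U (f.left ⁻¹ᵁ U) (f.left ⁻¹ᵁ U) le_rfl (hX.preimage_eq _).ge,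
    ← Scheme.Hom.appLE_comp_appLE f.left πY.left U U (f.left ⁻¹ᵁ U) (hY.preimage_eq _).ge le_rfl]
  ext s
  simp only [CommRingCat.hom_comp, RingHom.comp_apply, hX.app, hY.app, map_pow]

theorem unique {π π' : X ⟶ X} (h : IsPow Q π) (h' : IsPow Q π') : π = π' := by
  have := h.natural h' (𝟙 X)
  rwa [Category.comp_id, Category.id_comp] at this

theorem one (X : Over (Spec (CommRingCat.of k))) : IsPow 1 (𝟙 X) := by
  refine ⟨rfl, fun U h s => ?_⟩
  rw [pow_one]
  simp [Scheme.Hom.appLE]
  exact ConcreteCategory.congr_hom (X.left.presheaf.map_id _) s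

theorem comp {Q' : ℕ} {π π' : X ⟶ X} (h : IsPow Q π) (h' : IsPow Q' π') : IsPow (Q * Q') (π ≫ π') := by
  refine ⟨by rw [Over.comp_left, Scheme.Hom.comp_base, h.base, h'.base, Category.id_comp], fun U hU s => ?_⟩
  show ((π.left ≫ π'.left).appLE U U hU).hom s = _
  rw [← Scheme.Hom.appLE_comp_appLE π.left π'.left U U U (h'.preimage_eq U).ge (h.preimage_eq U).ge]
  simp only [CommRingCat.hom_comp, RingHom.comp_apply, h'.app, map_pow, h.app]
  rw [← pow_mul, mul_comm]

/-- Powers of the Frobenius endomorphism. -/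
theorem of_qfrob_pow [GrpObj X] [IsCommMonObj X] (a : EndAV.End X) (h : IsQFrob a.toHom) :
    ∀ m : ℕ, IsPow (Nat.card k ^ m) (a ^ m).toHom
  | 0 => by rw [pow_zero, pow_zero]; exact one X
  | m + 1 => by
    rw [EndAV.End.toHom_pow_succ, pow_succ]
    exact comp (of_qfrob_pow a h m) ⟨h.base, h.app⟩

theorem exists_pow [Finite k] (X : Over (Spec (CommRingCat.of k))) : ∀ m : ℕ, ∃ π : X ⟶ X, IsPow (Nat.card k ^ m) π
  | 0 => ⟨𝟙 X, by rw [pow_zero]; exact one X⟩
  | m + 1 => by
    obtain ⟨π, hπ⟩ := exists_pow X m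
    obtain ⟨π', hπ'⟩ := exists_qfrob X
    exact ⟨π ≫ π', by rw [pow_succ]; exact comp hπ ⟨hπ'.base, hπ'.app⟩⟩

theorem pow_eq_self (h : IsPow Q (𝟙 X)) {U : X.left.Opens} (s : Γ(X.left, U)) : s ^ Q = s := by
  rw [← h.app U le_rfl s]
  simp [Scheme.Hom.appLE]
  exact ConcreteCategory.congr_hom (X.left.presheaf.map_id _) s

theorem id_of_field {F : Type u} [Field F] [Algebra k F] (h : ∀ a : F, a ^ Q = a) (hQ : Q ≠ 0) :
    IsPow Q (𝟙 (Over.mk (Spec.map (CommRingCat.ofHom (algebraMap k F))))) := by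
  refine ⟨rfl, fun U hU s => ?_⟩
  have e : ∀ s : Γ(Spec (CommRingCat.of F), U), s ^ Q = s := by
    intro s
    rcases U.1.eq_empty_or_nonempty with he | ⟨z, hz⟩
    · have : U = ⊥ := TopologicalSpace.Opens.ext he
      subst this
      exact Subsingleton.elim _ _
    · have : U = ⊤ := TopologicalSpace.Opens.ext (Set.eq_univ_of_forall fun w =>
        (Subsingleton.elim (α := PrimeSpectrum F) w z).symm ▸ hz)
      subst this
      apply (Scheme.ΓSpecIso (CommRingCat.of F)).commRingCatIsoToRingEquiv.injective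
      rw [map_pow]
      exact h _
  refine Eq.trans ?_ (e s).symm
  simp [Scheme.Hom.appLE]
  exact ConcreteCategory.congr_hom ((Spec (CommRingCat.of F)).presheaf.map_id _) s

end IsPow

variable (k) in
/-- Geometric fixed points of a power map are the rational points over the finite field of that size. -/
theorem card_fixed [Finite k] (Ω : Type u) [Field Ω] [Algebra k Ω] [IsAlgClosed Ω] (k' : Type u) [Field k'] [Algebra k k']
    [Finite k'] {X : Over (Spec (CommRingCat.of k))} (π : X ⟶ X) (hπ : IsPow (Nat.card k') π) :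
    Nat.card {x : SGA7.pt Ω ⟶ X // x ≫ π = x} =
      Nat.card (Over.mk (Spec.map (CommRingCat.ofHom (algebraMap k k'))) ⟶ X) := by
  classical
  let Q := Nat.card k'
  have hQ1 : 1 < Q := Finite.one_lt_card
  haveI : Fintype k' := Fintype.ofFinite k'
  haveI : Algebra.IsAlgebraic k k' := Algebra.IsAlgebraic.of_finite k k'
  let ψ : k' →ₐ[k] Ω := IsAlgClosed.lift
  let T' : Over (Spec (CommRingCat.of k)) := Over.mk (Spec.map (CommRingCat.ofHom (algebraMap k k')))
  let c : SGA7.pt Ω ⟶ T' := Over.homMk (Spec.map (CommRingCat.ofHom ψ.toRingHom)) (by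
    show Spec.map _ ≫ Spec.map _ = Spec.map _
    rw [← Spec.map_comp, ← CommRingCat.ofHom_comp]
    exact congrArg (fun f => Spec.map (CommRingCat.ofHom f)) ψ.comp_algebraMap)
  have hfix : ∀ a : k', a ^ Q = a := fun a => by
    show a ^ Nat.card k' = a
    rw [Nat.card_eq_fintype_card, FiniteField.pow_card]
  have hid : IsPow Q (𝟙 T') := IsPow.id_of_field hfix (by omega)
  have hc : ∀ y : T' ⟶ X, (c ≫ y) ≫ π = c ≫ y := fun y => by
    rw [Category.assoc, ← hid.natural hπ y, Category.id_comp]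
  have hmem : ∀ a : Ω, a ^ Q = a → a ∈ ψ.toRingHom.range := by
    intro a ha
    by_contra hna
    let R : Finset Ω := Finset.univ.image ψ
    have hp : (Polynomial.X ^ Q - Polynomial.X : Polynomial Ω) ≠ 0 := FiniteField.X_pow_card_sub_X_ne_zero Ω hQ1
    have hsub : (insert a R).val ⊆ (Polynomial.X ^ Q - Polynomial.X : Polynomial Ω).roots := by
      intro b hb
      rw [Polynomial.mem_roots hp, Polynomial.IsRoot.def]
      rcases Finset.mem_insert.1 hb with rfl | hb
      · simp [ha]
      · obtain ⟨a', -, rfl⟩ := Finset.mem_image.1 hb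
        simp [← map_pow, hfix]
    have h1 := Polynomial.card_le_degree_of_subset_roots hsub
    rw [Finset.card_insert_of_notMem, show R.card = Fintype.card k' from Finset.card_image_of_injective _ ψ.toRingHom.injective,
      FiniteField.X_pow_card_sub_X_natDegree_eq Ω hQ1] at h1
    · simp only [Q, Nat.card_eq_fintype_card] at h1
      omega
    · intro h
      obtain ⟨a', -, rfl⟩ := Finset.mem_image.1 h
      exact hna ⟨a', rfl⟩
  haveI : Flat c.left := Flat.SpecMap_iff.2 (by
    letI := ψ.toRingHom.toAlgebra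
    exact RingHom.flat_algebraMap_iff.2 (inferInstance : Module.Flat k' Ω))
  haveI : Surjective c.left :=
    ⟨fun x => ⟨IsLocalRing.closedPoint Ω, Subsingleton.elim (α := PrimeSpectrum k') _ _⟩⟩
  haveI : QuasiCompact c.left := inferInstanceAs (QuasiCompact (Spec.map _))
  haveI : Epi c := (Over.forget _).epi_of_epi_map (inferInstanceAs (Epi c.left))
  refine (Nat.card_congr (Equiv.ofBijective (fun y : T' ⟶ X => (⟨c ≫ y, hc y⟩ : {x : SGA7.pt Ω ⟶ X // x ≫ π = x}))
    ⟨fun y y' h => (cancel_epi c).1 (congrArg Subtype.val h), fun x => ?_⟩)).symm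
  obtain ⟨x, hx⟩ := x
  obtain ⟨U, hU, hzU, -⟩ := exists_isAffineOpen_mem_and_subset (x := x.left (IsLocalRing.closedPoint Ω)) (U := ⊤) trivial
  have hle : (⊤ : (Spec (CommRingCat.of Ω)).Opens) ≤ x.left ⁻¹ᵁ U := fun z _ => by
    show x.left z ∈ U
    rw [Subsingleton.elim (α := PrimeSpectrum Ω) z (IsLocalRing.closedPoint Ω)]
    exact hzU
  let gam := Scheme.ΓSpecIso (CommRingCat.of Ω)
  let φ : Γ(X.left, U) ⟶ CommRingCat.of Ω := x.left.appLE U ⊤ hle ≫ gam.hom
  have hxφ : Spec.map φ ≫ hU.fromSpec = x.left := by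
    let xl : Spec (CommRingCat.of Ω) ⟶ X.left := x.left
    have h1 : Spec.map (xl.appLE U ⊤ hle) ≫ hU.fromSpec = (isAffineOpen_top (Spec (CommRingCat.of Ω))).fromSpec ≫ xl :=
      IsAffineOpen.SpecMap_appLE_fromSpec xl hU (isAffineOpen_top (Spec (CommRingCat.of Ω))) hle
    rw [IsAffineOpen.fromSpec_top, Scheme.isoSpec_Spec_inv] at h1
    show Spec.map (x.left.appLE U ⊤ hle ≫ gam.hom) ≫ _ = _
    rw [Spec.map_comp, Category.assoc]
    exact (congrArg (Spec.map gam.hom ≫ ·) h1).trans (by
      rw [← Category.assoc, ← Spec.map_comp, Iso.inv_hom_id, Spec.map_id]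
      exact Category.id_comp _)
  haveI : Finite k := inferInstance
  obtain ⟨πΩ, hπΩ⟩ : ∃ πΩ : SGA7.pt Ω ⟶ SGA7.pt Ω, IsPow Q πΩ := by
    obtain ⟨πΩ, h⟩ := IsPow.exists_pow (SGA7.pt (K := k) Ω) (Module.finrank k k')
    refine ⟨πΩ, ?_⟩
    haveI : Module.Finite k k' := Module.Finite.of_finite
    show IsPow (Nat.card k') πΩ
    rwa [Module.natCard_eq_pow_finrank (K := k) (V := k')]
  have hφQ : ∀ s : Γ(X.left, U), φ.hom s ^ Q = φ.hom s := by
    intro s
    have h2 : πΩ ≫ x = x := (hπΩ.natural hπ x).trans hx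
    have key : ∀ (g : Spec (CommRingCat.of Ω) ⟶ X.left) (hg : (⊤ : (Spec (CommRingCat.of Ω)).Opens) ≤ g ⁻¹ᵁ U), g = x.left →
        g.appLE U ⊤ hg = x.left.appLE U ⊤ hle := by
      intro g hg h; subst h; rfl
    have hg : (⊤ : (Spec (CommRingCat.of Ω)).Opens) ≤ (πΩ.left ≫ x.left) ⁻¹ᵁ U := fun z _ => hle trivial
    have h3 := key (πΩ.left ≫ x.left) hg (congrArg CommaMorphism.left h2)
    rw [← Scheme.Hom.appLE_comp_appLE πΩ.left x.left U ⊤ ⊤ hle (hπΩ.preimage_eq ⊤).ge] at h3
    have h4 := congrArg (fun e => gam.hom.hom (e.hom s)) h3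
    simp only [CommRingCat.hom_comp, RingHom.comp_apply] at h4
    erw [hπΩ.app] at h4
    rw [map_pow] at h4
    exact h4
  let φ₀ : Γ(X.left, U) →+* ψ.toRingHom.range := φ.hom.codRestrict _ fun s => hmem _ (hφQ s)
  let e : k' ≃+* ψ.toRingHom.range := RingEquiv.ofBijective ψ.toRingHom.rangeRestrict
    ⟨fun a b h => ψ.toRingHom.injective (congrArg Subtype.val h), ψ.toRingHom.rangeRestrict_surjective⟩
  let φ' : Γ(X.left, U) ⟶ CommRingCat.of k' := CommRingCat.ofHom (e.symm.toRingHom.comp φ₀)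
  have hφ' : φ' ≫ CommRingCat.ofHom ψ.toRingHom = φ := by
    ext s
    exact congrArg Subtype.val (e.apply_symm_apply (φ₀ s))
  let y₀ : Spec (CommRingCat.of k') ⟶ X.left := Spec.map φ' ≫ hU.fromSpec
  have hy₀ : c.left ≫ y₀ = x.left := by
    show Spec.map _ ≫ Spec.map φ' ≫ _ = _
    rw [← Category.assoc, ← Spec.map_comp, hφ', hxφ]
  let y : T' ⟶ X := Over.homMk y₀ (by
    rw [← cancel_epi c.left, reassoc_of% hy₀, Over.w x]
    exact (Over.w c).symm)
  exact ⟨y, Subtype.ext (Over.OverMorphism.ext hy₀)⟩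

/-- A proper scheme over a finite field on which a power map is the identity is finite étale. -/
theorem finite_of_pow_eq_id [Finite k] {Q : ℕ} (hQ : 1 < Q) (K : Over (Spec (CommRingCat.of k))) [IsProper K.hom]
    (h : IsPow Q (𝟙 K)) : IsFinite K.hom ∧ DiscreteTopology K.left := by
  haveI : IsLocallyNoetherian K.left := LocallyOfFiniteType.isLocallyNoetherian K.hom
  haveI hd : DiscreteTopology K.left := discreteTopology_iff_isOpen_singleton.2 fun z => by
    obtain ⟨U, hU, hzU, -⟩ := exists_isAffineOpen_mem_and_subset (x := z) (U := ⊤) trivial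
    haveI : IsNoetherianRing Γ(K.left, U) := IsLocallyNoetherian.component_noetherian ⟨U, hU⟩
    haveI : Ring.KrullDimLE 0 Γ(K.left, U) := Ring.KrullDimLE.mk₀ fun P hP => by
      haveI := hP
      refine Ideal.Quotient.maximal_of_isField _ ?_
      refine ⟨⟨0, 1, zero_ne_one⟩, mul_comm, fun {a} ha => ?_⟩
      obtain ⟨s, rfl⟩ := Ideal.Quotient.mk_surjective a
      refine ⟨Ideal.Quotient.mk P (s ^ (Q - 2)), ?_⟩
      apply mul_left_cancel₀ ha
      rw [_root_.mul_one, ← map_mul, ← map_mul, ← pow_succ', ← pow_succ', show Q - 2 + 1 + 1 = Q by omega, h.pow_eq_self]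
    haveI : IsArtinianRing Γ(K.left, U) := isArtinianRing_iff_krullDimLE_zero.2 inferInstance
    haveI : DiscreteTopology (Spec Γ(K.left, U)) := inferInstanceAs (DiscreteTopology (PrimeSpectrum Γ(K.left, U)))
    obtain ⟨w, hw⟩ : z ∈ Set.range hU.fromSpec := by rw [hU.range_fromSpec]; exact hzU
    rw [← hw, ← Set.image_singleton]
    exact hU.fromSpec.isOpenEmbedding.isOpenMap _ (isOpen_discrete _)
  haveI : CompactSpace K.left := QuasiCompact.compactSpace_of_compactSpace K.hom
  haveI : Finite K.left := finite_of_compact_of_discrete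
  haveI : LocallyQuasiFinite K.hom := .of_finite_preimage_singleton K.hom fun y => Set.toFinite _
  exact ⟨(IsFinite.iff_isProper_and_locallyQuasiFinite (f := K.hom)).mpr ⟨inferInstance, inferInstance⟩, hd⟩

/-- Its geometric points are as many as its degree. -/
theorem card_pts_of_pow_eq_id [Finite k] {Q : ℕ} (hQ : 1 < Q) (K : Over (Spec (CommRingCat.of k))) [IsFinite K.hom]
    (h : IsPow Q (𝟙 K)) (Ω : Type u) [Field Ω] [Algebra k Ω] [IsAlgClosed Ω] (y : Spec (CommRingCat.of k)) :
    Nat.card (SGA7.pt Ω ⟶ K) = K.hom.finrank y := by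
  classical
  haveI : IsAffine K.left := isAffine_of_isAffineHom K.hom
  let R := Γ(K.left, ⊤)
  obtain ⟨α, hα⟩ := Spec.map_surjective (K.left.isoSpec.inv ≫ K.hom)
  letI : Algebra k R := α.hom.toAlgebra
  have hα' : Spec.map (CommRingCat.ofHom (algebraMap k R)) = K.left.isoSpec.inv ≫ K.hom := hα
  haveI : Module.Finite k R := by
    rw [← RingHom.finite_algebraMap]
    have h1 : IsFinite (K.left.isoSpec.inv ≫ K.hom) := inferInstance
    rw [← hα'] at h1
    exact (IsFinite.SpecMap_iff _).mp h1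
  haveI : _root_.IsReduced R := ⟨fun s ⟨n, hn⟩ => by
    have h1 : ∀ m : ℕ, s ^ (Q ^ m) = s := fun m => by
      induction m with
      | zero => rw [pow_zero, pow_one]
      | succ m ih => rw [pow_succ, pow_mul, ih, h.pow_eq_self]
    rw [← h1 n]
    exact pow_eq_zero_of_le (Nat.lt_pow_self hQ).le hn⟩
  haveI : IsArtinianRing R := IsArtinianRing.of_finite k R
  haveI : PerfectField k := PerfectField.ofFinite
  letI : ∀ m : MaximalSpectrum R, Field (R ⧸ m.asIdeal) := fun m => @Ideal.Quotient.field R _ m.asIdeal m.isMaximal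
  haveI : ∀ m : MaximalSpectrum R, Algebra.FormallyUnramified k (R ⧸ m.asIdeal) := fun m => by
    haveI : Algebra.IsAlgebraic k (R ⧸ m.asIdeal) := Algebra.IsAlgebraic.of_finite k _
    haveI : Algebra.IsSeparable k (R ⧸ m.asIdeal) := Algebra.IsAlgebraic.isSeparable_of_perfectField
    exact Algebra.FormallyUnramified.of_isSeparable k _
  haveI : Fintype (MaximalSpectrum R) := Fintype.ofFinite _
  haveI : Algebra.FormallyUnramified k (∀ m : MaximalSpectrum R, R ⧸ m.asIdeal) :=
    (Algebra.FormallyUnramified.pi_iff _).2 inferInstance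
  haveI : Algebra.FormallyUnramified k R :=
    Algebra.FormallyUnramified.of_equiv (AlgEquiv.ofRingEquiv (f := (IsArtinianRing.equivPi R).toRingEquiv.symm)
      fun c => by
        rw [RingEquiv.symm_apply_eq]
        exact ((IsArtinianRing.equivPi R).commutes (algebraMap k R c)).symm)
  have hfin : K.hom.finrank y = Module.finrank k R := by
    have h1 := congrFun (Scheme.Hom.finrank_comp_left_of_isIso K.left.isoSpec.inv K.hom) y
    rw [← hα'] at h1
    exact h1.symm.trans ((Scheme.Hom.finrank_SpecMap_algebraMap k R y).trans (congrFun (Module.rankAtStalk_eq_finrank_of_free (R := k) (M := R)) y))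
  rw [hfin, ← card_algHom_of_unramified k R Ω]
  refine Nat.card_congr
    { toFun := fun x => AlgHom.mk (Spec.preimage (x.left ≫ K.left.isoSpec.hom)).hom fun c => by
        have h1 : CommRingCat.ofHom (algebraMap k R) ≫ Spec.preimage (x.left ≫ K.left.isoSpec.hom) =
            CommRingCat.ofHom (algebraMap k Ω) := by
          apply Spec.map_injective
          rw [Spec.map_comp, Spec.map_preimage, hα', Category.assoc, Iso.hom_inv_id_assoc]
          exact Over.w x
        exact ConcreteCategory.congr_hom h1 c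
      invFun := fun g => Over.homMk (Spec.map (CommRingCat.ofHom g.toRingHom) ≫ K.left.isoSpec.inv) (by
        show _ = Spec.map (CommRingCat.ofHom (algebraMap k Ω))
        rw [Category.assoc, ← hα', ← Spec.map_comp, ← CommRingCat.ofHom_comp]
        exact congrArg (fun f => Spec.map (CommRingCat.ofHom f)) g.comp_algebraMap)
      left_inv := fun x => Over.OverMorphism.ext (by
        show Spec.map (Spec.preimage (x.left ≫ K.left.isoSpec.hom)) ≫ _ = x.left
        rw [Spec.map_preimage, Category.assoc, Iso.hom_inv_id, Category.comp_id])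
      right_inv := fun g => AlgHom.ext fun r => by
        show (Spec.preimage ((Spec.map (CommRingCat.ofHom g.toRingHom) ≫ K.left.isoSpec.inv) ≫ K.left.isoSpec.hom)).hom r = g r
        rw [Category.assoc, Iso.inv_hom_id, Category.comp_id, Spec.preimage_map]
        rfl }

end Groth.Agent.AVTors2
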