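import Groth.Agent.Lib.AVCube
import Groth.Agent.AVTors2.CurveDegree
import Groth.Agent.AVTors2.Curve
import Groth.Agent.S8121
import Groth.Prelude.Def_EndRing

/-!
Degree forms on homomorphism groups of abelian varieties.
-/

set_option autoImplicit false
set_option backward.isDefEq.respectTransparency false
set_option backward.isDefEq.respectTransparency.types false
set_option linter.style.haveILetI false
set_option linter.unusedSectionVars false
set_option maxHeartbeats 800000

universe u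

open CategoryTheory CategoryTheory.Limits MonoidalCategory CartesianMonoidalCategory MonObj AlgebraicGeometry

namespace Groth.Agent.AVTors2

open Groth.Agent.AVCube Groth.Agent.H23
open scoped Groth.Agent.H23.PicMul

variable {k : Type u} [Field k] {A B : Over (Spec (CommRingCat.of k))}
  {C : Scheme.{u}} (j : C ⟶ A.left) {H : B.left.Modules}

/-- The degree on the curve `C` of the pullback of `H` along `f`. -/
noncomputable def qd (H : B.left.Modules) (f : A ⟶ B) : ℤ :=
  @Curv2.deg k _ C ⟨j ≫ A.hom⟩ ((Scheme.Modules.pullback (j ≫ f.left)).obj H) 1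

variable [IsIntegral C] [IsProper (j ≫ A.hom)] (hdim : topologicalKrullDim C = 1) (hH : PicF.IsInvertible H)
  [GrpObj B]

include hdim hH in
theorem qd_pos (hamp : CohB1.IsAmple H) [IsSeparated B.hom] [QuasiCompact B.hom] (f : A ⟶ B) [IsFinite (j ≫ f.left)] :
    0 < qd j H f := by
  letI : C.Over (Spec (CommRingCat.of k)) := ⟨j ≫ A.hom⟩
  haveI : IsProper (C ↘ Spec (CommRingCat.of k)) := ‹_›
  exact deg_pos_of_isAmple hdim (isAmple_pullback_finite B.hom (j ≫ f.left) hamp)

variable [IsProper B.hom] [GeometricallyIntegral B.hom]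

include hdim hH in
theorem qd_cube (f g h : A ⟶ B) :
    qd j H (f * g * h) + qd j H f + qd j H g + qd j H h =
      qd j H (f * g) + qd j H (f * h) + qd j H (g * h) := by
  letI : C.Over (Spec (CommRingCat.of k)) := ⟨j ≫ A.hom⟩
  haveI : IsProper (C ↘ Spec (CommRingCat.of k)) := ‹_›
  let jT : Over.mk (j ≫ A.hom) ⟶ A := Over.homMk j rfl
  have e := congrArg Units.val (cube_rel hH (jT ≫ f) (jT ≫ g) (jT ≫ h))
  simp only [← MonObj.comp_mul, Units.val_mul, val_pc] at e
  let P : (A ⟶ B) → C.Modules := fun φ => (Scheme.Modules.pullback (j ≫ φ.left)).obj H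
  have hP : ∀ φ, PicF.IsInvertible (P φ) := fun φ => PicClLib.isInvertible_pullback _ hH
  replace e : PicF.cl (P (f * g * h)) * PicF.cl (P f) * PicF.cl (P g) * PicF.cl (P h) =
      PicF.cl (P (f * g)) * PicF.cl (P (f * h)) * PicF.cl (P (g * h)) := e
  have i2 := InvX.isInvertible_tensorMod (hP (f * g * h)) (hP f)
  have i3 := InvX.isInvertible_tensorMod i2 (hP g)
  have j2 := InvX.isInvertible_tensorMod (hP (f * g)) (hP (f * h))
  rw [← PicMul.cl_tensor, ← PicMul.cl_tensor, ← PicMul.cl_tensor, ← PicMul.cl_tensor, ← PicMul.cl_tensor] at e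
  obtain ⟨w⟩ := PicMul.cl_eq_iff.1 e
  have h1 := CurveRR.deg_congr k w 1
  rw [deg_mul hdim i3 (hP h) (PicMul.cl_tensor _ _), deg_mul hdim i2 (hP g) (PicMul.cl_tensor _ _),
    deg_mul hdim (hP (f * g * h)) (hP f) (PicMul.cl_tensor _ _),
    deg_mul hdim j2 (hP (g * h)) (PicMul.cl_tensor _ _),
    deg_mul hdim (hP (f * g)) (hP (f * h)) (PicMul.cl_tensor _ _)] at h1
  exact h1

include hdim hH in
theorem qd_one : qd j H (1 : A ⟶ B) = 0 := by
  have := qd_cube j hdim hH (1 : A ⟶ B) 1 1
  simp only [_root_.one_mul] at this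
  omega

include hdim in
theorem qd_inv (hsym : Nonempty (H ≅ (Scheme.Modules.pullback ((𝟙 B)⁻¹).left).obj H)) (f : A ⟶ B) :
    qd j H f⁻¹ = qd j H f := by
  letI : C.Over (Spec (CommRingCat.of k)) := ⟨j ≫ A.hom⟩
  haveI : IsProper (C ↘ Spec (CommRingCat.of k)) := ‹_›
  obtain ⟨e⟩ := hsym
  have h : (j ≫ f⁻¹.left) = (j ≫ f.left) ≫ ((𝟙 B)⁻¹ : B ⟶ B).left := by
    rw [Category.assoc, ← Over.comp_left, GrpObj.comp_inv, Category.comp_id]
  unfold qd
  rw [h]
  exact CurveRR.deg_congr k (((Scheme.Modules.pullbackComp (j ≫ f.left) ((𝟙 B)⁻¹ : B ⟶ B).left).app H).symm ≪≫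
    (Scheme.Modules.pullback (j ≫ f.left)).mapIso e.symm) 1

variable [GrpObj A] [IsCommMonObj A] [IsCommMonObj B]

/-- The bilinear form of the degree on `C`. -/
noncomputable def bform : EndAV.Hom A B →+ EndAV.Hom A B →+ ℤ :=
  AddMonoidHom.mk' (fun x => AddMonoidHom.mk' (fun y =>
      qd j H (x + y).toHom - qd j H x.toHom - qd j H y.toHom) fun y y' => by
    have := qd_cube j hdim hH x.toHom y.toHom y'.toHom
    simp only [EndAV.Hom.toHom_add, ← _root_.mul_assoc]
    omega) fun x x' => AddMonoidHom.ext fun y => by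
    have := qd_cube j hdim hH x.toHom x'.toHom y.toHom
    simp only [AddMonoidHom.add_apply, AddMonoidHom.mk'_apply, EndAV.Hom.toHom_add]
    omega

theorem bform_apply_self (hsym : Nonempty (H ≅ (Scheme.Modules.pullback ((𝟙 B)⁻¹).left).obj H)) (x : EndAV.Hom A B) :
    bform j hdim hH x x = 2 * qd j H x.toHom := by
  have h := qd_cube j hdim hH x.toHom x.toHom x.toHom⁻¹
  simp only [bform, AddMonoidHom.mk'_apply, EndAV.Hom.toHom_add, mul_inv_cancel_right, mul_inv_cancel,
    qd_inv j hdim hsym, qd_one j hdim hH] at h ⊢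
  omega

/-- For every non-zero homomorphism some degree form is non-zero at it. -/
theorem exists_bform_ne_zero [IsProper A.hom] [IsIntegral A.left] (x : EndAV.Hom A B) (hx : x ≠ 0) :
    ∃ (b : EndAV.Hom A B →+ EndAV.Hom A B →+ ℤ), b x x ≠ 0 := by
  obtain ⟨C, j, hj, hC, hdim, hfin⟩ := exists_finite_curve x.toHom fun e => hx (EndAV.Hom.ext e)
  obtain ⟨H, hH, hsym⟩ := S8121.result k B
  haveI : IsProper (j ≫ A.hom) := inferInstance
  refine ⟨bform j hdim hH.1, ?_⟩
  rw [bform_apply_self j hdim hH.1 hsym]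
  have := qd_pos j hdim hH.1 hH x.toHom
  omega

end Groth.Agent.AVTors2
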