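import Groth.Agent.AVDegLib.Tangent
import Groth.Agent.AVTors2.Card
import Mathlib.RingTheory.Filtration

/-!
In characteristic `p` the infinitesimal neighbourhoods of the unit are killed by powers of `p`.
-/

set_option autoImplicit false
set_option backward.isDefEq.respectTransparency false
set_option backward.isDefEq.respectTransparency.types false
set_option linter.style.haveILetI false
set_option linter.unusedSectionVars false
set_option maxHeartbeats 800000

universe u

open CategoryTheory CategoryTheory.Limits MonoidalCategory CartesianMonoidalCategory MonObj AlgebraicGeometry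
open Groth.Agent.GrpSchLib TrivSqZeroExt

namespace Groth.Agent.AVTors2

variable {k : Type u} [Field k] {X : Over (Spec (CommRingCat.of k))} [GrpObj X]

/-- The unit point. -/
noncomputable def ept (X : Over (Spec (CommRingCat.of k))) [GrpObj X] : X.left :=
  η[X].left (IsLocalRing.closedPoint k)

theorem exists_stalk_factor {R : CommRingCat.{u}} [IsLocalRing R] {Y : Scheme.{u}} (f : Spec R ⟶ Y) (y : Y)
    (h : f (IsLocalRing.closedPoint R) = y) :
    ∃ θ : Y.presheaf.stalk y ⟶ R, Spec.map θ ≫ Y.fromSpecStalk y = f ∧ IsLocalHom θ.hom := by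
  subst h
  exact ⟨Scheme.stalkClosedPointTo f, Scheme.Spec_stalkClosedPointTo_fromSpecStalk f, inferInstance⟩

/-- Truncated local rings at the unit are killed by powers of the characteristic. -/
theorem pow_kills (p : ℕ) [CharP k p] (N : ℕ)
    (t : Over.mk (Spec.map (CommRingCat.ofHom (Ideal.Quotient.mk (IsLocalRing.maximalIdeal (X.left.presheaf.stalk (ept X)) ^ N))) ≫
      X.left.fromSpecStalk (ept X) ≫ X.hom) ⟶ X)
    (ht : t.left = Spec.map (CommRingCat.ofHom (Ideal.Quotient.mk (IsLocalRing.maximalIdeal (X.left.presheaf.stalk (ept X)) ^ N))) ≫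
      X.left.fromSpecStalk (ept X)) : t ^ (p ^ N) = 1 := by
  let e := ept X
  let O := X.left.presheaf.stalk e
  let ι' : Spec O ⟶ X.left := X.left.fromSpecStalk e
  obtain ⟨ψ, hψ⟩ := Spec.map_surjective (ι' ≫ X.hom)
  letI : Algebra k O := ψ.hom.toAlgebra
  haveI : IsPreimmersion ι' := inferInstanceAs (IsPreimmersion (X.left.fromSpecStalk e))
  obtain ⟨χ, hχ, hχloc⟩ := exists_stalk_factor (R := CommRingCat.of k) η[X].left e rfl
  let χa : O →ₐ[k] k :=
    { χ.hom with
      commutes' := fun c => by
        have h : ψ ≫ χ = 𝟙 _ := Spec.map_injective (by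
          rw [Spec.map_comp, hψ, ← Category.assoc, hχ, Spec.map_id]
          exact Over.w η[X])
        exact congrArg (fun q => q.hom c) h }
  let m := IsLocalRing.maximalIdeal O
  have hker : RingHom.ker χ.hom = m := IsLocalRing.eq_maximalIdeal
    (RingHom.ker_isMaximal_of_surjective χ.hom fun c => ⟨algebraMap k O c, χa.commutes c⟩)
  have hpt : ∀ {T : Type u} [CommRing T] [Algebra k T] (g : O →ₐ[k] T),
      (Spec.map (CommRingCat.ofHom g.toRingHom) ≫ ι') ≫ X.hom = Spec.map (CommRingCat.ofHom (algebraMap k T)) := by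
    intro T _ _ g
    rw [Category.assoc, ← hψ, ← Spec.map_comp]
    exact congrArg Spec.map (CommRingCat.hom_ext (RingHom.ext g.commutes))
  -- the `p`-th power on the stalk
  obtain ⟨θ, hθ, hθloc⟩ := exists_stalk_factor (ι' ≫ (𝟙 X ^ p : X ⟶ X).left) e (by
    rw [Scheme.Hom.comp_apply, Scheme.fromSpecStalk_closedPoint]
    have h : η[X] ≫ (𝟙 X ^ p : X ⟶ X) = η[X] := by
      rw [MonObj.comp_pow, Category.comp_id, MonObj.one_eq_one, one_pow]
    exact congrArg (fun q : 𝟙_ (Over (Spec (CommRingCat.of k))) ⟶ X => q.left (IsLocalRing.closedPoint k)) h)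
  have hψθ : ψ ≫ θ = ψ := Spec.map_injective (by
    rw [Spec.map_comp, hψ, ← Category.assoc, hθ, Category.assoc, Over.w])
  have hθm : ∀ a ∈ m, θ.hom a ∈ m := fun a ha => by
    haveI := hθloc
    exact fun hu => ha (isUnit_of_map_unit θ.hom a hu)
  let cls : O →ₗ[k] m.Cotangent :=
    { toFun := fun a => m.toCotangent ⟨a - algebraMap k O (χa a), hker ▸ RingHom.mem_ker.2 (by
        show χ.hom (a - algebraMap k O (χa a)) = 0
        rw [map_sub, show χ.hom (algebraMap k O (χa a)) = χa a from χa.commutes _]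
        exact sub_self _)⟩
      map_add' := fun a b => by
        rw [← map_add]
        refine congrArg _ (Subtype.ext ?_)
        show a + b - algebraMap k O (χa (a + b)) = _
        rw [map_add, map_add]
        show _ = (a - algebraMap k O (χa a)) + (b - algebraMap k O (χa b))
        ring
      map_smul' := fun c a => by
        rw [RingHom.id_apply, ← algebraMap_smul O c (m.toCotangent _), ← map_smul]
        refine congrArg _ (Subtype.ext ?_)
        show c • a - algebraMap k O (χa (c • a)) = algebraMap k O c * (a - algebraMap k O (χa a))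
        rw [map_smul, smul_eq_mul, map_mul, Algebra.smul_def]
        ring }
  have hcls_mul : ∀ a b, cls (a * b) = χa a • cls b + χa b • cls a := fun a b => by
    show m.toCotangent _ = χa a • m.toCotangent _ + χa b • m.toCotangent _
    rw [← algebraMap_smul O (χa a), ← algebraMap_smul O (χa b), ← map_smul, ← map_smul, ← map_add, Ideal.toCotangent_eq]
    show a * b - algebraMap k O (χa (a * b)) -
      (algebraMap k O (χa a) * (b - algebraMap k O (χa b)) + algebraMap k O (χa b) * (a - algebraMap k O (χa a))) ∈ m ^ 2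
    have hm : ∀ c, c - algebraMap k O (χa c) ∈ m := fun c => hker ▸ RingHom.mem_ker.2 (by
      rw [map_sub, show χ.hom (algebraMap k O (χa c)) = χa c from χa.commutes _]
      exact sub_self _)
    have := Ideal.mul_mem_mul (hm a) (hm b)
    rw [← pow_two] at this
    convert this using 1
    rw [map_mul, map_mul]
    ring
  have hsq : ∀ a ∈ m, θ.hom a ∈ m ^ 2 := by
    intro a ha
    suffices h : cls (θ.hom a) = 0 by
      have h' := (m.toCotangent_eq_zero _).1 h
      have h0 : χa (θ.hom a) = 0 := RingHom.mem_ker.1 (hker.symm ▸ hθm a ha)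
      simpa [h0] using h'
    refine (Module.forall_dual_apply_eq_zero_iff k _).1 fun ℓ => ?_
    let g : O →ₐ[k] TrivSqZeroExt k k := AlgHom.ofLinearMap
      ((TrivSqZeroExt.inlAlgHom k k k).toLinearMap ∘ₗ χa.toLinearMap +
        (TrivSqZeroExt.inrHom k k) ∘ₗ ℓ ∘ₗ cls)
      (by
        have h1 : cls 1 = 0 := by
          show m.toCotangent _ = 0
          rw [m.toCotangent_eq_zero]
          simp
        simp [h1])
      (fun u v => by
        ext
        · simp
        · simp [hcls_mul]
          ring)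
    let T : specOver k (TrivSqZeroExt k k) ⟶ X := Over.homMk (Spec.map (CommRingCat.ofHom g.toRingHom) ≫ ι') (hpt g)
    have hT : specHom (TrivSqZeroExt.fstHom k k k) ≫ T = 1 := by
      ext1
      show Spec.map _ ≫ Spec.map _ ≫ ι' = Spec.map (CommRingCat.ofHom (algebraMap k k)) ≫ η[X].left
      rw [← Category.assoc, ← Spec.map_comp, Algebra.algebraMap_self, CommRingCat.ofHom_id, Spec.map_id, Category.id_comp,
        ← hχ]
      congr 2
      refine CommRingCat.hom_ext (RingHom.ext fun b => ?_)
      show ((TrivSqZeroExt.fstHom k k k) (g b)) = χa b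
      simp [g]
    have hp := AVDegLib.pow_eq_one k p T hT
    have hp' : T ≫ (𝟙 X ^ p : X ⟶ X) = 1 := by rw [MonObj.comp_pow, Category.comp_id, hp]
    have h2 : θ ≫ CommRingCat.ofHom g.toRingHom =
        χ ≫ CommRingCat.ofHom (algebraMap k (TrivSqZeroExt k k)) := by
      apply Spec.map_injective
      rw [← cancel_mono ι', Spec.map_comp, Spec.map_comp, Category.assoc, Category.assoc, hθ, hχ, ← Category.assoc]
      exact congrArg CommaMorphism.left hp'
    have h3 := congrArg (fun q => TrivSqZeroExt.snd (q.hom a)) h2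
    simpa [g, TrivSqZeroExt.algebraMap_eq_inl] using h3
  have key : ∀ n : ℕ, ∃ θn : O ⟶ O, Spec.map θn ≫ ι' = ι' ≫ (𝟙 X ^ (p ^ n) : X ⟶ X).left ∧ ψ ≫ θn = ψ ∧
      ∀ a ∈ m, θn.hom a ∈ m ^ (2 ^ n) := by
    intro n
    induction n with
    | zero =>
      refine ⟨𝟙 _, ?_, Category.comp_id _, fun a ha => by simpa using ha⟩
      rw [Spec.map_id, Category.id_comp, pow_zero, pow_one, Over.id_left, Category.comp_id]
    | succ n ih =>
      obtain ⟨θn, h1, h2, h3⟩ := ih
      refine ⟨θn ≫ θ, ?_, by rw [← Category.assoc, h2, hψθ], fun a ha => ?_⟩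
      · rw [Spec.map_comp, Category.assoc, h1, ← Category.assoc, hθ, Category.assoc, ← Over.comp_left]
        congr 2
        rw [MonObj.comp_pow, Category.comp_id, ← pow_mul, pow_succ', ]
      · have h4 : (m ^ (2 ^ n)).map θ.hom ≤ m ^ (2 ^ (n + 1)) := by
          rw [Ideal.map_pow, pow_succ', pow_mul]
          exact Ideal.pow_right_mono (Ideal.map_le_iff_le_comap.2 fun b hb => Ideal.mem_comap.2 (hsq b hb)) _
        exact h4 (Ideal.mem_map_of_mem _ (h3 a ha))
  obtain ⟨θN, h1, h2, h3⟩ := key N
  have h5 : t ≫ (𝟙 X ^ (p ^ N) : X ⟶ X) = 1 := by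
    have h6 : θN ≫ CommRingCat.ofHom (Ideal.Quotient.mk (m ^ N)) =
        χ ≫ ψ ≫ CommRingCat.ofHom (Ideal.Quotient.mk (m ^ N)) := by
      refine CommRingCat.hom_ext (RingHom.ext fun a => ?_)
      show Ideal.Quotient.mk (m ^ N) (θN.hom a) = Ideal.Quotient.mk (m ^ N) (algebraMap k O (χa a))
      rw [Ideal.Quotient.eq, ← show θN.hom (algebraMap k O (χa a)) = algebraMap k O (χa a) from
        congrArg (fun q => q.hom (χa a)) h2, ← map_sub]
      refine Ideal.pow_le_pow_right (Nat.lt_two_pow_self).le (h3 _ (hker ▸ RingHom.mem_ker.2 ?_))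
      rw [map_sub, show χ.hom (algebraMap k O (χa a)) = χa a from χa.commutes _]
      exact sub_self _
    ext1
    show t.left ≫ _ = (Spec.map (CommRingCat.ofHom (Ideal.Quotient.mk (m ^ N))) ≫ ι' ≫ X.hom) ≫ η[X].left
    have h7 := congrArg (fun z => Spec.map z ≫ ι') h6
    simp only [Spec.map_comp, hψ] at h7
    rw [ht]
    simp only [ι', Category.assoc] at h1 h7 ⊢
    rw [← h1, ← hχ, h7]
  rw [← h5, MonObj.comp_pow, Category.comp_id]

/-- A closed immersion containing all `p`-power kernels contains the local scheme at the unit (char `p`). -/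
theorem surjective_of_contains [IsIntegral X.left] [LocallyOfFiniteType X.hom] (p : ℕ) [CharP k p] {Z : Scheme.{u}}
    (c : Z ⟶ X.left) [IsClosedImmersion c]
    (hc : ∀ (N : ℕ) {T : Over (Spec (CommRingCat.of k))} (t : T ⟶ X), t ^ (p ^ N) = 1 → ∃ s, s ≫ c = t.left) :
    Surjective c := by
  let e := ept X
  let O := X.left.presheaf.stalk e
  let ι' : Spec O ⟶ X.left := X.left.fromSpecStalk e
  haveI : IsLocallyNoetherian X.left := LocallyOfFiniteType.isLocallyNoetherian X.hom
  let d := pullback.fst ι' c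
  obtain ⟨J, E, hJ⟩ := (IsClosedImmersion.Spec_iff (f := pullback.fst ι' c)).1 inferInstance
  let m := IsLocalRing.maximalIdeal O
  have hle : ∀ N, J ≤ m ^ N := by
    intro N
    let q : O ⟶ CommRingCat.of (O ⧸ m ^ N) := CommRingCat.ofHom (Ideal.Quotient.mk (m ^ N))
    let t : Over.mk (Spec.map q ≫ ι' ≫ X.hom) ⟶ X := Over.homMk (Spec.map q ≫ ι') (Category.assoc _ _ _)
    obtain ⟨s, hs⟩ := hc N t (pow_kills p N t rfl)
    let w := pullback.lift (Spec.map q) s hs.symm ≫ E.hom
    obtain ⟨gam, hgam⟩ := Spec.map_surjective w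
    have h1 : Spec.map q = w ≫ Spec.map (CommRingCat.ofHom (Ideal.Quotient.mk J)) := by
      rw [Category.assoc, ← hJ, pullback.lift_fst]
    rw [← hgam, ← Spec.map_comp] at h1
    intro a ha
    have h2 := congrArg (fun f => f.hom a) (Spec.map_injective h1)
    refine Ideal.Quotient.eq_zero_iff_mem.1 (h2.trans ?_)
    show gam.hom (Ideal.Quotient.mk J a) = 0
    rw [Ideal.Quotient.eq_zero_iff_mem.2 ha, map_zero]
  have hJ0 : J = ⊥ := le_bot_iff.1 (by
    rw [← Ideal.iInf_pow_eq_bot_of_isLocalRing m (IsLocalRing.maximalIdeal.isMaximal O).ne_top]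
    exact le_iInf hle)
  haveI : IsIso (pullback.fst ι' c) := by
    rw [hJ]
    haveI : IsIso (CommRingCat.ofHom (Ideal.Quotient.mk J)) :=
      (ConcreteCategory.isIso_iff_bijective _).2
        ⟨(RingHom.injective_iff_ker_eq_bot _).2 (by simp [hJ0]), Ideal.Quotient.mk_surjective⟩
    infer_instance
  refine ⟨fun x => ?_⟩
  have hgen : genericPoint X.left ∈ Set.range c := by
    have h0 : genericPoint X.left ∈ Set.range ι' := by
      rw [Scheme.range_fromSpecStalk]; exact genericPoint_specializes e
    obtain ⟨z, hz⟩ := h0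
    refine ⟨(inv (pullback.fst ι' c) ≫ pullback.snd ι' c) z, ?_⟩
    rw [← Scheme.Hom.comp_apply, Category.assoc, ← pullback.condition, IsIso.inv_hom_id_assoc, hz]
  exact ((genericPoint_specializes x).mem_closed c.isClosedEmbedding.isClosed_range hgen)

end Groth.Agent.AVTors2
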