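import Groth.Agent.H23.MaxAbelian
import Groth.Prelude.Def_EndRing
import Mathlib.LinearAlgebra.Pi

/-! Powers of an abelian variety, with jointly injective projections. -/

set_option backward.isDefEq.respectTransparency false
set_option backward.isDefEq.respectTransparency.types false
set_option linter.style.haveILetI false
set_option synthInstance.maxHeartbeats 400000
set_option autoImplicit false

open CategoryTheory AlgebraicGeometry MonoidalCategory CartesianMonoidalCategory MonObj Limits

namespace Groth.Agent.AVTors2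

universe u

variable {k : Type u} [Field k]

/-- The power of an abelian variety. -/
theorem exists_power (A : Over (Spec (CommRingCat.of k))) [GrpObj A] [IsCommMonObj A] [IsProper A.hom]
    [GeometricallyIntegral A.hom] (n : ℕ) :
    ∃ (W : Over (Spec (CommRingCat.of k))) (_ : GrpObj W) (_ : IsCommMonObj W) (_ : IsProper W.hom)
      (_ : GeometricallyIntegral W.hom) (pr : Fin n → EndAV.Hom W A),
      (∀ (T : Over (Spec (CommRingCat.of k))) (x y : T ⟶ W), (∀ i, x ≫ (pr i).toHom = y ≫ (pr i).toHom) → x = y) ∧
      (∀ (T : Over (Spec (CommRingCat.of k))) (x : Fin n → (T ⟶ A)), ∃ y : T ⟶ W, ∀ i, y ≫ (pr i).toHom = x i) := by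
  have base : ∀ m : ℕ, ∃ (W : Over (Spec (CommRingCat.of k))) (_ : GrpObj W) (_ : IsCommMonObj W) (_ : IsProper W.hom)
      (_ : GeometricallyIntegral W.hom) (pr : Fin m → EndAV.Hom W A),
      (∀ (T : Over (Spec (CommRingCat.of k))) (x y : T ⟶ W), (∀ i, x ≫ (pr i).toHom = y ≫ (pr i).toHom) → x = y) ∧
      (∀ (T : Over (Spec (CommRingCat.of k))) (x : Fin m → (T ⟶ A)), ∃ y : T ⟶ W, ∀ i, y ≫ (pr i).toHom = x i) := by
    intro m
    induction m with
    | zero =>
      haveI : IsProper (𝟙_ (Over (Spec (CommRingCat.of k)))).hom :=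
        inferInstanceAs (IsProper (𝟙 (Spec (CommRingCat.of k))))
      haveI : GeometricallyIntegral (𝟙_ (Over (Spec (CommRingCat.of k)))).hom :=
        H23.MaxAbelian.geometricallyIntegral_of_pullback _ fun K _ x =>
          H23.MaxAbelian.isIntegral_of_iso (asIso (pullback.snd (𝟙 (Spec (CommRingCat.of k))) x))
      exact ⟨𝟙_ _, inferInstance, isCommMonObj_of_isProper_of_geometricallyIntegral _, inferInstance, inferInstance,
        fun i => i.elim0, fun T x y _ => toUnit_unique x y, fun T _ => ⟨toUnit T, fun i => i.elim0⟩⟩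
    | succ m ih =>
      obtain ⟨W, _, _, _, _, pr, hj, hl⟩ := ih
      haveI : IsProper (W ⊗ A).hom := by
        have h : (W ⊗ A).hom = pullback.snd W.hom A.hom ≫ A.hom := by rw [← pullback.condition]; rfl
        rw [h]; infer_instance
      haveI : GeometricallyIntegral (W ⊗ A).hom := H23.MaxAbelian.geometricallyIntegral_tensor W A
      haveI : IsCommMonObj (W ⊗ A) := isCommMonObj_of_isProper_of_geometricallyIntegral _
      refine ⟨W ⊗ A, inferInstance, inferInstance, inferInstance, inferInstance,
        Fin.snoc (α := fun _ => EndAV.Hom (W ⊗ A) A) (fun i => EndAV.Hom.of (fst W A ≫ (pr i).toHom))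
          (EndAV.Hom.of (snd W A)), fun T x y h => ?_, fun T x => ?_⟩
      · apply CartesianMonoidalCategory.hom_ext
        · refine hj _ _ _ fun i => ?_
          have := h i.castSucc
          simp only [Fin.snoc_castSucc, EndAV.Hom.toHom_of] at this
          rw [Category.assoc, Category.assoc, this]
        · have := h (Fin.last m)
          simpa only [Fin.snoc_last, EndAV.Hom.toHom_of] using this
      · obtain ⟨y, hy⟩ := hl T fun i => x i.castSucc
        refine ⟨lift y (x (Fin.last m)), fun i => ?_⟩
        induction i using Fin.lastCases with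
        | last => simp only [Fin.snoc_last, EndAV.Hom.toHom_of, lift_snd]
        | cast i => simp only [Fin.snoc_castSucc, EndAV.Hom.toHom_of, lift_fst_assoc, hy]
  exact base n

/-- Sums of homomorphisms are products of maps. -/
theorem toHom_sum {X Y : Over (Spec (CommRingCat.of k))} [GrpObj X] [IsCommMonObj X] [GrpObj Y] [IsCommMonObj Y]
    {κ : Type*} (s : Finset κ) (f : κ → EndAV.Hom X Y) : (∑ i ∈ s, f i).toHom = ∏ i ∈ s, (f i).toHom := by
  classical
  induction s using Finset.induction_on with
  | empty => rw [Finset.sum_empty, Finset.prod_empty, EndAV.Hom.toHom_zero]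
  | insert a s ha ih => rw [Finset.sum_insert ha, Finset.prod_insert ha, EndAV.Hom.toHom_add, ih]

/-- Precomposition commutes with products of maps. -/
theorem comp_prod {T X Y : Over (Spec (CommRingCat.of k))} [GrpObj Y] [IsCommMonObj Y] {κ : Type*} (s : Finset κ)
    (u : T ⟶ X) (f : κ → (X ⟶ Y)) : u ≫ ∏ i ∈ s, f i = ∏ i ∈ s, u ≫ f i :=
  map_prod (⟨⟨fun g => u ≫ g, MonObj.comp_one u⟩, fun a b => MonObj.comp_mul u a b⟩ : (X ⟶ Y) →* (T ⟶ Y)) f s

end Groth.Agent.AVTors2
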