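import Groth.Agent.FrobIter.Basic
import Groth.Prelude.Def_EndRing
import Mathlib.AlgebraicGeometry.Morphisms.Flat

/-! The q-Frobenius endomorphism of a scheme over a finite field with q elements. -/

set_option backward.isDefEq.respectTransparency false
set_option backward.isDefEq.respectTransparency.types false
set_option linter.style.haveILetI false
set_option synthInstance.maxHeartbeats 400000

open CategoryTheory AlgebraicGeometry MonoidalCategory CartesianMonoidalCategory MonObj Limits

namespace Groth.Agent.AVTors2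

universe u

variable {k : Type u} [Field k]

/-- The q-Frobenius conditions: the identity on points, the q-th power on sections. -/
structure IsQFrob {X : Over (Spec (CommRingCat.of k))} (π : X ⟶ X) : Prop where
  base : π.left.base = 𝟙 _
  app : ∀ (U : X.left.Opens) (h : U ≤ π.left ⁻¹ᵁ U) (s : Γ(X.left, U)),
    (π.left.appLE U U h).hom s = s ^ Nat.card k

namespace IsQFrob

variable {X Y : Over (Spec (CommRingCat.of k))} {πX : X ⟶ X} {πY : Y ⟶ Y}

theorem mk' (hb : πX.left.base = 𝟙 _) (hle : ∀ U : X.left.Opens, U ≤ πX.left ⁻¹ᵁ U)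
    (happ : ∀ (U : X.left.Opens) (s : Γ(X.left, U)), (πX.left.appLE U U (hle U)).hom s = s ^ Nat.card k) :
    IsQFrob πX :=
  ⟨hb, fun U _ s => happ U s⟩

theorem preimage_eq (hX : IsQFrob πX) (U : X.left.Opens) : πX.left ⁻¹ᵁ U = U :=
  TopologicalSpace.Opens.ext (by
    show πX.left.base ⁻¹' (U : Set X.left) = U
    rw [hX.base]; rfl)

/-- The q-Frobenius commutes with every morphism. -/
theorem natural (hX : IsQFrob πX) (hY : IsQFrob πY) (f : X ⟶ Y) : πX ≫ f = f ≫ πY := by
  apply Over.OverMorphism.ext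
  rw [Over.comp_left, Over.comp_left]
  have hb : (πX.left ≫ f.left).base = (f.left ≫ πY.left).base := by
    rw [Scheme.Hom.comp_base, Scheme.Hom.comp_base, hX.base, hY.base, Category.id_comp, Category.comp_id]
  have hle : ∀ U : Y.left.Opens, (f.left ≫ πY.left) ⁻¹ᵁ U ≤ (πX.left ≫ f.left) ⁻¹ᵁ U := fun U x hx => by
    show (πX.left ≫ f.left).base x ∈ U
    rw [hb]; exact hx
  refine Scheme.Hom.ext hb fun U => ?_
  rw [Scheme.Hom.app_eq_appLE (f.left ≫ πY.left)]
  trans (πX.left ≫ f.left).appLE U ((f.left ≫ πY.left) ⁻¹ᵁ U) (hle U)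
  · rw [Scheme.Hom.appLE]; rfl
  have hW : f.left ⁻¹ᵁ U = (f.left ≫ πY.left) ⁻¹ᵁ U := by
    rw [Scheme.Hom.comp_preimage, hY.preimage_eq]
  suffices ∀ (W : X.left.Opens) (h1 : W ≤ (πX.left ≫ f.left) ⁻¹ᵁ U) (h2 : W ≤ (f.left ≫ πY.left) ⁻¹ᵁ U),
      W = f.left ⁻¹ᵁ U → (πX.left ≫ f.left).appLE U W h1 = (f.left ≫ πY.left).appLE U W h2 from
    this _ (hle U) le_rfl hW.symm
  rintro W h1 h2 rfl
  rw [← Scheme.Hom.appLE_comp_appLE πX.left f.left U (f.left ⁻¹ᵁ U) (f.left ⁻¹ᵁ U) le_rfl (hX.preimage_eq _).ge,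
    ← Scheme.Hom.appLE_comp_appLE f.left πY.left U U (f.left ⁻¹ᵁ U) (hY.preimage_eq _).ge le_rfl]
  ext s
  simp only [CommRingCat.hom_comp, RingHom.comp_apply, hX.app, hY.app, map_pow]

end IsQFrob

/-- The q-Frobenius exists. -/
theorem exists_qfrob [Finite k] (X : Over (Spec (CommRingCat.of k))) : ∃ π : X ⟶ X, IsQFrob π := by
  classical
  haveI := Fintype.ofFinite k
  obtain ⟨p, hp⟩ := CharP.exists k
  haveI := hp
  obtain ⟨e, hprime, he⟩ := FiniteField.card k p
  haveI := Fact.mk hprime
  haveI : FrobSch.IsCharP X.left p := FrobSch.IsCharP.of_hom X.hom p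
  have hid : FrobIter.iter p (Spec (CommRingCat.of k)) (e : ℕ) = 𝟙 _ := by
    rw [FrobIter.iter_Spec]
    have : CommRingCat.ofHom (iterateFrobenius k p e) = 𝟙 (CommRingCat.of k) := by
      ext x
      show iterateFrobenius k p e x = x
      rw [iterateFrobenius_def, ← he, FiniteField.pow_card]
    rw [this, Spec.map_id]
  refine ⟨Over.homMk (FrobIter.iter p X.left e) (by rw [FrobIter.iter_comp, hid, Category.comp_id]), ?_, ?_⟩
  · exact TopCat.ext fun x => FrobIter.iter_apply e x
  · intro U h s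
    rw [Nat.card_eq_fintype_card, he]
    have key : ∀ (N : ℕ) (h : U ≤ FrobIter.iter p X.left N ⁻¹ᵁ U),
        ((FrobIter.iter p X.left N).appLE U U h).hom s = s ^ p ^ N := by
      intro N
      induction N with
      | zero =>
        intro h
        simp [FrobIter.iter, Scheme.Hom.appLE]
        exact ConcreteCategory.congr_hom (X.left.presheaf.map_id _) s
      | succ N ih =>
        intro h
        have h' : U ≤ FrobIter.iter p X.left N ⁻¹ᵁ U := fun x hx => by
          show (FrobIter.iter p X.left N).base x ∈ U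
          rwa [FrobIter.iter_apply]
        simp only [FrobIter.iter]
        rw [← Scheme.Hom.appLE_comp_appLE (FrobIter.iter p X.left N) (FrobSch.frob X.left p) U U U le_rfl h']
        have : ((FrobSch.frob X.left p).appLE U U le_rfl).hom s = s ^ p := by
          rw [Scheme.Hom.appLE]
          show X.left.presheaf.map _ ((FrobSch.frob X.left p).app U s) = _
          rw [FrobSch.frob_app]
          exact ConcreteCategory.congr_hom (X.left.presheaf.map_id _) _
        simp only [CommRingCat.hom_comp, RingHom.comp_apply, this, map_pow, ih h']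
        rw [← pow_mul, pow_succ]
    exact key e h

/-- The q-Frobenius of a group is a homomorphism. -/
theorem IsQFrob.isMonHom [Finite k] {X : Over (Spec (CommRingCat.of k))} [GrpObj X] {π : X ⟶ X} (h : IsQFrob π) :
    IsMonHom π := by
  obtain ⟨π₁, h₁⟩ := exists_qfrob (𝟙_ (Over (Spec (CommRingCat.of k))))
  obtain ⟨π₂, h₂⟩ := exists_qfrob (X ⊗ X)
  refine ⟨?_, ?_⟩
  · rw [← h₁.natural h η[X], toUnit_unique π₁ (𝟙 _), Category.id_comp]
  · rw [← h₂.natural h μ[X]]
    congr 1
    apply CartesianMonoidalCategory.hom_ext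
    · rw [h₂.natural h, tensorHom_fst]
    · rw [h₂.natural h, tensorHom_snd]

section Poly

variable {C : Type*} [Category C] [CartesianMonoidalCategory C] [BraidedCategory C]
  {X Y : C} [GrpObj X] [IsCommMonObj X] [GrpObj Y] [IsCommMonObj Y]

/-- Polynomials in intertwined endomorphisms are intertwined. -/
theorem eval₂_comm (q : X ⟶ Y) [IsMonHom q] (a : EndAV.End X) (b : EndAV.End Y)
    (hab : a.toHom ≫ q = q ≫ b.toHom) (R : Polynomial ℤ) :
    EndAV.End.toHom (Polynomial.eval₂ (Int.castRingHom (EndAV.End X)) a R) ≫ q =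
      q ≫ EndAV.End.toHom (Polynomial.eval₂ (Int.castRingHom (EndAV.End Y)) b R) := by
  let c : EndAV.Hom X Y := EndAV.Hom.of q
  have h1 : (a : EndAV.Hom X X) ≫ c = c ≫ (b : EndAV.Hom Y Y) := EndAV.Hom.ext hab
  have h2 : ∀ m : ℕ, ((a ^ m : EndAV.End X) : EndAV.Hom X X) ≫ c = c ≫ ((b ^ m : EndAV.End Y) : EndAV.Hom Y Y) := by
    intro m
    induction m with
    | zero =>
      rw [pow_zero, pow_zero]
      exact (Category.id_comp c).trans (Category.comp_id c).symm
    | succ m ih =>
      rw [pow_succ, pow_succ]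
      show (a ≫ (a ^ m : EndAV.End X)) ≫ c = c ≫ (b ≫ (b ^ m : EndAV.End Y))
      rw [Category.assoc, ih, ← Category.assoc, h1, Category.assoc]
  let evX : Polynomial ℤ → EndAV.End X := Polynomial.eval₂ (Int.castRingHom (EndAV.End X)) a
  let evY : Polynomial ℤ → EndAV.End Y := Polynomial.eval₂ (Int.castRingHom (EndAV.End Y)) b
  have h3 : ∀ R : Polynomial ℤ, (evX R : EndAV.Hom X X) ≫ c = c ≫ (evY R : EndAV.Hom Y Y) := by
    intro R
    simp only [evX, evY]
    induction R using Polynomial.induction_on' with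
    | add R S hR hS =>
      rw [Polynomial.eval₂_add, Polynomial.eval₂_add, Preadditive.add_comp, Preadditive.comp_add, hR, hS]
    | monomial m r =>
      rw [Polynomial.eval₂_monomial, Polynomial.eval₂_monomial, eq_intCast, eq_intCast,
        ← zsmul_eq_mul, ← zsmul_eq_mul, Preadditive.zsmul_comp, Preadditive.comp_zsmul, h2]
  exact congrArg EndAV.Hom.toHom (h3 R)

/-- Polynomial relations pass to quotients. -/
theorem eval₂_eq_zero_of_epi (q : X ⟶ Y) [IsMonHom q] [Epi q] (a : EndAV.End X) (b : EndAV.End Y)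
    (hab : a.toHom ≫ q = q ≫ b.toHom) (P : Polynomial ℤ)
    (hP : Polynomial.eval₂ (Int.castRingHom (EndAV.End X)) a P = 0) :
    Polynomial.eval₂ (Int.castRingHom (EndAV.End Y)) b P = 0 := by
  have h := eval₂_comm q a b hab P
  rw [hP, EndAV.End.toHom_zero, MonObj.one_comp] at h
  apply EndAV.End.ext
  rw [EndAV.End.toHom_zero, ← cancel_epi q, MonObj.comp_one]
  exact h.symm

end Poly

end Groth.Agent.AVTors2
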