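import Groth.Agent.AVTors2.Quot
import Groth.Agent.AVTors2.FinKer
import Groth.Agent.AbTors.BaseChange
import Groth.Agent.S7782

/-! The reduced identity component of a proper group over a perfect field and the finiteness of its index. -/

set_option backward.isDefEq.respectTransparency false
set_option backward.isDefEq.respectTransparency.types false
set_option linter.style.haveILetI false
set_option maxHeartbeats 1000000

open CategoryTheory AlgebraicGeometry MonoidalCategory CartesianMonoidalCategory MonObj Limits TopologicalSpace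

namespace Groth.Agent.AVTors2

universe u

open Groth.Agent.H23

variable {k : Type u} [Field k]

/-- The reduced identity component, over a perfect field. -/
theorem exists_redComponent' [PerfectField k] (G : Over (Spec (CommRingCat.of k))) [GrpObj G] [IsProper G.hom] :
    ∃ (N : Over (Spec (CommRingCat.of k))) (_ : GrpObj N) (j : N ⟶ G), IsMonHom j ∧
      IsClosedImmersion j.left ∧ IsProper N.hom ∧ GeometricallyIntegral N.hom ∧
      Set.range j.left = connectedComponent (η[G].left (IsLocalRing.closedPoint k)) ∧
      IsOpen (Set.range j.left) := by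
  obtain ⟨G₀, _, i, hi, hci, hfl, hr, hirr, -⟩ := GrpSchLib.exists_identityComponent (G := G)
  have hopen : IsOpen (Set.range i.left) := by
    haveI : IsLocallyNoetherian G.left := LocallyOfFiniteType.isLocallyNoetherian G.hom
    haveI : LocallyOfFinitePresentation i.left := inferInstance
    exact i.left.isOpenMap.isOpen_range
  let R := (Scheme.IdealSheafData.vanishingIdeal (⊤ : Closeds G₀.left))
  let P : Over (Spec (CommRingCat.of k)) := Over.mk (R.subschemeι ≫ G₀.hom)
  let h : P ⟶ G₀ := Over.homMk R.subschemeι rfl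
  have hsurj : Surjective h.left := ⟨fun x => by
    have : x ∈ Set.range R.subschemeι := by rw [RedSub.range_vanishingIdeal]; trivial
    exact this⟩
  haveI : IsClosedImmersion h.left := inferInstanceAs (IsClosedImmersion R.subschemeι)
  haveI : AlgebraicGeometry.IsReduced P.left := RedSub.isReduced_vanishingIdeal _
  haveI : IsProper G₀.hom := by rw [← Over.w i]; infer_instance
  haveI : IsProper P.hom := inferInstanceAs (IsProper (R.subschemeι ≫ G₀.hom))
  haveI : GeometricallyIntegral P.hom := MaxAbelian.geometricallyIntegral_of_pullback _ fun L _ x => by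
    haveI : AlgebraicGeometry.IsReduced (pullback P.hom x) :=
      GrpSchLib.isReduced_pullback_of_perfectField P.hom x
    haveI h0 : IrreducibleSpace (pullback G₀.hom x : Scheme.{u}) :=
      GeometricallyIrreducible.irreducibleSpace_of_subsingleton (pullback.snd G₀.hom x)
    let e : pullback h.left (pullback.fst G₀.hom x) ≅ pullback P.hom x :=
      pullbackRightPullbackFstIso G₀.hom x h.left
    let hL : pullback P.hom x ⟶ pullback G₀.hom x := e.inv ≫ pullback.snd h.left (pullback.fst G₀.hom x)
    haveI : IsClosedImmersion hL := inferInstance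
    haveI : Surjective hL := inferInstance
    haveI : IrreducibleSpace (pullback P.hom x : Scheme.{u}) :=
      (hL.isClosedEmbedding.toIsEmbedding.toHomeomorphOfSurjective hL.surjective).irreducibleSpace_iff.mpr h0
    exact isIntegral_of_irreducibleSpace_of_isReduced _
  have hrange : Set.range (h ≫ i).left = Set.range i.left := by
    rw [Over.comp_left, Scheme.Hom.comp_base, TopCat.coe_comp, Set.range_comp, hsurj.surj.range_eq, Set.image_univ]
  obtain ⟨N, _, j, hj, hjc, hN, hN', hjr⟩ := MaxAbelian.exists_image' (h ≫ i)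
    (by
      rw [hrange, ← IsMonHom.one_hom i, Over.comp_left, Scheme.Hom.comp_base, TopCat.coe_comp]
      exact Set.range_comp_subset_range _ _)
    (by
      rw [hrange, show (fst P P ≫ h ≫ i) * (snd P P ≫ h ≫ i) = ((fst P P ≫ h) * (snd P P ≫ h)) ≫ i by
        rw [MonObj.mul_comp, Category.assoc, Category.assoc], Over.comp_left, Scheme.Hom.comp_base, TopCat.coe_comp]
      exact Set.range_comp_subset_range _ _)
    (by
      rw [hrange, ← GrpObj.inv_comp, Over.comp_left, Scheme.Hom.comp_base, TopCat.coe_comp]
      exact Set.range_comp_subset_range _ _)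
  exact ⟨N, ‹_›, j, hj, hjc, hN, hN', hjr.trans (hrange.trans hr), by rw [hjr, hrange]; exact hopen⟩

/-- A proper group whose unit point is open is finite. -/
theorem isFinite_of_isOpen_unit (Q : Over (Spec (CommRingCat.of k))) [GrpObj Q] [IsProper Q.hom]
    (hopen : IsOpen ({η[Q].left (IsLocalRing.closedPoint k)} : Set Q.left)) : IsFinite Q.hom := by
  let Ω := AlgebraicClosure k
  let f := AbTors.ext k Ω
  let Q' := Red.bc f Q
  haveI : IsProper Q'.hom := inferInstanceAs (IsProper (pullback.snd Q.hom f))
  let π : Q'.left ⟶ Q.left := pullback.fst Q.hom f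
  let T := π ⁻¹' ({η[Q].left (IsLocalRing.closedPoint k)} : Set Q.left)
  have hclosed : IsClosed ({η[Q].left (IsLocalRing.closedPoint k)} : Set Q.left) := by
    haveI : IsClosedImmersion (η[Q].left ≫ Q.hom) := by
      rw [Over.w η[Q]]; exact inferInstanceAs (IsClosedImmersion (𝟙 (Spec (CommRingCat.of k))))
    haveI : IsClosedImmersion η[Q].left := IsClosedImmersion.of_comp η[Q].left Q.hom
    convert η[Q].left.isClosedEmbedding.isClosed_range
    ext x
    exact ⟨fun hx => ⟨IsLocalRing.closedPoint k, hx.symm⟩, fun ⟨y, hy⟩ => by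
      rw [← hy]; exact congrArg η[Q].left (Subsingleton.elim (α := PrimeSpectrum k) _ _)⟩
  have hrange : Set.range η[Q].left = {η[Q].left (IsLocalRing.closedPoint k)} := by
    ext x
    exact ⟨fun ⟨y, hy⟩ => by rw [← hy]; exact congrArg η[Q].left (Subsingleton.elim (α := PrimeSpectrum k) _ _),
      fun hx => ⟨IsLocalRing.closedPoint k, hx.symm⟩⟩
  have hT : T.Subsingleton := by
    let P := pullback η[Q].left π
    haveI : IsIso (pullback.snd (η[Q].left ≫ Q.hom) f) := by
      rw [Over.w η[Q]]; exact inferInstanceAs (IsIso (pullback.snd (𝟙 (Spec (CommRingCat.of k))) f))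
    let e : P ≅ pullback (η[Q].left ≫ Q.hom) f := pullbackRightPullbackFstIso Q.hom f η[Q].left
    let g : P ⟶ Spec (CommRingCat.of Ω) := e.hom ≫ pullback.snd (η[Q].left ≫ Q.hom) f
    haveI : Subsingleton P := (Scheme.Hom.homeomorph g).injective.subsingleton (β := PrimeSpectrum Ω)
    have : T = Set.range (pullback.snd η[Q].left π) := by
      rw [Scheme.Pullback.range_snd, hrange]
    rw [this]
    exact Set.subsingleton_range _
  let e' := η[Q'].left (IsLocalRing.closedPoint Ω)
  have he' : e' ∈ T := by
    show π e' = _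
    have h1 : π e' ∈ Set.range η[Q].left := by
      have hw : η[Q'].left ≫ π = f ≫ η[Q].left := by
        show (Functor.LaxMonoidal.ε (Over.pullback f) ≫ (Over.pullback f).map η[Q]).left ≫ _ = _
        simp [π, Over.ε_pullback_left]
      refine ⟨f (IsLocalRing.closedPoint Ω), ?_⟩
      exact (congrArg (fun g : Spec (CommRingCat.of Ω) ⟶ Q.left => g (IsLocalRing.closedPoint Ω)) hw).symm
    rwa [hrange] at h1
  have hsing : T = {e'} := hT.eq_singleton_of_mem he'
  have hclopen : IsClopen ({e'} : Set Q'.left) := by
    rw [← hsing]; exact ⟨hclosed.preimage π.continuous, hopen.preimage π.continuous⟩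
  haveI : DiscreteTopology Q'.left := discrete_of_component
    (Set.Subset.antisymm (hclopen.connectedComponent_subset rfl) (Set.singleton_subset_iff.2 mem_connectedComponent))
  haveI : CompactSpace Q'.left := QuasiCompact.compactSpace_of_compactSpace Q'.hom
  haveI : Finite Q'.left := finite_of_compact_of_discrete
  haveI : Surjective f := ⟨fun x => ⟨IsLocalRing.closedPoint Ω, Subsingleton.elim (α := PrimeSpectrum k) _ _⟩⟩
  haveI : Surjective π := MorphismProperty.pullback_fst _ _ inferInstance
  haveI : Finite Q.left := Finite.of_surjective π π.surjective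
  haveI : LocallyQuasiFinite Q.hom := .of_finite_preimage_singleton Q.hom fun y => Set.toFinite _
  exact (IsFinite.iff_isProper_and_locallyQuasiFinite (f := Q.hom)).mpr ⟨inferInstance, inferInstance⟩

/-- A proper commutative group is its reduced identity component up to a bounded exponent. -/
theorem exists_kills_mod [PerfectField k] (K : Over (Spec (CommRingCat.of k))) [GrpObj K] [IsCommMonObj K]
    [IsProper K.hom] :
    ∃ (X : Over (Spec (CommRingCat.of k))) (_ : GrpObj X) (j : X ⟶ K) (_ : IsMonHom j),
      IsClosedImmersion j.left ∧ IsProper X.hom ∧ GeometricallyIntegral X.hom ∧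
      ∃ r : ℕ, r ≠ 0 ∧ ∀ (T : Over (Spec (CommRingCat.of k))) (x : T ⟶ K), ∃ y : T ⟶ X, y ≫ j = x ^ r := by
  obtain ⟨X, _, j, hj, hjc, hX, hX', -, hopen⟩ := exists_redComponent' K
  haveI := hj
  haveI := hjc
  have hN : AlgGrp.IsNormalHom j := fun T g n => ⟨n, mul_inv_cancel_comm g (n ≫ j)⟩
  obtain ⟨Q, _, q, _, hs, hfl, hlfp, hQt, hQc, hsep, hker⟩ := AlgGrpH24.exists_quotient_grp j hN
  haveI := hs
  haveI := hfl
  haveI := hlfp
  haveI := hsep
  haveI : QuasiCompact (q.left ≫ Q.hom) := by rw [Over.w q]; infer_instance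
  haveI hqc : QuasiCompact q.left := QuasiCompact.of_comp q.left Q.hom
  haveI : UniversallyClosed Q.hom := by
    haveI : UniversallyClosed (q.left ≫ Q.hom) := by rw [Over.w q]; infer_instance
    exact UniversallyClosed.of_comp_surjective q.left Q.hom
  haveI : IsProper Q.hom := {}
  have hqq : GrpSchLib.IsCover (q ⊗ₘ q) := AlgGrpH24.isCover_tensorHom ⟨hfl, hs, hqc⟩ ⟨hfl, hs, hqc⟩
  haveI : Epi (q ⊗ₘ q) := hqq.epi
  haveI : IsCommMonObj Q := ⟨by
    rw [← cancel_epi (q ⊗ₘ q), BraidedCategory.braiding_naturality_assoc, ← IsMonHom.mul_hom (f := q),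
      IsCommMonObj.mul_comm_assoc]⟩
  have hjq : j ≫ q = toUnit X ≫ η[Q] := hker.w
  have hopenQ : IsOpen ({η[Q].left (IsLocalRing.closedPoint k)} : Set Q.left) := by
    have : ({η[Q].left (IsLocalRing.closedPoint k)} : Set Q.left) = q.left '' Set.range j.left := by
      ext x
      constructor
      · intro hx
        obtain ⟨z⟩ : Nonempty X.left := ⟨η[X].left (IsLocalRing.closedPoint k)⟩
        refine ⟨_, ⟨z, rfl⟩, ?_⟩
        rw [← Scheme.Hom.comp_apply, ← Over.comp_left, hjq, Over.comp_left, Scheme.Hom.comp_apply, hx]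
        exact congrArg η[Q].left (Subsingleton.elim (α := PrimeSpectrum k) _ _)
      · rintro ⟨_, ⟨z, rfl⟩, rfl⟩
        rw [← Scheme.Hom.comp_apply, ← Over.comp_left, hjq, Over.comp_left, Scheme.Hom.comp_apply]
        exact congrArg η[Q].left (Subsingleton.elim (α := PrimeSpectrum k) _ _)
    rw [this]
    exact q.left.isOpenMap _ hopen
  haveI : IsFinite Q.hom := isFinite_of_isOpen_unit Q hopenQ
  haveI : Flat Q.hom := inferInstance
  haveI : LocallyOfFinitePresentation Q.hom := inferInstance
  let y : Spec (CommRingCat.of k) := IsLocalRing.closedPoint k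
  haveI : Surjective Q.hom := ⟨fun z => ⟨η[Q].left y, Subsingleton.elim (α := PrimeSpectrum k) _ _⟩⟩
  have hr0 : Q.hom.finrank y ≠ 0 := by
    have h1 : (1 : ℕ) ≤ Q.hom.finrank y := (Scheme.Hom.one_le_finrank_iff_surjective (f := Q.hom)).2 inferInstance y
    omega
  refine ⟨X, inferInstance, j, inferInstance, hjc, hX, hX', Q.hom.finrank y, hr0, fun T x => ?_⟩
  have h1 := S7782.result Q (Q.hom.finrank y) (fun s => congrArg Q.hom.finrank (Subsingleton.elim (α := PrimeSpectrum k) _ _)) T (x ≫ q)
  refine ⟨hker.lift (x ^ Q.hom.finrank y) (toUnit T) ?_, hker.lift_fst _ _ _⟩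
  rw [MonObj.pow_comp, h1, Hom.one_def]

end Groth.Agent.AVTors2
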