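import Groth.Agent.AVTors2.Card
import Groth.Agent.AVTors2.Tate
import Groth.Agent.S1843
import Groth.Agent.Lib.AVDual
import Mathlib.Algebra.Module.ZMod
import Mathlib.GroupTheory.PGroup
import Mathlib.AlgebraicGeometry.AlgClosed.Basic

/-!
The structure of the torsion of an abelian variety over an algebraically closed field.
-/

set_option autoImplicit false
set_option backward.isDefEq.respectTransparency false
set_option backward.isDefEq.respectTransparency.types false
set_option linter.style.haveILetI false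
set_option linter.unusedSectionVars false
set_option maxHeartbeats 800000

universe u

open CategoryTheory CategoryTheory.Limits MonoidalCategory CartesianMonoidalCategory MonObj AlgebraicGeometry

namespace Groth.Agent.AVTors2

section group

variable {G : Type*} [CommGroup G]

/-- The kernel of a coprime product is the product of the kernels. -/
noncomputable def powKerCoprime {a b : ℕ} (h : a.Coprime b) :
    (powMonoidHom (α := G) (a * b)).ker ≃* (powMonoidHom (α := G) a).ker × (powMonoidHom (α := G) b).ker := by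
  let f : (powMonoidHom (α := G) a).ker × (powMonoidHom (α := G) b).ker →* (powMonoidHom (α := G) (a * b)).ker :=
    { toFun := fun x => ⟨x.1.1 * x.2.1, by
        rw [MonoidHom.mem_ker, powMonoidHom_apply, mul_pow, pow_mul, mul_comm a b, pow_mul,
          show x.1.1 ^ a = 1 from x.1.2, show x.2.1 ^ b = 1 from x.2.2, one_pow, one_pow, _root_.one_mul]⟩
      map_one' := Subtype.ext (_root_.one_mul 1)
      map_mul' := fun x y => Subtype.ext (mul_mul_mul_comm _ _ _ _) }
  refine (MulEquiv.ofBijective f ⟨(injective_iff_map_eq_one f).2 fun x hx => ?_, fun z => ?_⟩).symm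
  · have h0 : x.1.1 * x.2.1 = 1 := congrArg Subtype.val hx
    have h1 : x.1.1 = x.2.1⁻¹ := eq_inv_of_mul_eq_one_left h0
    have h2 : x.1.1 ^ b = 1 := by rw [h1, inv_pow, show x.2.1 ^ b = 1 from x.2.2, inv_one]
    have h3 : x.1.1 ^ (a.gcd b) = 1 := pow_gcd_eq_one.2 ⟨x.1.2, h2⟩
    rw [h.gcd_eq_one, pow_one] at h3
    exact Prod.ext (Subtype.ext h3) (Subtype.ext (by rw [h3, _root_.one_mul] at h0; exact h0))
  · have hz : z.1 ^ ((a : ℤ) * b) = 1 := by rw [← Int.natCast_mul, zpow_natCast]; exact z.2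
    have hbez : (1 : ℤ) = a * a.gcdA b + b * a.gcdB b := by
      rw [← Nat.gcd_eq_gcd_ab, h.gcd_eq_one, Nat.cast_one]
    refine ⟨(⟨z.1 ^ ((b : ℤ) * a.gcdB b), ?_⟩, ⟨z.1 ^ ((a : ℤ) * a.gcdA b), ?_⟩), Subtype.ext ?_⟩
    · rw [MonoidHom.mem_ker, powMonoidHom_apply, ← zpow_natCast, ← zpow_mul,
        show (b : ℤ) * a.gcdB b * a = a * b * a.gcdB b by ring, zpow_mul, hz, one_zpow]
    · rw [MonoidHom.mem_ker, powMonoidHom_apply, ← zpow_natCast, ← zpow_mul,
        show (a : ℤ) * a.gcdA b * b = a * b * a.gcdA b by ring, zpow_mul, hz, one_zpow]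
    · show _ * _ = z.1
      rw [← zpow_add, add_comm, ← hbez, zpow_one]

theorem finite_and_card_powKer_le (p c : ℕ) [Finite (powMonoidHom (α := G) p).ker]
    (hc : Nat.card (powMonoidHom (α := G) p).ker ≤ c) :
    ∀ m : ℕ, Finite (powMonoidHom (α := G) (p ^ m)).ker ∧ Nat.card (powMonoidHom (α := G) (p ^ m)).ker ≤ c ^ m := by
  intro m
  induction m with
  | zero =>
    haveI : Subsingleton (powMonoidHom (α := G) (p ^ 0)).ker :=
      ⟨fun x y => Subtype.ext (((pow_one x.1).symm.trans x.2).trans ((pow_one y.1).symm.trans y.2).symm)⟩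
    exact ⟨inferInstance, (Finite.card_le_one_iff_subsingleton.2 inferInstance).trans_eq (pow_zero c).symm⟩
  | succ m ih =>
    obtain ⟨hfin, hle⟩ := ih
    let f : (powMonoidHom (α := G) (p ^ (m + 1))).ker →* (powMonoidHom (α := G) (p ^ m)).ker :=
      MonoidHom.mk' (fun x => ⟨x.1 ^ p, by
        rw [MonoidHom.mem_ker, powMonoidHom_apply, ← pow_mul, ← pow_succ']; exact x.2⟩)
        fun x y => Subtype.ext (mul_pow _ _ _)
    let i : f.ker → (powMonoidHom (α := G) p).ker := fun x => ⟨x.1.1, congrArg Subtype.val x.2⟩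
    have hi : Function.Injective i := fun x y h => Subtype.ext (Subtype.ext (congrArg (fun z : (powMonoidHom (α := G) p).ker => z.1) h))
    haveI : Finite f.ker := Finite.of_injective i hi
    haveI : Finite ((powMonoidHom (α := G) (p ^ (m + 1))).ker ⧸ f.ker) :=
      Finite.of_injective _ (QuotientGroup.kerLift_injective f)
    haveI : Finite (powMonoidHom (α := G) (p ^ (m + 1))).ker := Finite.of_subgroup_quotient f.ker
    refine ⟨inferInstance, ?_⟩
    rw [f.ker.card_eq_card_quotient_mul_card_subgroup, pow_succ c m]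
    exact Nat.mul_le_mul ((Nat.card_le_card_of_injective _ (QuotientGroup.kerLift_injective f)).trans hle)
      ((Nat.card_le_card_of_injective i hi).trans hc)

theorem nonempty_equiv_of_generators {G : Type*} [AddCommGroup G] [Finite G] {N r : ℕ} [NeZero N]
    (e : Fin r → G) (hN : ∀ x : G, N • x = 0) (hgen : ∀ z : G, ∃ c : Fin r → ℕ, z = ∑ i, c i • e i)
    (hcard : Nat.card G = N ^ r) : Nonempty (G ≃+ (Fin r → ZMod N)) := by
  let L : Fin r → (ZMod N →+ G) := fun i =>
    ZMod.lift N ⟨zmultiplesHom G (e i), by rw [zmultiplesHom_apply, natCast_zsmul, hN]⟩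
  let f : (Fin r → ZMod N) →+ G := ∑ i, (L i).comp (Pi.evalAddMonoidHom (fun _ => ZMod N) i)
  have hf : ∀ c : Fin r → ℕ, f (fun i => (c i : ZMod N)) = ∑ i, c i • e i := fun c => by
    simp only [f, AddMonoidHom.finsetSum_apply, AddMonoidHom.comp_apply, Pi.evalAddMonoidHom_apply]
    refine Finset.sum_congr rfl fun i _ => ?_
    rw [← Int.cast_natCast, ZMod.lift_coe]
    exact natCast_zsmul (e i) (c i)
  have hsurj : Function.Surjective f.toFun := fun z => by
    obtain ⟨c, rfl⟩ := hgen z
    exact ⟨_, hf c⟩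
  have hbij : Function.Bijective f.toFun := by
    refine (Nat.bijective_iff_surjective_and_card _).2 ⟨hsurj, ?_⟩
    rw [Nat.card_fun, Nat.card_zmod, Nat.card_eq_fintype_card, Fintype.card_fin]
    exact hcard.symm
  exact ⟨(AddEquiv.ofBijective f hbij).symm⟩

end group

variable {k : Type u} [Field k] {A : Over (Spec (CommRingCat.of k))} [GrpObj A] [IsCommMonObj A]
  [IsProper A.hom] [GeometricallyIntegral A.hom]

/-- In characteristic `p` there are at most `p^g` rational `p`-torsion points. -/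
theorem card_torsPts_char_le [IsAlgClosed k] (p : ℕ) [Fact p.Prime] [CharP k p] {g : ℕ}
    (hg : topologicalKrullDim A.left = g) :
    Finite (AbDual.torsPts A p (𝟙_ (Over (Spec (CommRingCat.of k))))) ∧
      Nat.card (AbDual.torsPts A p (𝟙_ (Over (Spec (CommRingCat.of k))))) ≤ p ^ g := by
  let S : Set A.left := {a : A.left | (𝟙 A ^ p).left a = η[A].left (IsLocalRing.closedPoint k)}
  have hS : S.encard ≤ (p ^ g : ℕ) := S1843.result k p A g hg
  let f : AbDual.torsPts A p (𝟙_ (Over (Spec (CommRingCat.of k)))) → S := fun a =>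
    ⟨a.1.left (IsLocalRing.closedPoint k), by
      have h : a.1 ≫ (𝟙 A ^ p) = η[A] := by
        rw [MonObj.comp_pow, Category.comp_id, show a.1 ^ p = 1 from a.2]
        exact (congrArg (· ≫ η[A]) (Subsingleton.elim (toUnit _) (𝟙 _))).trans (Category.id_comp _)
      show (𝟙 A ^ p : A ⟶ A).left (a.1.left _) = _
      rw [← Scheme.Hom.comp_apply]
      exact congrArg (fun q : 𝟙_ (Over (Spec (CommRingCat.of k))) ⟶ A => q.left (IsLocalRing.closedPoint k)) h⟩
  have hf : Function.Injective f := fun a b h => Subtype.ext (Over.OverMorphism.ext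
    (ext_of_apply_closedPoint_eq A.hom (Over.w a.1) (Over.w b.1) (congrArg Subtype.val h)))
  have hSfin : S.Finite := Set.finite_of_encard_le_coe hS
  haveI : Finite S := hSfin.to_subtype
  refine ⟨Finite.of_injective f hf, (Nat.card_le_card_of_injective f hf).trans ?_⟩
  rw [← ENat.coe_le_coe]
  exact le_trans (le_of_eq (by rw [Set.encard, ENat.card_eq_coe_natCard])) hS

section struct

variable {T : Over (Spec (CommRingCat.of k))} {r : ℕ}

theorem powKer_eq (m : ℕ) : (powMonoidHom (α := T ⟶ A) m).ker = AbDual.torsPts A m T :=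
  Subgroup.ext fun _ => Iff.rfl

theorem nonempty_torsCoprime {a b : ℕ} (hab : a.Coprime b) :
    Nonempty (AbDual.torsPts A (a * b) T ≃* AbDual.torsPts A a T × AbDual.torsPts A b T) :=
  ⟨powKerCoprime (G := T ⟶ A) hab⟩

theorem nonempty_equiv_prime_pow {l : ℕ} [Fact l.Prime]
    (hc : ∀ n : ℕ, Nat.card (AbDual.torsPts A (l ^ n) T) = (l ^ n) ^ r) (m : ℕ) :
    Nonempty (AbDual.torsPts A (l ^ m) T ≃* Multiplicative (Fin r → ZMod (l ^ m))) := by
  classical
  obtain ⟨hF, hFr⟩ := finite_free (A := A) (T := T) (l := l) (by simpa using finite_tors hc 1)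
  haveI := finite_tors hc m
  haveI : NeZero (l ^ m) := ⟨pow_ne_zero _ (Fact.out : l.Prime).ne_zero⟩
  let b := Module.finBasisOfFinrankEq ℤ_[l] (AbDual.TateMod A l T) (finrank_eq hc)
  have hT : ∀ x : T ⟶ A, x ∈ AbDual.torsPts A (l ^ m) T → x ^ (l ^ m) = 1 := fun x hx => hx
  obtain ⟨E⟩ := nonempty_equiv_of_generators (G := Additive (AbDual.torsPts A (l ^ m) T)) (N := l ^ m) (r := r)
    (fun i => Additive.ofMul ⟨(cp m (b i)).toMul, AbDual.TateMod.component_mem _ m⟩)
    (fun x => Additive.toMul.injective (Subtype.ext (hT _ (Additive.toMul x).2)))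
    (fun z => by
      obtain ⟨x, hx⟩ := exists_component hc m (Additive.toMul z).2
      refine ⟨fun i => (b.repr x i).appr m, ?_⟩
      let val : Additive (AbDual.torsPts A (l ^ m) T) →+ Additive (T ⟶ A) :=
        MonoidHom.toAdditive (AbDual.torsPts A (l ^ m) T).subtype
      refine Additive.toMul.injective (Subtype.ext ?_)
      rw [← hx]
      show Additive.toMul (cp m x) = Additive.toMul (val _)
      refine congrArg Additive.toMul ?_
      conv_lhs => rw [← b.sum_repr x]
      rw [map_sum, map_sum]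
      refine Finset.sum_congr rfl fun i _ => ?_
      rw [map_nsmul]
      exact AbDual.smul_component _ _ m)
    (hc m)
  exact ⟨AddEquiv.toMultiplicativeRight E⟩

theorem nonempty_equiv (n : ℕ) (hn : 0 < n) (hc : ∀ d, d ∣ n → Nat.card (AbDual.torsPts A d T) = d ^ r)
    (hpp : ∀ l : ℕ, l.Prime → l ∣ n → ∀ i, Nat.card (AbDual.torsPts A (l ^ i) T) = (l ^ i) ^ r) :
    Nonempty (AbDual.torsPts A n T ≃* Multiplicative (Fin r → ZMod n)) := by
  induction n using Nat.recOnPosPrimePosCoprime with
  | prime_pow p i hp hi =>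
    haveI := Fact.mk hp
    exact nonempty_equiv_prime_pow (hpp p hp (dvd_pow_self _ hi.ne')) i
  | zero => omega
  | one =>
    haveI : Subsingleton (AbDual.torsPts A 1 T) :=
      ⟨fun x y => Subtype.ext (((pow_one x.1).symm.trans x.2).trans ((pow_one y.1).symm.trans y.2).symm)⟩
    haveI : Unique (AbDual.torsPts A 1 T) := uniqueOfSubsingleton 1
    exact ⟨MulEquiv.ofUnique⟩
  | coprime a b ha hb hab iha ihb =>
    obtain ⟨ea⟩ := iha (by omega) (fun d hd => hc d (hd.trans (dvd_mul_right a b)))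
      (fun l hl h => hpp l hl (h.trans (dvd_mul_right a b)))
    obtain ⟨eb⟩ := ihb (by omega) (fun d hd => hc d (hd.trans (dvd_mul_left b a)))
      (fun l hl h => hpp l hl (h.trans (dvd_mul_left b a)))
    let c : ZMod (a * b) ≃+ ZMod a × ZMod b := (ZMod.chineseRemainder hab).toAddEquiv
    let c' : (Fin r → ZMod (a * b)) ≃+ (Fin r → ZMod a) × (Fin r → ZMod b) :=
      (AddEquiv.piCongrRight fun _ => c).trans
        { toFun := fun f => (fun i => (f i).1, fun i => (f i).2)
          invFun := fun f i => (f.1 i, f.2 i)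
          left_inv := fun f => rfl
          right_inv := fun f => rfl
          map_add' := fun f g => rfl }
    obtain ⟨e1⟩ := nonempty_torsCoprime (A := A) (T := T) hab
    exact ⟨(e1.trans (ea.prodCongr eb)).trans
      ((MulEquiv.prodMultiplicative (Fin r → ZMod a) (Fin r → ZMod b)).symm.trans c'.symm.toMultiplicative)⟩

end struct

/-- The count of rational torsion in every characteristic. -/
theorem card_torsPts_dvd [IsAlgClosed k] {g : ℕ} (hg : topologicalKrullDim A.left = g) (hg0 : 0 < g) {n : ℕ}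
    (hn : 0 < n) :
    Nat.card (AbDual.torsPts A n (𝟙_ (Over (Spec (CommRingCat.of k))))) ∣ n ^ (2 * g) ∧
      (Nat.card (AbDual.torsPts A n (𝟙_ (Over (Spec (CommRingCat.of k))))) = n ^ (2 * g) ↔ (n : k) ≠ 0) := by
  have hcard : ∀ m : ℕ, (m : k) ≠ 0 →
      Nat.card (AbDual.torsPts A m (𝟙_ (Over (Spec (CommRingCat.of k))))) = m ^ (2 * g) :=
    fun m hm => card_torsPts_self hg hm
  by_cases hnk : (n : k) = 0
  swap
  · exact ⟨(hcard n hnk).dvd, by simp [hcard n hnk, hnk]⟩
  obtain ⟨p, hp⟩ := CharP.exists k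
  have hp0 : p ≠ 0 := by
    rintro rfl
    have := CharP.charP_to_charZero k
    exact absurd (Nat.cast_eq_zero.1 hnk) hn.ne'
  haveI := Fact.mk ((CharP.char_is_prime_or_zero k p).resolve_right hp0)
  have hpp : p.Prime := Fact.out
  obtain ⟨i, m, hm, rfl⟩ := Nat.exists_eq_pow_mul_and_not_dvd hn.ne' p hpp.ne_one
  have hmk : (m : k) ≠ 0 := fun h => hm ((CharP.cast_eq_zero_iff k p m).1 h)
  have hi : i ≠ 0 := by rintro rfl; exact hmk (by simpa using hnk)
  obtain ⟨hfin1, hle1⟩ := card_torsPts_char_le (A := A) p hg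
  rw [← powKer_eq] at hfin1 hle1
  obtain ⟨hfinP, hleP⟩ := finite_and_card_powKer_le (G := 𝟙_ (Over (Spec (CommRingCat.of k))) ⟶ A) p _ hle1 i
  have hpg : IsPGroup p (powMonoidHom (α := 𝟙_ (Over (Spec (CommRingCat.of k))) ⟶ A) (p ^ i)).ker :=
    fun x => ⟨i, Subtype.ext x.2⟩
  obtain ⟨j, hj⟩ := IsPGroup.iff_card.1 hpg
  rw [hj, ← pow_mul] at hleP
  have hji : j ≤ g * i := (Nat.pow_le_pow_iff_right hpp.one_lt).1 hleP
  have htot : Nat.card (AbDual.torsPts A (p ^ i * m) (𝟙_ (Over (Spec (CommRingCat.of k))))) =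
      p ^ j * m ^ (2 * g) := by
    rw [← powKer_eq, Nat.card_congr (powKerCoprime (((hpp.coprime_iff_not_dvd).2 hm).pow_left i)).toEquiv,
      Nat.card_prod, hj, powKer_eq, hcard m hmk]
  rw [htot, mul_pow, ← pow_mul]
  have hlt : j < i * (2 * g) := lt_of_le_of_lt hji (by
    rw [mul_comm g i]; exact Nat.mul_lt_mul_of_pos_left (by omega) (Nat.pos_of_ne_zero hi))
  refine ⟨Nat.mul_dvd_mul_right (pow_dvd_pow _ hlt.le) _, ⟨fun h => ?_, fun h => absurd hnk h⟩⟩
  have := Nat.pow_right_injective hpp.two_le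
    (Nat.eq_of_mul_eq_mul_right (pow_pos (Nat.pos_of_ne_zero fun h0 : m = 0 => hmk (by simp [h0])) _) h)
  omega

end Groth.Agent.AVTors2
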