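import Mathlib.Analysis.SpecialFunctions.Log.Basic
import Mathlib.Analysis.Complex.Polynomial.Basic
import Mathlib.Analysis.Polynomial.Basic
import Mathlib.RingTheory.IntegralClosure.IntegrallyClosed
import Mathlib.RingTheory.Polynomial.RationalRoot
import Mathlib.Algebra.Polynomial.Roots

/-! Integer polynomials all of whose roots have absolute value `√q`. -/

set_option autoImplicit false
set_option linter.unusedSectionVars false

open Polynomial ComplexConjugate

namespace Groth.Agent.AVTors2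

variable {P : ℤ[X]} {g q : ℕ}

/-- Standing hypotheses: monic of degree `2g`, non-negative at `0`, roots of absolute value `√q`. -/
structure IsWeilPoly (P : ℤ[X]) (g q : ℕ) : Prop where
  monic : P.Monic
  deg : P.natDegree = 2 * g
  nonneg : 0 ≤ P.eval 0
  qpos : 0 < q
  norm : ∀ ω ∈ (P.map (Int.castRingHom ℂ)).roots, ‖ω‖ = Real.sqrt q

namespace IsWeilPoly

variable (h : IsWeilPoly P g q)
include h

theorem card_roots : (P.map (Int.castRingHom ℂ)).roots.card = 2 * g := by
  rw [← (IsAlgClosed.splits _).natDegree_eq_card_roots, h.monic.natDegree_map, h.deg]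

theorem mul_conj {α : ℂ} (hα : α ∈ (P.map (Int.castRingHom ℂ)).roots) : α * conj α = (q : ℂ) := by
  rw [Complex.mul_conj, Complex.normSq_eq_norm_sq, h.norm α hα, Real.sq_sqrt (Nat.cast_nonneg q)]
  simp

theorem ne_zero {α : ℂ} (hα : α ∈ (P.map (Int.castRingHom ℂ)).roots) : α ≠ 0 := fun h0 => by
  have := h.mul_conj hα
  rw [h0, zero_mul, eq_comm, Nat.cast_eq_zero] at this
  exact h.qpos.ne' this

theorem prod_eq_eval_zero : (P.map (Int.castRingHom ℂ)).roots.prod = ((P.eval 0 : ℤ) : ℂ) := by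
  have h1 := (IsAlgClosed.splits (P.map (Int.castRingHom ℂ))).coeff_zero_eq_prod_roots_of_monic (h.monic.map _)
  rw [h.monic.natDegree_map, h.deg, pow_mul, neg_one_sq, one_pow, one_mul, coeff_map] at h1
  rw [← h1, ← coeff_zero_eq_eval_zero]
  rfl

theorem eval_zero : P.eval 0 = (q : ℤ) ^ g := by
  have h1 : ‖(P.map (Int.castRingHom ℂ)).roots.prod‖ = (q : ℝ) ^ g := by
    have e : ∀ s : Multiset ℂ, (∀ ω ∈ s, ‖ω‖ = Real.sqrt q) → ‖s.prod‖ = Real.sqrt q ^ s.card := fun s hs => by
      induction s using Multiset.induction_on with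
      | empty => simp
      | cons a s ih =>
        rw [Multiset.prod_cons, norm_mul, ih fun b hb => hs b (Multiset.mem_cons_of_mem hb),
          hs a (Multiset.mem_cons_self a s), Multiset.card_cons, pow_succ']
    rw [e _ h.norm, h.card_roots, pow_mul, Real.sq_sqrt (Nat.cast_nonneg q)]
  rw [h.prod_eq_eval_zero, Complex.norm_intCast, abs_of_nonneg (by exact_mod_cast h.nonneg)] at h1
  exact_mod_cast h1

theorem isIntegral_root {α : ℂ} (hα : α ∈ (P.map (Int.castRingHom ℂ)).roots) : IsIntegral ℤ α := by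
  refine ⟨P, h.monic, ?_⟩
  have := Polynomial.isRoot_of_mem_roots hα
  rwa [IsRoot.def, eval_map] at this

theorem conj_mem {α : ℂ} (hα : α ∈ (P.map (Int.castRingHom ℂ)).roots) :
    conj α ∈ (P.map (Int.castRingHom ℂ)).roots := by
  rw [mem_roots (h.monic.map _).ne_zero, IsRoot.def, eval_map] at hα ⊢
  have := congrArg (starRingEnd ℂ) hα
  rwa [hom_eval₂, map_zero, show (starRingEnd ℂ).comp (Int.castRingHom ℂ) = Int.castRingHom ℂ from
    RingHom.ext_int _ _] at this

theorem map_conj : (P.map (Int.castRingHom ℂ)).roots.map (starRingEnd ℂ) = (P.map (Int.castRingHom ℂ)).roots := by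
  rw [← (IsAlgClosed.splits (P.map (Int.castRingHom ℂ))).roots_map, Polynomial.map_map]
  exact congrArg (fun f => (P.map f).roots) (RingHom.ext_int _ _)

theorem re_sum : ((P.map (Int.castRingHom ℂ)).roots.map Complex.re).sum = -(P.nextCoeff : ℝ) := by
  have h1 := (IsAlgClosed.splits (P.map (Int.castRingHom ℂ))).nextCoeff_eq_neg_sum_roots_of_monic (h.monic.map _)
  rw [nextCoeff_map Int.cast_injective] at h1
  have h2 := congrArg Complex.re h1
  rw [show (Int.castRingHom ℂ) P.nextCoeff = ((P.nextCoeff : ℤ) : ℂ) from rfl, Complex.intCast_re, Complex.neg_re] at h2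
  rw [h2, neg_neg]
  exact (map_multiset_sum Complex.reAddGroupHom _).symm

end IsWeilPoly

theorem log_prod_le (s : Multiset ℝ) (hs : ∀ y ∈ s, 0 < y) :
    Real.log s.prod ≤ (s.map fun y => y - 1).sum ∧
      (Real.log s.prod = (s.map fun y => y - 1).sum → ∀ y ∈ s, y = 1) := by
  induction s using Multiset.induction_on with
  | empty => simp
  | cons a s ih =>
    obtain ⟨h1, h2⟩ := ih fun b hb => hs b (Multiset.mem_cons_of_mem hb)
    have ha := hs a (Multiset.mem_cons_self a s)
    have hp : (0 : ℝ) < s.prod := Multiset.prod_induction (fun x : ℝ => 0 < x) s (fun _ _ => mul_pos) one_pos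
      fun b hb => hs b (Multiset.mem_cons_of_mem hb)
    rw [Multiset.prod_cons, Real.log_mul ha.ne' hp.ne', Multiset.map_cons, Multiset.sum_cons]
    have h3 := Real.log_le_sub_one_of_pos ha
    refine ⟨add_le_add h3 h1, fun e y hy => ?_⟩
    rcases Multiset.mem_cons.1 hy with rfl | hy
    · by_contra hne
      linarith [Real.log_lt_sub_one_of_pos ha hne]
    · exact h2 (by linarith) y hy

/-- `∏ (c - ε (α + q/α))` over the roots is rational. -/
theorem prod_quadratic_int (hP : P.Monic) (hd : Even P.natDegree) (b : ℤ) (q : ℕ) :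
    ∃ N : ℤ, ((P.map (Int.castRingHom ℂ)).roots.map fun α => α ^ 2 - (b : ℂ) * α + (q : ℂ)).prod = (N : ℂ) := by
  set Q : ℤ[X] := X ^ 2 - C b * X + C (q : ℤ) with hQ
  have hQm : Q.Monic := by
    rw [hQ]
    monicity!
  obtain ⟨s, hs⟩ := IsAlgClosed.exists_eq_mul_self ((b : ℂ) ^ 2 - 4 * (q : ℂ))
  set β₁ : ℂ := ((b : ℂ) + s) / 2
  set β₂ : ℂ := ((b : ℂ) - s) / 2
  have hsum : β₁ + β₂ = b := by simp only [β₁, β₂]; ring
  have hmul : β₁ * β₂ = (q : ℂ) := by
    have : s * s = (b : ℂ) ^ 2 - 4 * (q : ℂ) := hs.symm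
    simp only [β₁, β₂]
    linear_combination (-1 / 4 : ℂ) * this
  have hfac : ∀ α : ℂ, α ^ 2 - (b : ℂ) * α + (q : ℂ) = (β₁ - α) * (β₂ - α) := fun α => by
    rw [← hsum, ← hmul]
    ring
  have hev : ∀ β : ℂ, ((P.map (Int.castRingHom ℂ)).roots.map fun α => β - α).prod = eval₂ (Int.castRingHom ℂ) β P := fun β => by
    conv_rhs => rw [← eval_map, (IsAlgClosed.splits (P.map (Int.castRingHom ℂ))).eq_prod_roots_of_monic (hP.map _)]
    rw [eval_multiset_prod, Multiset.map_map]
    exact congrArg _ (Multiset.map_congr rfl fun α _ => by simp)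
  simp only [hfac]
  rw [Multiset.prod_map_mul, hev, hev]
  have hdeg : (P %ₘ Q).degree ≤ 1 := by
    have h2 : Q.natDegree = 2 := by
      rw [hQ]
      compute_degree!
    have h1 := natDegree_modByMonic_lt P hQm (fun e => by simp [e] at h2)
    exact_mod_cast degree_le_of_natDegree_le (n := 1) (by omega)
  set a₁ := (P %ₘ Q).coeff 1
  set a₀ := (P %ₘ Q).coeff 0
  have hrem : ∀ β : ℂ, β ^ 2 - (b : ℂ) * β + (q : ℂ) = 0 →
      eval₂ (Int.castRingHom ℂ) β P = (a₁ : ℂ) * β + (a₀ : ℂ) := fun β hβ => by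
    conv_lhs => rw [← modByMonic_add_div P Q, eq_X_add_C_of_degree_le_one hdeg]
    rw [eval₂_add, eval₂_mul, show eval₂ (Int.castRingHom ℂ) β Q = 0 by
      rw [hQ]; simp only [eval₂_add, eval₂_sub, eval₂_mul, eval₂_pow, eval₂_X, eval₂_C, Int.coe_castRingHom, Int.cast_natCast]; exact hβ, zero_mul, add_zero]
    simp only [eval₂_add, eval₂_mul, eval₂_C, eval₂_X]
    rfl
  refine ⟨a₁ ^ 2 * q + a₁ * a₀ * b + a₀ ^ 2, ?_⟩
  rw [hrem β₁ (by rw [hfac]; ring), hrem β₂ (by rw [hfac]; ring)]
  push_cast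
  rw [← hsum, ← hmul]
  ring

namespace IsWeilPoly

variable (h : IsWeilPoly P g q)
include h

/-- Serre's bound, with the case of equality. -/
theorem serre_bound (ε : ℤ) (hε : ε = 1 ∨ ε = -1) :
    -((ε : ℝ) * (P.nextCoeff : ℝ)) ≤ (g : ℝ) * (⌊2 * Real.sqrt q⌋ : ℝ) ∧
      (-((ε : ℝ) * (P.nextCoeff : ℝ)) = (g : ℝ) * (⌊2 * Real.sqrt q⌋ : ℝ) →
        ∀ α ∈ (P.map (Int.castRingHom ℂ)).roots,
          α ^ 2 - ((ε * ⌊2 * Real.sqrt q⌋ : ℤ) : ℂ) * α + (q : ℂ) = 0) := by
  set m := ⌊2 * Real.sqrt q⌋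
  set R := (P.map (Int.castRingHom ℂ)).roots
  let y : ℂ → ℝ := fun α => (m : ℝ) + 1 - (ε : ℝ) * (2 * α.re)
  have hεsq : ε * ε = 1 := by rcases hε with rfl | rfl <;> norm_num
  have hpos : ∀ α ∈ R, 0 < y α := fun α hα => by
    have h1 : |α.re| ≤ Real.sqrt q := h.norm α hα ▸ Complex.abs_re_le_norm α
    have h2 : 2 * Real.sqrt q < (m : ℝ) + 1 := Int.lt_floor_add_one _
    have h3 := abs_le.1 h1
    rcases hε with rfl | rfl <;> simp only [y] <;> push_cast <;> linarith
  have hy : ∀ α ∈ R, ((y α : ℝ) : ℂ) = ((m + 1 : ℤ) : ℂ) - (ε : ℂ) * (α + conj α) := fun α _ => by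
    rw [Complex.add_conj]
    simp [y]
  have hy' : ∀ α ∈ R, α * ((y α : ℝ) : ℂ) = -(ε : ℂ) * (α ^ 2 - ((ε * (m + 1) : ℤ) : ℂ) * α + (q : ℂ)) := fun α hα => by
    have h1 : ((ε : ℂ) * (ε : ℂ)) = 1 := by exact_mod_cast hεsq
    rw [hy α hα, ← h.mul_conj hα]
    push_cast
    linear_combination -(((m : ℂ) + 1) * α) * h1
  -- the product is a positive integer
  set ys := R.map y with hys
  have hint : IsIntegral ℤ ((ys.prod : ℝ) : ℂ) := by
    rw [show ((ys.prod : ℝ) : ℂ) = (R.map fun α => ((y α : ℝ) : ℂ)).prod by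
      rw [← Complex.ofRealHom_eq_coe, map_multiset_prod, hys, Multiset.map_map]; rfl]
    refine IsIntegral.multiset_prod fun z hz => ?_
    obtain ⟨α, hα, rfl⟩ := Multiset.mem_map.1 hz
    rw [hy α hα]
    exact (isIntegral_algebraMap (x := (m + 1 : ℤ))).sub
      ((isIntegral_algebraMap (x := ε)).mul ((h.isIntegral_root hα).add (h.isIntegral_root (h.conj_mem hα))))
  obtain ⟨N, hN⟩ := prod_quadratic_int h.monic (by rw [h.deg]; exact even_two_mul g) (ε * (m + 1)) q
  have hprod : ((P.eval 0 : ℤ) : ℂ) * ((ys.prod : ℝ) : ℂ) = (-(ε : ℂ)) ^ (2 * g) * (N : ℂ) := by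
    rw [show ((ys.prod : ℝ) : ℂ) = (R.map fun α => ((y α : ℝ) : ℂ)).prod by
      rw [← Complex.ofRealHom_eq_coe, map_multiset_prod, hys, Multiset.map_map]; rfl, ← h.prod_eq_eval_zero, ← hN]
    conv_lhs => arg 1; rw [← Multiset.map_id' (P.map (Int.castRingHom ℂ)).roots]
    rw [← Multiset.prod_map_mul, Multiset.map_congr rfl hy', Multiset.prod_map_mul, Multiset.map_const',
      Multiset.prod_replicate, h.card_roots]
  have h0 : (P.eval 0 : ℤ) ≠ 0 := by
    rw [h.eval_zero]
    exact pow_ne_zero _ (Nat.cast_ne_zero.2 h.qpos.ne')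
  have hrat : ((ys.prod : ℝ) : ℂ) = algebraMap ℚ ℂ ((((-ε) ^ (2 * g) * N : ℤ) : ℚ) / ((P.eval 0 : ℤ) : ℚ)) := by
    rw [map_div₀, map_intCast, map_intCast, eq_div_iff (Int.cast_ne_zero.2 h0), mul_comm, hprod]
    push_cast
    rfl
  have hge : 1 ≤ ys.prod := by
    rw [hrat, isIntegral_algebraMap_iff (algebraMap ℚ ℂ).injective] at hint
    obtain ⟨z, hz⟩ := IsIntegrallyClosed.isIntegral_iff.1 hint
    rw [← hz, ← IsScalarTower.algebraMap_apply ℤ ℚ ℂ, eq_intCast] at hrat
    have h1 : ys.prod = (z : ℝ) := by exact_mod_cast hrat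
    have h2 : 0 < ys.prod := Multiset.prod_induction (fun x : ℝ => 0 < x) ys (fun _ _ => mul_pos) one_pos fun b hb => by
      obtain ⟨α, hα, rfl⟩ := Multiset.mem_map.1 hb
      exact hpos α hα
    rw [h1] at h2 ⊢
    have : 0 < z := by exact_mod_cast h2
    exact_mod_cast this
  have hposy : ∀ b ∈ ys, 0 < b := fun b hb => by
    obtain ⟨α, hα, rfl⟩ := Multiset.mem_map.1 hb
    exact hpos α hα
  obtain ⟨hle, heq⟩ := log_prod_le ys hposy
  have hlog := Real.log_nonneg hge
  have hsum : (ys.map fun b => b - 1).sum = 2 * ((g : ℝ) * m + (ε : ℝ) * (P.nextCoeff : ℝ)) := by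
    rw [Multiset.map_map, show (fun b : ℝ => b - 1) ∘ y = fun α => (m : ℝ) - (2 * (ε : ℝ)) * α.re from
      funext fun α => by simp [y]; ring, Multiset.sum_map_sub, Multiset.map_const', Multiset.sum_replicate,
      Multiset.sum_map_mul_left, h.re_sum, h.card_roots, nsmul_eq_mul]
    push_cast
    ring
  refine ⟨by linarith, fun he α hα => ?_⟩
  have h1 : y α = 1 := heq (by linarith) (y α) (Multiset.mem_map_of_mem y hα)
  have h2 := hy' α hα
  rw [h1, Complex.ofReal_one, mul_one] at h2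
  have h3 : (ε : ℂ) * (ε : ℂ) = 1 := by exact_mod_cast hεsq
  push_cast at h2 ⊢
  linear_combination (ε : ℂ) * h2 - (α ^ 2 - (ε : ℂ) * (m : ℂ) * α + (q : ℂ) - (ε : ℂ) * α) * h3

theorem abs_nextCoeff_le : |(P.nextCoeff : ℝ)| ≤ (g : ℝ) * (⌊2 * Real.sqrt q⌋ : ℝ) := by
  have h1 := (h.serre_bound 1 (Or.inl rfl)).1
  have h2 := (h.serre_bound (-1) (Or.inr rfl)).1
  push_cast at h1 h2
  rw [abs_le]
  constructor <;> linarith

theorem eq_quadratic_pow {b : ℤ} (hb : (b : ℝ) ^ 2 ≤ 4 * q)
    (hroot : ∀ α ∈ (P.map (Int.castRingHom ℂ)).roots, α ^ 2 - (b : ℂ) * α + (q : ℂ) = 0) :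
    P = (X ^ 2 - C b * X + C (q : ℤ)) ^ g := by
  set R := (P.map (Int.castRingHom ℂ)).roots with hR
  refine Polynomial.map_injective (Int.castRingHom ℂ) Int.cast_injective ?_
  set β : ℂ := ⟨(b : ℝ) / 2, Real.sqrt ((q : ℝ) - (b : ℝ) ^ 2 / 4)⟩
  have hβsum : β + conj β = (b : ℂ) := by
    rw [Complex.add_conj]
    simp [β]
    ring
  have hβmul : β * conj β = (q : ℂ) := by
    rw [Complex.mul_conj, Complex.normSq_apply]
    simp only [β]
    rw [Real.mul_self_sqrt (by linarith)]
    have e : ∀ x y : ℝ, x / 2 * (x / 2) + (y - x ^ 2 / 4) = y := fun x y => by ring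
    rw [e]
    simp
  have hfac : ∀ α : ℂ, α ^ 2 - (b : ℂ) * α + (q : ℂ) = (α - β) * (α - conj β) := fun α => by
    rw [← hβsum, ← hβmul]
    ring
  have hmem : ∀ α ∈ R, α = β ∨ α = conj β := fun α hα => by
    have := hroot α hα
    rw [hfac, mul_eq_zero, sub_eq_zero, sub_eq_zero] at this
    exact this
  have hrhs : ((X ^ 2 - C b * X + C (q : ℤ)) ^ g).map (Int.castRingHom ℂ) = ((X - C β) * (X - C (conj β))) ^ g := by
    rw [Polynomial.map_pow]
    congr 1
    refine Polynomial.funext fun α => ?_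
    simp [hfac]
  rw [hrhs, (IsAlgClosed.splits (P.map (Int.castRingHom ℂ))).eq_prod_roots_of_monic (h.monic.map _), ← hR]
  have hcnt : R.count (conj β) = R.count β := by
    conv_lhs => rw [hR, ← h.map_conj]
    exact Multiset.count_map_eq_count' _ _ (starRingEnd ℂ).injective _
  have hval : R = g • ({β, conj β} : Multiset ℂ) := by
    by_cases hreal : conj β = β
    · have hall : ∀ α ∈ R, α = β := fun α hα => (hmem α hα).elim id fun e => e.trans hreal
      rw [Multiset.eq_replicate_card.2 hall, h.card_roots, hreal,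
        show ({β, β} : Multiset ℂ) = Multiset.replicate 2 β from rfl, Multiset.nsmul_replicate, mul_comm]
    · have hsplit : R = Multiset.replicate (R.count β) β + Multiset.replicate (R.count (conj β)) (conj β) := by
        ext α
        rw [Multiset.count_add, Multiset.count_replicate, Multiset.count_replicate]
        by_cases h1 : α = β
        · subst h1
          rw [if_pos rfl, if_neg hreal, add_zero]
        · by_cases h2 : α = conj β
          · subst h2
            rw [if_neg (Ne.symm h1), if_pos rfl, zero_add]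
          · rw [if_neg (Ne.symm h1), if_neg (Ne.symm h2), Multiset.count_eq_zero]
            exact fun hα => (hmem α hα).elim h1 h2
      have hcard := congrArg Multiset.card hsplit
      rw [h.card_roots, Multiset.card_add, Multiset.card_replicate, Multiset.card_replicate, hcnt] at hcard
      rw [hsplit, hcnt, show R.count β = g by omega, Multiset.insert_eq_cons, ← Multiset.singleton_add, nsmul_add,
        Multiset.nsmul_singleton, Multiset.nsmul_singleton]
  rw [hval, Multiset.map_nsmul, Multiset.prod_nsmul]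
  simp

end IsWeilPoly

end Groth.Agent.AVTors2

namespace Groth.Agent.AVTors2

open Polynomial in
theorem eval_zero_pos_of_forall_ne_zero {R : ℝ[X]} (hR : R.Monic) (h : ∀ x, R.eval x ≠ 0) : 0 < R.eval 0 := by
  rcases eq_or_ne R.natDegree 0 with h0 | h0
  · simp [hR.natDegree_eq_zero.1 h0]
  by_contra hle
  have hdeg : 0 < R.degree := natDegree_pos_iff_degree_pos.1 (Nat.pos_of_ne_zero h0)
  obtain ⟨x, hx⟩ := ((R.tendsto_atTop_of_leadingCoeff_nonneg hdeg (by rw [hR.leadingCoeff]; exact zero_le_one)).eventually_ge_atTop 1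
    |>.and (Filter.eventually_ge_atTop 0)).exists
  obtain ⟨c, -, hc⟩ := intermediate_value_Icc hx.2 R.continuous.continuousOn
    (show (0 : ℝ) ∈ Set.Icc (R.eval 0) (R.eval x) from ⟨not_lt.1 hle, zero_le_one.trans hx.1⟩)
  exact h c hc

open Polynomial in
/-- The only possible real roots are `±√q`, each of even multiplicity. -/
theorem IsWeilPoly.even_rootMultiplicity {P : ℤ[X]} {g q : ℕ} (h : IsWeilPoly P g q) :
    Even ((P.map (Int.castRingHom ℝ)).rootMultiplicity (Real.sqrt q)) ∧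
      Even ((P.map (Int.castRingHom ℝ)).rootMultiplicity (-Real.sqrt q)) := by
  set c := Real.sqrt q
  have hc : 0 < c := Real.sqrt_pos.2 (Nat.cast_pos.2 h.qpos)
  set Q := P.map (Int.castRingHom ℝ)
  have hQ : Q.Monic := h.monic.map _
  have hreal : ∀ x, Q.eval x = 0 → x = c ∨ x = -c := fun x hx => by
    have hmem : (x : ℂ) ∈ (P.map (Int.castRingHom ℂ)).roots := by
      rw [mem_roots (h.monic.map _).ne_zero, IsRoot.def,
        show Int.castRingHom ℂ = Complex.ofRealHom.comp (Int.castRingHom ℝ) from RingHom.ext_int _ _, ← map_map,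
        eval_map, ← Complex.ofRealHom_eq_coe, eval₂_at_apply, show eval x (map (Int.castRingHom ℝ) P) = 0 from hx, map_zero]
    have := h.norm _ hmem
    rw [Complex.norm_real, Real.norm_eq_abs] at this
    exact abs_eq hc.le |>.1 this
  obtain ⟨R₁, hR₁, hR₁'⟩ := exists_eq_pow_rootMultiplicity_mul_and_not_dvd Q hQ.ne_zero c
  have hR₁m : R₁.Monic := ((monic_X_sub_C c).pow _).of_mul_monic_left (hR₁ ▸ hQ)
  obtain ⟨R, hR, hR'⟩ := exists_eq_pow_rootMultiplicity_mul_and_not_dvd R₁ hR₁m.ne_zero (-c)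
  have hRm : R.Monic := ((monic_X_sub_C (-c)).pow _).of_mul_monic_left (hR ▸ hR₁m)
  have hbeq : R₁.rootMultiplicity (-c) = Q.rootMultiplicity (-c) := by
    conv_rhs => rw [hR₁]
    rw [rootMultiplicity_mul (hR₁ ▸ hQ.ne_zero),
      rootMultiplicity_eq_zero (p := (X - C c) ^ rootMultiplicity c Q) (by
        simp only [IsRoot.def, eval_pow, eval_sub, eval_X, eval_C]
        exact pow_ne_zero _ (by linarith)), zero_add]
  have hne : ∀ x, R.eval x ≠ 0 := fun x hx => by
    have h1 : R₁.eval x = 0 := by rw [hR, eval_mul, hx, mul_zero]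
    rcases hreal x (by rw [hR₁, eval_mul, h1, mul_zero]) with rfl | rfl
    · exact hR₁' (dvd_iff_isRoot.2 h1)
    · exact hR' (dvd_iff_isRoot.2 hx)
  have hpos := eval_zero_pos_of_forall_ne_zero hRm hne
  have hneg := eval_zero_pos_of_forall_ne_zero (R := C ((-1 : ℝ) ^ R.natDegree) * R.comp (-X)) (by
      rw [Monic, leadingCoeff_mul, leadingCoeff_C, leadingCoeff_comp (by simp), hRm.leadingCoeff, one_mul,
        leadingCoeff_neg, leadingCoeff_X, ← mul_pow, neg_mul_neg, one_mul, one_pow])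
    (fun x => by
      rw [eval_mul, eval_C, eval_comp]
      exact mul_ne_zero (pow_ne_zero _ (by norm_num)) (hne _))
  rw [eval_mul, eval_C, eval_comp] at hneg
  simp only [eval_neg, eval_X, neg_zero] at hneg
  have hRdeg : Even R.natDegree := by
    rcases Nat.even_or_odd R.natDegree with he | ho
    · exact he
    · rw [ho.neg_one_pow] at hneg; linarith
  have hQ0 : 0 < Q.eval 0 := by
    rw [eval_map, eval₂_at_zero, coeff_zero_eq_eval_zero, h.eval_zero]
    simp only [Int.coe_castRingHom, Int.cast_pow, Int.cast_natCast]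
    exact pow_pos (Nat.cast_pos.2 h.qpos) _
  rw [hR₁, hR, hbeq, eval_mul, eval_mul, eval_pow, eval_pow, eval_sub, eval_sub, eval_X, eval_C, eval_C, zero_sub,
    zero_sub, neg_neg] at hQ0
  have ha : Even (Q.rootMultiplicity c) := by
    rcases Nat.even_or_odd (Q.rootMultiplicity c) with he | ho
    · exact he
    · rw [ho.neg_pow] at hQ0
      have := mul_pos (pow_pos hc (Q.rootMultiplicity c)) (mul_pos (pow_pos hc (Q.rootMultiplicity (-c))) hpos)
      linarith
  refine ⟨ha, ?_⟩
  have hd : Q.natDegree = 2 * g := by rw [h.monic.natDegree_map, h.deg]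
  rw [hR₁, ((monic_X_sub_C c).pow _).natDegree_mul hR₁m, hR, ((monic_X_sub_C (-c)).pow _).natDegree_mul hRm,
    natDegree_pow, natDegree_pow, natDegree_X_sub_C, natDegree_X_sub_C, mul_one, mul_one, hbeq] at hd
  have : Even (Q.rootMultiplicity c + (Q.rootMultiplicity (-c) + R.natDegree)) := hd ▸ even_two_mul g
  rw [Nat.even_add, Nat.even_add] at this
  tauto

end Groth.Agent.AVTors2
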