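import Groth.Agent.AVFrob.Main
import Groth.Agent.AVTors2.HomFG
import Groth.Agent.AVTors2.PowMin
import Mathlib.RingTheory.Artinian.Ring
import Mathlib.RingTheory.SimpleModule.Basic
import Mathlib.Analysis.SpecialFunctions.Log.Basic
import Mathlib.Topology.Algebra.Polynomial
import Mathlib.Analysis.Polynomial.Basic

/-! Weil numbers: consequences of the Riemann hypothesis for abelian varieties. -/

set_option backward.isDefEq.respectTransparency false
set_option backward.isDefEq.respectTransparency.types false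
set_option linter.style.haveILetI false
set_option linter.unusedSectionVars false
set_option synthInstance.maxHeartbeats 400000
set_option maxHeartbeats 1600000
set_option autoImplicit false

universe u

open CategoryTheory AlgebraicGeometry MonoidalCategory CartesianMonoidalCategory MonObj
open scoped Polynomial

namespace Groth.Agent.AVTors2

variable {k Ω : Type u} [Field k] [Field Ω] [Algebra k Ω] [IsAlgClosure k Ω]
  {l : ℕ} [Fact l.Prime] {A : Over (Spec (CommRingCat.of k))} [GrpObj A] [IsCommMonObj A]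
  [IsProper A.hom] [GeometricallyIntegral A.hom]
  [Module.Free ℤ_[l] (AbDual.TateMod A l (SGA7.pt Ω))] [Module.Finite ℤ_[l] (AbDual.TateMod A l (SGA7.pt Ω))]

theorem monic_of_charpoly {f : A ⟶ A} [IsMonHom f] {P : ℤ[X]}
    (hP : (AbDual.tateMapₗ (l := l) (T := SGA7.pt Ω) f).charpoly = P.map (Int.castRingHom ℤ_[l])) : P.Monic :=
  Polynomial.monic_of_injective Int.cast_injective (hP ▸ LinearMap.charpoly_monic _)

/-- The integral characteristic polynomial has degree `2g` and its value at `0` is a degree, so non-negative. -/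
theorem charpoly_int_props (hl : (l : k) ≠ 0) {g : ℕ} (hg : topologicalKrullDim A.left = g) {f : A ⟶ A} [IsMonHom f] {P : ℤ[X]}
    (hP : (AbDual.tateMapₗ (l := l) (T := SGA7.pt Ω) f).charpoly = P.map (Int.castRingHom ℤ_[l])) :
    P.natDegree = 2 * g ∧ 0 ≤ P.eval 0 := by
  haveI : IsAlgClosed Ω := IsAlgClosure.isAlgClosed k
  obtain ⟨g', P', hg', -, hdata, hdeg⟩ := Groth.Agent.AVDegPoly.exists_charpoly_data (Ω := Ω) f
  obtain ⟨hrank, hchar⟩ := hdata l hl
  have hgg : g' = g := by exact_mod_cast hg'.symm.trans hg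
  subst g'
  obtain rfl : P = P' := Polynomial.map_injective _ Int.cast_injective (hP.symm.trans hchar)
  refine ⟨?_, ?_⟩
  · rw [← (monic_of_charpoly hP).natDegree_map (Int.castRingHom ℤ_[l]), ← hP, LinearMap.charpoly_natDegree]
    exact hrank
  · haveI : Nonempty A.left := ⟨(η[A]).left.base (default : PrimeSpectrum k)⟩
    by_cases hfin : IsFinite f.left
    · obtain ⟨b⟩ := (inferInstance : Nonempty A.left)
      have h1 := hdeg.1 hfin b
      exact_mod_cast h1 ▸ (Nat.cast_nonneg (α := ℚ) (Scheme.Hom.finrank f.left b))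
    · exact_mod_cast (hdeg.2 hfin).ge

variable [Finite k]

/-- Squarefree annihilator of Frobenius whose roots have absolute value `√q`; the characteristic polynomial divides a power. -/
theorem frob_props (πA : A ⟶ A) [IsMonHom πA] (hπb : πA.left.base = 𝟙 _)
    (hπle : ∀ U : A.left.Opens, U ≤ πA.left ⁻¹ᵁ U)
    (hπapp : ∀ (U : A.left.Opens) (s : Γ(A.left, U)), (πA.left.appLE U U (hπle U)).hom s = s ^ Nat.card k)
    {P : ℤ[X]} (hP : (AbDual.tateMapₗ (l := l) (T := SGA7.pt Ω) πA).charpoly = P.map (Int.castRingHom ℤ_[l])) :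
    ∀ ω ∈ (P.map (Int.castRingHom ℂ)).roots, ‖ω‖ = Real.sqrt (Nat.card k) := by
  obtain ⟨h, hhm, hh, -, hhroots⟩ := AVFrob.exists_weil_poly_frob πA (AVFrob.isPowMap_frob πA hπb hπle hπapp)
  have hd := Polynomial.map_dvd (algebraMap ℚ ℂ)
    (AVFrob.charpoly_dvd_pow (SGA7.pt Ω) πA (monic_of_charpoly hP) hP hh)
  rw [Polynomial.map_pow, Polynomial.map_map, Polynomial.map_map,
    show (algebraMap ℚ ℂ).comp (Int.castRingHom ℚ) = Int.castRingHom ℂ from RingHom.ext_int _ _] at hd
  intro ω hω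
  refine hhroots ω ?_
  obtain ⟨c, hc⟩ := hd
  have := congrArg (Polynomial.eval ω) hc
  rw [Polynomial.eval_pow, Polynomial.eval_mul, Polynomial.isRoot_of_mem_roots hω, zero_mul] at this
  exact eq_zero_of_pow_eq_zero this

omit [Module.Free ℤ_[l] (AbDual.TateMod A l (SGA7.pt Ω))] [Module.Finite ℤ_[l] (AbDual.TateMod A l (SGA7.pt Ω))] in
theorem squarefree_minpoly_frob (πA : A ⟶ A) [IsMonHom πA] (hπb : πA.left.base = 𝟙 _)
    (hπle : ∀ U : A.left.Opens, U ≤ πA.left ⁻¹ᵁ U)
    (hπapp : ∀ (U : A.left.Opens) (s : Γ(A.left, U)), (πA.left.appLE U U (hπle U)).hom s = s ^ Nat.card k) :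
    IsIntegral ℚ (EndAV.toEnd0 (EndAV.End.of πA)) ∧ Squarefree (minpoly ℚ (EndAV.toEnd0 (EndAV.End.of πA))) := by
  obtain ⟨h, hhm, hh, hsf, -⟩ := AVFrob.exists_weil_poly_frob πA (AVFrob.isPowMap_frob πA hπb hπle hπapp)
  have h0 : Polynomial.aeval (EndAV.toEnd0 (EndAV.End.of πA)) (h.map (Int.castRingHom ℚ)) = 0 := by
    rw [← algebraMap_int_eq ℚ, Polynomial.aeval_map_algebraMap, Polynomial.aeval_algHom_apply, Polynomial.aeval_def]
    rw [show algebraMap ℤ (EndAV.End A) = Int.castRingHom (EndAV.End A) from RingHom.ext_int _ _, hh, map_zero]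
  exact ⟨⟨_, hhm.map _, h0⟩, hsf.squarefree_of_dvd (minpoly.dvd ℚ _ h0)⟩

theorem mem_adjoin_singleton {R : Type*} [Ring R] [Algebra ℚ R] {x : R} (z : Algebra.adjoin ℚ {x}) :
    ∃ p : ℚ[X], (z : R) = Polynomial.aeval x p := by
  have : (z : R) ∈ (Polynomial.aeval (R := ℚ) x).range := by
    rw [← Algebra.adjoin_singleton_eq_range_aeval]
    exact z.2
  obtain ⟨p, hp⟩ := this
  exact ⟨p, hp.symm⟩

theorem isReduced_adjoin {R : Type*} [Ring R] [Algebra ℚ R] {x : R} (hsf : Squarefree (minpoly ℚ x)) :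
    IsReduced (Algebra.adjoin ℚ {x}) := by
  refine ⟨fun z ⟨n, hn⟩ => ?_⟩
  obtain ⟨p, hp⟩ := mem_adjoin_singleton z
  have h1 : Polynomial.aeval x (p ^ n) = 0 := by
    rw [map_pow, ← hp, ← SubmonoidClass.coe_pow, hn, ZeroMemClass.coe_zero]
  obtain ⟨c, hc⟩ := hsf.isRadical n p (minpoly.dvd ℚ x h1)
  apply Subtype.ext
  rw [hp, hc, map_mul, minpoly.aeval, zero_mul, ZeroMemClass.coe_zero]

theorem isField_adjoin {R : Type*} [Ring R] [Algebra ℚ R] {x : R} (hirr : Irreducible (minpoly ℚ x)) :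
    IsField (Algebra.adjoin ℚ {x}) := by
  refine ⟨⟨0, 1, fun h01 => hirr.not_isUnit ?_⟩, fun a b => ?_, fun {a} ha => ?_⟩
  · haveI : Subsingleton R := subsingleton_of_zero_eq_one (congrArg Subtype.val h01)
    rw [minpoly.subsingleton]
    exact isUnit_one
  · obtain ⟨p, hp⟩ := mem_adjoin_singleton a
    obtain ⟨q, hq⟩ := mem_adjoin_singleton b
    exact Subtype.ext (by rw [Subalgebra.coe_mul, Subalgebra.coe_mul, hp, hq, ← map_mul, ← map_mul, _root_.mul_comm])
  · obtain ⟨p, hp⟩ := mem_adjoin_singleton a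
    have hnd : ¬ minpoly ℚ x ∣ p := fun ⟨c, hc⟩ => ha (Subtype.ext (by rw [hp, hc, map_mul, minpoly.aeval, zero_mul]; rfl))
    obtain ⟨u, v, huv⟩ := (hirr.coprime_iff_not_dvd.2 hnd).symm
    refine ⟨⟨Polynomial.aeval x u, Polynomial.aeval_mem_adjoin_singleton _ _⟩, Subtype.ext ?_⟩
    have := congrArg (Polynomial.aeval x) huv
    rw [map_add, map_mul, map_mul, minpoly.aeval, mul_zero, add_zero, map_one] at this
    rw [Subalgebra.coe_mul, OneMemClass.coe_one, hp, ← this, ← map_mul, ← map_mul, _root_.mul_comm]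

omit [Finite k] in
/-- An endomorphism is killed by its characteristic polynomial on the Tate module. -/
theorem aeval_charpoly_eq_zero (hl : (l : k) ≠ 0) {f : A ⟶ A} [IsMonHom f] {P : ℤ[X]}
    (hP : (AbDual.tateMapₗ (l := l) (T := SGA7.pt Ω) f).charpoly = P.map (Int.castRingHom ℤ_[l])) :
    Polynomial.aeval (EndAV.End.of f) P = 0 := by
  haveI : IsAlgClosed Ω := IsAlgClosure.isAlgClosed k
  obtain ⟨hfree, hfin⟩ := finite_free_end A
  set x := Polynomial.aeval (EndAV.End.of f) P with hx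
  by_contra hne
  have h1 : EndAV.End.tateRep (A := A) l (SGA7.pt Ω) x = 0 := by
    rw [hx, Polynomial.aeval_def, Polynomial.hom_eval₂,
      show (EndAV.End.tateRep (A := A) l (SGA7.pt Ω)).comp (algebraMap ℤ (EndAV.End A)) =
        (algebraMap ℤ_[l] (Module.End ℤ_[l] (AbDual.TateMod A l (SGA7.pt Ω)))).comp (Int.castRingHom ℤ_[l]) from
        RingHom.ext_int _ _,
      ← Polynomial.eval₂_map, ← hP, ← Polynomial.aeval_def]
    exact LinearMap.aeval_self_charpoly _
  have hli : LinearIndependent ℤ fun _ : Fin 1 => (x : EndAV.Hom A A) :=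
    LinearIndependent.of_subsingleton 0 hne
  exact (linearIndependent_tateMap Ω l hl (fun _ : Fin 1 => (x : EndAV.Hom A A)) hli).ne_zero 0 h1

end Groth.Agent.AVTors2
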