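import Groth.Agent.AVTors2.WeilBound
import Mathlib.Data.Multiset.Powerset
import Mathlib.Data.Multiset.Antidiagonal
import Mathlib.Algebra.BigOperators.Group.Finset.Basic

/-! The functional equation of the zeta function built from a multiset of Weil numbers. -/

set_option autoImplicit false

namespace Groth.Agent.AVTors2

variable {K : Type*} [Field K]

/-- The sign of a sub-multiset. -/
def sgnCard (I : Multiset K) : ℤ := (-1) ^ (I.card + 1)

theorem prod_map_inv' (s : Multiset (Multiset K)) (f : Multiset K → K) :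
    (s.map fun I => (f I)⁻¹).prod = (s.map f).prod⁻¹ := by
  rw [← Multiset.prod_map_inv]

/-- Signed product of `c * I.prod` over all sub-multisets of a multiset with at least two elements. -/
theorem signed_prod_powerset (c : K) (hc : c ≠ 0) (s : Multiset K) (hs : ∀ a ∈ s, a ≠ 0) (h2 : 2 ≤ s.card) :
    (s.powerset.map fun I => (c * I.prod) ^ sgnCard I).prod = 1 := by
  obtain ⟨a, ha'⟩ := Multiset.card_pos_iff_exists_mem.1 (by omega : 0 < s.card)
  obtain ⟨s, rfl⟩ := Multiset.exists_cons_of_mem ha'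
  have hsp : ∀ I ∈ s.powerset, I.prod ≠ 0 := fun I hI => Multiset.prod_ne_zero fun h0 =>
    hs 0 (Multiset.mem_cons_of_mem (Multiset.mem_of_le (Multiset.mem_powerset.1 hI) h0)) rfl
  have ha : a ≠ 0 := hs a (Multiset.mem_cons_self a s)
  rw [Multiset.powerset_cons, Multiset.map_add, Multiset.prod_add, Multiset.map_map, ← Multiset.prod_map_mul]
  have e : ∀ I ∈ s.powerset, (c * I.prod) ^ sgnCard I * ((fun I => (c * I.prod) ^ sgnCard I) ∘ Multiset.cons a) I =
      (a⁻¹) ^ sgnCard I := fun I hI => by
    have hneg : sgnCard (a ::ₘ I) = -sgnCard I := by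
      simp only [sgnCard, Multiset.card_cons, pow_succ]
      ring
    have hx : c * I.prod ≠ 0 := mul_ne_zero hc (hsp I hI)
    rw [Function.comp_apply, hneg, Multiset.prod_cons, mul_left_comm, zpow_neg, ← inv_zpow, ← mul_zpow, mul_inv,
      mul_left_comm, mul_inv_cancel₀ hx, mul_one]
  rw [Multiset.map_congr rfl e]
  have key : ∀ (b : K), b ≠ 0 → ∀ t : Multiset K, 0 < t.card → (t.powerset.map fun I => b ^ sgnCard I).prod = 1 := by
    intro b hb t ht
    obtain ⟨x, hx'⟩ := Multiset.card_pos_iff_exists_mem.1 ht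
    obtain ⟨t, rfl⟩ := Multiset.exists_cons_of_mem hx'
    rw [Multiset.powerset_cons, Multiset.map_add, Multiset.prod_add, Multiset.map_map, ← Multiset.prod_map_mul]
    refine Multiset.prod_eq_one fun y hy => ?_
    obtain ⟨I, -, rfl⟩ := Multiset.mem_map.1 hy
    rw [Function.comp_apply, ← zpow_add₀ hb,
      show sgnCard I + sgnCard (x ::ₘ I) = 0 by simp [sgnCard, pow_succ], zpow_zero]
  exact key _ (inv_ne_zero ha) s (by rw [Multiset.card_cons] at h2; omega)

theorem prod_range_powersetCard {M : Type*} [CommMonoid M] (s : Multiset K) (f : Multiset K → M) :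
    ∏ j ∈ Finset.range (s.card + 1), ((s.powersetCard j).map f).prod = (s.powerset.map f).prod := by
  conv_rhs => rw [← Multiset.bind_powerset_len s, Multiset.map_bind, Multiset.prod_bind]
  rfl

/-- Functional equation. -/
theorem signed_prod_eq (s : Multiset K) (hs : ∀ a ∈ s, a ≠ 0) (h2 : 2 ≤ s.card) (heven : Even s.card) (Q t : K)
    (hQ : s.prod = Q) (ht : t ≠ 0) :
    (s.powerset.map fun I => (1 - I.prod * (Q * t)⁻¹) ^ sgnCard I).prod =
      (s.powerset.map fun I => (1 - I.prod * t) ^ sgnCard I).prod := by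
  have h0 : ∀ I ∈ s.powerset, I.prod ≠ 0 := fun I hI => Multiset.prod_ne_zero fun h0 =>
    hs 0 (Multiset.mem_of_le (Multiset.mem_powerset.1 hI) h0) rfl
  have e : ∀ p ∈ s.antidiagonal, (1 - p.1.prod * (Q * t)⁻¹) ^ sgnCard p.1 =
      ((-t) * p.2.prod)⁻¹ ^ sgnCard p.2 * (1 - p.2.prod * t) ^ sgnCard p.2 := by
    intro p hp
    have hp' := Multiset.mem_antidiagonal.1 hp
    have h2' : p.2.prod ≠ 0 := h0 _ (Multiset.mem_powerset.2 (hp' ▸ Multiset.le_add_left p.2 p.1))
    have h1' : p.1.prod ≠ 0 := h0 _ (Multiset.mem_powerset.2 (hp' ▸ Multiset.le_add_right p.1 p.2))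
    have hsgn : sgnCard p.1 = sgnCard p.2 := by
      have hc : p.1.card + p.2.card = s.card := by rw [← Multiset.card_add, hp']
      have : Even p.1.card ↔ Even p.2.card := by rw [← hc, Nat.even_add] at heven; exact heven
      rcases Nat.even_or_odd p.2.card with he | ho
      · simp [sgnCard, pow_succ, (this.2 he).neg_one_pow, he.neg_one_pow]
      · have ho' : Odd p.1.card := Nat.not_even_iff_odd.1 fun he => Nat.not_even_iff_odd.2 ho (this.1 he)
        simp [sgnCard, pow_succ, ho'.neg_one_pow, ho.neg_one_pow]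
    rw [hsgn, ← mul_zpow, ← hQ, ← hp', Multiset.prod_add]
    congr 1
    field_simp
    ring
  have hl : (s.powerset.map fun I => (1 - I.prod * (Q * t)⁻¹) ^ sgnCard I).prod =
      (s.antidiagonal.map fun p => (1 - p.1.prod * (Q * t)⁻¹) ^ sgnCard p.1).prod := by
    rw [← Multiset.antidiagonal_map_fst, Multiset.map_map]
    rfl
  rw [hl, Multiset.map_congr rfl e, Multiset.prod_map_mul]
  have hr : ∀ f : Multiset K → K, (s.antidiagonal.map fun p => f p.2).prod = (s.powerset.map f).prod := fun f => by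
    rw [← Multiset.antidiagonal_map_snd, Multiset.map_map]
    rfl
  rw [hr fun I => ((-t) * I.prod)⁻¹ ^ sgnCard I, hr fun I => (1 - I.prod * t) ^ sgnCard I]
  simp only [inv_zpow]
  rw [prod_map_inv', signed_prod_powerset (-t) (neg_ne_zero.2 ht) s hs h2, inv_one, one_mul]

/-- The functional equation as an alternating product of polynomials. -/
theorem zeta_functional_equation (s : Multiset K) (hs : ∀ a ∈ s, a ≠ 0) (g : ℕ) (hg : 1 ≤ g) (hcard : s.card = 2 * g)
    (Q t : K) (hQ : s.prod = Q) (ht : t ≠ 0) :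
    ∏ j ∈ Finset.range (2 * g + 1), (Polynomial.eval (Q * t)⁻¹ (((s.powersetCard j).map
        fun I => (1 : Polynomial K) - Polynomial.C I.prod * Polynomial.X).prod)) ^ ((-1 : ℤ) ^ (j + 1)) =
      ∏ j ∈ Finset.range (2 * g + 1), (Polynomial.eval t (((s.powersetCard j).map
        fun I => (1 : Polynomial K) - Polynomial.C I.prod * Polynomial.X).prod)) ^ ((-1 : ℤ) ^ (j + 1)) := by
  have e : ∀ u : K, ∏ j ∈ Finset.range (2 * g + 1), (Polynomial.eval u (((s.powersetCard j).map
      fun I => (1 : Polynomial K) - Polynomial.C I.prod * Polynomial.X).prod)) ^ ((-1 : ℤ) ^ (j + 1)) =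
      (s.powerset.map fun I => (1 - I.prod * u) ^ sgnCard I).prod := fun u => by
    rw [← prod_range_powersetCard, hcard]
    refine Finset.prod_congr rfl fun j _ => ?_
    rw [Polynomial.eval_multiset_prod, Multiset.map_map, ← Multiset.prod_map_zpow]
    refine congrArg Multiset.prod (Multiset.map_congr rfl fun I hI => ?_)
    rw [sgnCard, (Multiset.mem_powersetCard.1 hI).2]
    simp
  rw [e, e]
  exact signed_prod_eq s hs (by omega) (by rw [hcard]; exact even_two_mul g) Q t hQ ht

end Groth.Agent.AVTors2
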